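import Mathlib
import Cfsg.Agent.CharBasic.Kernel
import Cfsg.Agent.CharBasic.Complete
import Cfsg.Agent.CharInduce.Ops
import Cfsg.Agent.CharInduce.Induce
import Cfsg.Agent.CharInduce.Gallagher
import Cfsg.Agent.CharInduce.Transport

/-!
The going-down theorem for a chief factor with abelian quotient (Isaacs 6.18).
-/

set_option autoImplicit false

namespace Cfsg.Agent.H34

open scoped ComplexConjugate
open Cfsg.Agent.CharBasic Cfsg.Agent.CharInduce

universe u

section Restriction

variable {K : Type u} [Group K] [Fintype K]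

/-- `(L : ℂ) ⟨θ|L, θ|L⟩ ≤ |K|`, with equality exactly when `θ` vanishes off `L` -/
theorem card_mul_norm_res (L : Subgroup K) [Fintype L] {θ : K → ℂ}
    (hθ : Cfsg.IsIrrCharacter K θ) {r : ℝ}
    (hr : Cfsg.classInner (fun l : L => θ l) (fun l : L => θ l) = (r : ℂ)) :
    (Nat.card L : ℝ) * r ≤ (Nat.card K : ℝ) ∧
      ((∀ x : K, x ∉ L → θ x = 0) → (Nat.card L : ℝ) * r = (Nat.card K : ℝ)) := by
  classical
  have h1 : ∑ x : K, ‖θ x‖ ^ 2 = (Nat.card K : ℝ) := by
    have h := classInner_irr hθ hθ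
    rw [if_pos rfl, classInner_def, inv_mul_eq_iff_eq_mul₀ (Nat.cast_ne_zero.2 Nat.card_pos.ne'),
      mul_one] at h
    simp only [Complex.mul_conj'] at h
    exact_mod_cast h
  have h2 : ∑ l : L, ‖θ (l : K)‖ ^ 2 = (Nat.card L : ℝ) * r := by
    rw [classInner_def, inv_mul_eq_iff_eq_mul₀ (Nat.cast_ne_zero.2 Nat.card_pos.ne')] at hr
    simp only [Complex.mul_conj'] at hr
    exact_mod_cast hr
  have h3 : ∑ l : L, ‖θ (l : K)‖ ^ 2 = ∑ x ∈ Finset.univ.filter (fun x => x ∈ L), ‖θ x‖ ^ 2 :=
    (Finset.sum_subtype _ (by simp) (fun x => ‖θ x‖ ^ 2)).symm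
  rw [← h2, h3, ← h1]
  refine ⟨Finset.sum_le_sum_of_subset_of_nonneg (Finset.subset_univ _) fun x _ _ => sq_nonneg _,
    fun hvan => ?_⟩
  refine Finset.sum_subset (Finset.subset_univ _) fun x _ hx => ?_
  rw [hvan x (fun h => hx (Finset.mem_filter.2 ⟨Finset.mem_univ _, h⟩))]
  simp

/-- the sum of the inflated linear characters of an abelian quotient is induced from `1` -/
theorem indFun_one_eq_sum (L : Subgroup K) [L.Normal] (hab : ∀ a b : K ⧸ L, a * b = b * a) :
    Cfsg.indFun L (fun _ => 1) =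
      ∑ η : Cfsg.IrrCharacter (K ⧸ L), fun x : K => (η : K ⧸ L → ℂ) x := by
  classical
  funext x
  have hsum : ∑ η : Cfsg.IrrCharacter (K ⧸ L), (η : K ⧸ L → ℂ) x =
      if (x : K ⧸ L) = 1 then (Nat.card (K ⧸ L) : ℂ) else 0 := by
    rw [← sum_degree_mul_apply (x : K ⧸ L)]
    exact Finset.sum_congr rfl fun η _ => by
      rw [CharInduce.IsIrr.degree_one_of_comm hab η.2, one_mul]
  rw [Finset.sum_apply, hsum]
  by_cases hx : x ∈ L
  · rw [if_pos ((QuotientGroup.eq_one_iff x).2 hx)]
    have : x = ((⟨x, hx⟩ : L) : K) := rfl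
    rw [this, indFun_normal_coe]
    simp only [CharInduce.conjFun, Finset.sum_const, Finset.card_univ, nsmul_eq_mul, mul_one]
    rw [← Nat.card_eq_fintype_card, ← L.card_mul_index, Nat.cast_mul, ← mul_assoc,
      inv_mul_cancel₀ (card_ne_zero_complex L), one_mul, Subgroup.index_eq_card]
  · rw [if_neg (fun h => hx ((QuotientGroup.eq_one_iff x).1 h)),
      indFun_eq_zero_of_normal L _ hx]

end Restriction

variable {G : Type u} [Group G] [Fintype G]

/-- conjugation by `g` on a normal subgroup -/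
def conjNormalEquiv (K : Subgroup G) [K.Normal] (g : G) : K ≃* K := MulAut.conjNormal g

/-- Isaacs 6.18 -/
theorem going_down (K L : Subgroup G) [hK : K.Normal] [hL : L.Normal] (hLK : L < K)
    (hchief : ∀ M : Subgroup G, M.Normal → L ≤ M → M ≤ K → M = L ∨ M = K) (hab : ⁅K, K⁆ ≤ L)
    (ϑ : K → ℂ) (hϑ : Cfsg.IsIrrCharacter K ϑ)
    (hinv : ∀ (g : G) (n : K), ϑ ⟨g * n * g⁻¹, hK.conj_mem (n : G) n.2 g⟩ = ϑ n) :
    Cfsg.IsIrrCharacter L (fun x : L => ϑ ⟨(x : G), hLK.le x.2⟩) ∨
      (∃ (φ : L → ℂ) (e : ℕ), Cfsg.IsIrrCharacter L φ ∧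
        (fun x : L => ϑ ⟨(x : G), hLK.le x.2⟩) = (e : ℂ) • φ ∧ e ^ 2 = L.relIndex K) ∨
      (∃ F : Finset (L → ℂ), (∀ φ ∈ F, Cfsg.IsIrrCharacter L φ) ∧ F.card = L.relIndex K ∧
        (fun x : L => ϑ ⟨(x : G), hLK.le x.2⟩) = ∑ φ ∈ F, φ) := by
  classical
  set L' := L.subgroupOf K with hL'
  haveI : Fintype K := Fintype.ofFinite _
  haveI : Fintype L' := Fintype.ofFinite _
  have habq : ∀ a b : K ⧸ L', a * b = b * a := by
    intro a b
    obtain ⟨a, rfl⟩ := QuotientGroup.mk'_surjective L' a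
    obtain ⟨b, rfl⟩ := QuotientGroup.mk'_surjective L' b
    rw [← commutatorElement_eq_one_iff_mul_comm, ← map_commutatorElement]
    exact (QuotientGroup.eq_one_iff _).2 (hab (Subgroup.commutator_mem_commutator a.2 b.2))
  let e : L ≃* L' := (Subgroup.subgroupOfEquivOfLe hLK.le).symm
  let R : L' → ℂ := fun y => ϑ y
  have hR : Cfsg.IsCharacter L' R := CharInduce.IsChar.res (IsIrr.isCharacter hϑ) L'
  have hres : ∀ x : L, ϑ ⟨(x : G), hLK.le x.2⟩ = R (e x) := fun x => rfl
  have htrans : ∀ φ : L' → ℂ, Cfsg.IsIrrCharacter L' φ → Cfsg.IsIrrCharacter L (fun x => φ (e x)) :=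
    fun φ hφ => CharInduce.IsIrr.comp hφ e.toMonoidHom e.surjective
  obtain ⟨φ, hφ⟩ := exists_constituent hR (fun h => IsIrr.one_ne_zero hϑ (congrFun h 1))
  obtain ⟨c, hc⟩ := classInner_isChar_nat hR (IsIrr.isCharacter φ.2)
  have hc0 : 0 < c := Nat.pos_of_ne_zero fun h => hφ (by rw [hc, h, Nat.cast_zero])
  set I := CharInduce.inertia L' (φ : L' → ℂ) with hI
  have hLI : L' ≤ I := CharInduce.le_inertia L' (IsIrr.isClassFunction φ.2)
  -- the inertia group is normal in `G`
  have hInK : ∀ x ∈ I, ∀ k : K, k * x * k⁻¹ ∈ I := by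
    intro x hx k
    have hcomm : k * x * k⁻¹ * x⁻¹ ∈ I := hLI (hab (Subgroup.commutator_mem_commutator k.2 x.2))
    simpa [mul_assoc] using mul_mem hcomm hx
  have hIG : ∀ (g : G), ∀ x ∈ I, (MulAut.conjNormal g : K ≃* K) x ∈ I := by
    intro g x hx
    let τ : L' → L' := fun n => ⟨(MulAut.conjNormal g : K ≃* K) n, hL.conj_mem _ n.2 g⟩
    let τe : L' ≃* L' :=
      { toFun := τ
        invFun := fun n => ⟨(MulAut.conjNormal g⁻¹ : K ≃* K) n, hL.conj_mem _ n.2 g⁻¹⟩
        left_inv := fun n => Subtype.ext (Subtype.ext (by simp [τ, mul_assoc]))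
        right_inv := fun n => Subtype.ext (Subtype.ext (by simp [τ, mul_assoc]))
        map_mul' := fun a b => Subtype.ext (map_mul (MulAut.conjNormal g) (a : K) b) }
    have hφg : Cfsg.IsIrrCharacter L' (fun n => (φ : L' → ℂ) (τe n)) :=
      CharInduce.IsIrr.comp φ.2 τe.toMonoidHom τe.surjective
    have hRg : (fun n => R (τe n)) = R := funext fun n => hinv g (n : K)
    have hne : Cfsg.classInner R (fun n => (φ : L' → ℂ) (τe n)) ≠ 0 := by
      rw [← hRg, classInner_comp_mulEquiv τe R φ]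
      exact hφ
    obtain ⟨k, hk⟩ := exists_conjFun_eq_of_constituent L' hϑ φ.2 hφg hφ hne
    rw [hI, CharInduce.mem_inertia]
    funext n
    obtain ⟨m, rfl⟩ := τe.surjective n
    have hkx := hInK x hx k
    rw [hI, CharInduce.mem_inertia] at hkx
    have e1 := congrFun hkx ⟨k * m * k⁻¹, (inferInstance : L'.Normal).conj_mem _ m.2 k⟩
    have e2 := congrFun hk ⟨x * m * x⁻¹, (inferInstance : L'.Normal).conj_mem _ m.2 x⟩
    have e3 := congrFun hk m
    simp only [CharInduce.conjFun] at e1 e2 e3 ⊢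
    refine Eq.trans ?_ (e2.trans (Eq.trans ?_ (e1.trans e3.symm)))
    · refine congrArg (φ : L' → ℂ) (Subtype.ext (Subtype.ext ?_))
      simp [τe, τ]
    · refine congrArg (φ : L' → ℂ) (Subtype.ext ?_)
      group
  set M := I.map K.subtype with hM
  have hMn : M.Normal := ⟨fun y hy g => by
    obtain ⟨x, hx, rfl⟩ := Subgroup.mem_map.1 hy
    exact ⟨_, hIG g x hx, by simp⟩⟩
  have hLM : L ≤ M := fun x hx => ⟨⟨x, hLK.le hx⟩, hLI hx, rfl⟩
  have hidx : L.relIndex K = L'.index := rfl
  have hcl := CharInduce.clifford L' hϑ φ.2 hφ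
  have hdeg := CharInduce.clifford_degree L' hϑ φ.2 hφ
  change R = _ at hcl
  set O := Finset.univ.image (CharInduce.conjFun L' (φ : L' → ℂ)) with hO
  have hOirr : ∀ ψ ∈ O, Cfsg.IsIrrCharacter L' ψ := by
    intro ψ hψ
    obtain ⟨k, -, rfl⟩ := Finset.mem_image.1 hψ
    exact isIrrCharacter_conjFun L' φ.2 k
  have hOcard : O.card = I.index := by
    have h1 := congrFun hcl 1
    have h2 : ∀ ψ ∈ O, ψ 1 = (φ : L' → ℂ) 1 := by
      intro ψ hψ
      obtain ⟨k, -, rfl⟩ := Finset.mem_image.1 hψ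
      exact congrArg (φ : L' → ℂ) (Subtype.ext (by simp))
    simp only [Pi.smul_apply, Finset.sum_apply, smul_eq_mul] at h1
    rw [Finset.sum_congr rfl h2, Finset.sum_const, nsmul_eq_mul] at h1
    have h3 : ϑ 1 = R 1 := rfl
    have hc' : Cfsg.classInner (fun n : L' => ϑ n) (φ : L' → ℂ) = (c : ℂ) := hc
    rw [hc'] at h1
    rw [h3, h1, hc', ← hI, ← mul_assoc] at hdeg
    have h4 := mul_right_cancel₀ (IsIrr.one_ne_zero φ.2) hdeg
    have h5 : c * O.card = c * I.index := by exact_mod_cast h4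
    exact Nat.eq_of_mul_eq_mul_left hc0 h5
  have hnorm : Cfsg.classInner R R = ((c : ℂ) ^ 2 * (I.index : ℂ)) := by
    rw [hcl, classInner_smul_left, classInner_smul_right, classInner_sum_left,
      Finset.sum_congr rfl fun ψ hψ => by
        rw [classInner_sum_right, Finset.sum_congr rfl fun ψ' hψ' =>
          classInner_irr (hOirr ψ hψ) (hOirr ψ' hψ'), Finset.sum_ite_eq, if_pos hψ],
      Finset.sum_const, hOcard, nsmul_eq_mul, mul_one]
    have hc' : Cfsg.classInner (fun n : L' => ϑ n) (φ : L' → ℂ) = (c : ℂ) := hc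
    rw [hc', Complex.conj_natCast]
    ring
  have hineq := card_mul_norm_res L' hϑ (r := ((c ^ 2 * I.index : ℕ) : ℝ))
    (by rw [Complex.ofReal_natCast, Nat.cast_mul, Nat.cast_pow]; exact hnorm)
  rcases hchief M hMn hLM (Subgroup.map_subtype_le I) with hML | hMK
  · -- orbit of full size
    right; right
    have hIL : I = L' := by
      refine le_antisymm (fun x hx => ?_) hLI
      have : (x : G) ∈ M := ⟨x, hx, rfl⟩
      rw [hML] at this
      exact this
    have hc1 : c = 1 := by
      have h1 : Nat.card L' * (c ^ 2 * I.index) ≤ Nat.card K := by exact_mod_cast hineq.1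
      rw [hIL, ← L'.card_mul_index] at h1
      have h2 := Nat.le_of_mul_le_mul_left h1 Nat.card_pos
      have hi : 0 < L'.index := Nat.pos_of_ne_zero Subgroup.index_ne_zero_of_finite
      have h3 : c ^ 2 * L'.index ≤ 1 * L'.index := by rwa [one_mul]
      have h4 := Nat.le_of_mul_le_mul_right h3 hi
      nlinarith
    refine ⟨O.image (fun ψ : L' → ℂ => fun x : L => ψ (e x)), ?_, ?_, ?_⟩
    · intro ψ hψ
      obtain ⟨ψ', hψ', rfl⟩ := Finset.mem_image.1 hψ
      exact htrans ψ' (hOirr ψ' hψ')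
    · rw [Finset.card_image_of_injective _ (fun a b h => funext fun y => by
        obtain ⟨x, rfl⟩ := e.surjective y
        exact congrFun h x), hOcard, hIL, hidx]
    · rw [Finset.sum_image (fun a _ b _ h => funext fun y => by
        obtain ⟨x, rfl⟩ := e.surjective y
        exact congrFun h x)]
      funext x
      have hc' : Cfsg.classInner (fun n : L' => ϑ n) (φ : L' → ℂ) = (c : ℂ) := hc
      rw [hres, hcl, hc', hc1, Nat.cast_one, one_smul]
      simp [Finset.sum_apply]
  · -- invariant constituent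
    have hItop : I = ⊤ := by
      refine eq_top_iff.2 fun x _ => ?_
      have : (x : G) ∈ M := by rw [hMK]; exact x.2
      obtain ⟨y, hy, hyx⟩ := Subgroup.mem_map.1 this
      rwa [← Subtype.ext hyx]
    have hinvφ : ∀ k : K, CharInduce.conjFun L' (φ : L' → ℂ) k = (φ : L' → ℂ) := fun k => by
      have : k ∈ I := by rw [hItop]; exact Subgroup.mem_top k
      exact this
    have hc' : Cfsg.classInner (fun n : L' => ϑ n) (φ : L' → ℂ) = (c : ℂ) := hc
    have hRφ : R = (c : ℂ) • (φ : L' → ℂ) := by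
      rw [hcl, hc']
      congr 1
      have : O = {(φ : L' → ℂ)} := by
        refine Finset.eq_singleton_iff_unique_mem.2 ⟨Finset.mem_image.2 ⟨1, Finset.mem_univ _, hinvφ 1⟩, ?_⟩
        intro ψ hψ
        obtain ⟨k, -, rfl⟩ := Finset.mem_image.1 hψ
        exact hinvφ k
      rw [this, Finset.sum_singleton]
    haveI : Fintype (K ⧸ L') := Fintype.ofFinite _
    let ext : Cfsg.IrrCharacter (K ⧸ L') → (K → ℂ) := fun η => fun x => (η : K ⧸ L' → ℂ) x * ϑ x
    have hlin : ∀ η : Cfsg.IrrCharacter (K ⧸ L'), ∃ l : K →* ℂˣ,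
        (∀ x : K, (η : K ⧸ L' → ℂ) x = (l x : ℂ)) ∧ ∀ y ∈ L', l y = 1 := by
      intro η
      obtain ⟨l, hl⟩ := CharInduce.IsChar.exists_hom_of_degree_one (IsIrr.isCharacter η.2)
        (CharInduce.IsIrr.degree_one_of_comm habq η.2)
      refine ⟨l.comp (QuotientGroup.mk' L'), fun x => hl _, fun y hy => ?_⟩
      show l (QuotientGroup.mk' L' y) = 1
      rw [show QuotientGroup.mk' L' y = 1 from (QuotientGroup.eq_one_iff y).2 hy, map_one]
    have hextirr : ∀ η, Cfsg.IsIrrCharacter K (ext η) := by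
      intro η
      obtain ⟨l, hl, -⟩ := hlin η
      refine CharInduce.isIrr_of_norm_one (CharInduce.IsChar.mul
        (CharInduce.IsChar.comp (IsIrr.isCharacter η.2) (QuotientGroup.mk' L'))
        (IsIrr.isCharacter hϑ)) ?_
      have h1 := classInner_irr hϑ hϑ
      rw [if_pos rfl] at h1
      rw [← h1, classInner_def, classInner_def]
      congr 1
      refine Finset.sum_congr rfl fun x _ => ?_
      have hl1 : (l x : ℂ) * conj (l x : ℂ) = 1 := by
        rw [Complex.mul_conj', CharInduce.norm_hom l x]; simp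
      show (η : K ⧸ L' → ℂ) x * ϑ x * conj ((η : K ⧸ L' → ℂ) x * ϑ x) = _
      rw [hl, map_mul]
      linear_combination (ϑ x * conj (ϑ x)) * hl1
    by_cases hinj : Function.Injective ext
    · left
      have hind : Cfsg.indFun L' ((c : ℂ) • (φ : L' → ℂ)) = ∑ η, ext η := by
        rw [← hRφ, show R = fun y : L' => (1 : ℂ) * ϑ y from funext fun y => (one_mul _).symm,
          indFun_mul_res L' (fun _ => (1 : ℂ)) ϑ (IsIrr.isClassFunction hϑ),
          indFun_one_eq_sum L' habq, Finset.sum_mul]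
        rfl
      have hn := classInner_indFun_self_of_invariant L' φ.2 hinvφ
      have h1 : Cfsg.classInner (∑ η, ext η) (∑ η, ext η) = (Fintype.card (Cfsg.IrrCharacter (K ⧸ L')) : ℂ) := by
        rw [classInner_sum_left, Finset.sum_congr rfl fun η _ => by
          rw [classInner_sum_right, Finset.sum_congr rfl fun η' _ =>
            classInner_irr (hextirr η) (hextirr η')]]
        simp [hinj.eq_iff]
      rw [← hind, indFun_smul, classInner_smul_left, classInner_smul_right, hn, Complex.conj_natCast] at h1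
      have hk : (Fintype.card (Cfsg.IrrCharacter (K ⧸ L')) : ℂ) = (L'.index : ℂ) := by
        rw [Subgroup.index_eq_card, ← sum_sq_degree (G := K ⧸ L'),
          Finset.sum_congr rfl fun η _ => by rw [CharInduce.IsIrr.degree_one_of_comm habq η.2],
          Finset.sum_const, Finset.card_univ, nsmul_eq_mul, one_pow, mul_one]
      rw [hk] at h1
      have h2 : c * (c * L'.index) = 1 * L'.index := by rw [one_mul]; exact_mod_cast h1
      rw [← mul_assoc] at h2
      have hc1 : c = 1 := by
        have := Nat.eq_of_mul_eq_mul_right (Nat.pos_of_ne_zero Subgroup.index_ne_zero_of_finite) h2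
        nlinarith
      have hR1 : (fun x : L => ϑ ⟨(x : G), hLK.le x.2⟩) = fun x => (φ : L' → ℂ) (e x) := by
        funext x; rw [hres, hRφ, hc1, Nat.cast_one, one_smul]
      rw [hR1]
      exact htrans _ φ.2
    · right; left
      simp only [Function.Injective, not_forall] at hinj
      obtain ⟨η, η', hee, hne⟩ := hinj
      obtain ⟨l, hl, hlL⟩ := hlin η
      obtain ⟨l', hl', hl'L⟩ := hlin η'
      -- the common kernel of the linear characters fixing `ϑ`
      let U : Subgroup K :=
        { carrier := {x | ∀ μ : K →* ℂˣ, (∀ y ∈ L', μ y = 1) → (∀ y, (μ y : ℂ) * ϑ y = ϑ y) → μ x = 1}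
          one_mem' := fun μ _ _ => map_one μ
          mul_mem' := fun ha hb μ h1 h2 => by rw [map_mul, ha μ h1 h2, hb μ h1 h2, one_mul]
          inv_mem' := fun ha μ h1 h2 => by rw [map_inv, ha μ h1 h2, inv_one] }
      have hUvan : ∀ x, x ∉ U → ϑ x = 0 := by
        intro x hx
        change ¬ ∀ μ : K →* ℂˣ, _ at hx
        simp only [not_forall] at hx
        obtain ⟨μ, -, h2, h3⟩ := hx
        by_contra h0
        exact h3 (Units.ext (mul_right_cancel₀ h0 (by rw [h2 x, Units.val_one, one_mul])))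
      have hUn : (U.map K.subtype).Normal := ⟨fun y hy g => by
        obtain ⟨x, hx, rfl⟩ := Subgroup.mem_map.1 hy
        refine ⟨(MulAut.conjNormal g : K ≃* K) x, fun μ h1 h2 => ?_, by simp⟩
        refine hx (μ.comp (MulAut.conjNormal g : K ≃* K).toMonoidHom) (fun y hy => h1 _ ?_) (fun y => ?_)
        · exact hL.conj_mem _ hy g
        · have hy' : ϑ ((MulAut.conjNormal g : K ≃* K) y) = ϑ y := hinv g y
          show (μ ((MulAut.conjNormal g : K ≃* K) y) : ℂ) * ϑ y = ϑ y
          rw [← hy']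
          exact h2 _⟩
      have hLU : L ≤ U.map K.subtype := fun x hx => ⟨⟨x, hLK.le hx⟩, fun μ h1 _ => h1 _ hx, rfl⟩
      have hUL : ∀ x, x ∉ L' → ϑ x = 0 := by
        rcases hchief _ hUn hLU (Subgroup.map_subtype_le U) with h | h
        · intro x hx
          refine hUvan x fun hxU => hx ?_
          have : (x : G) ∈ U.map K.subtype := ⟨x, hxU, rfl⟩
          rwa [h] at this
        · exfalso
          apply hne
          have hU : ∀ x : K, x ∈ U := fun x => by
            have : (x : G) ∈ U.map K.subtype := by rw [h]; exact x.2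
            obtain ⟨y, hy, hyx⟩ := Subgroup.mem_map.1 this
            rwa [← Subtype.ext hyx]
          refine Subtype.ext (funext fun q => ?_)
          obtain ⟨x, rfl⟩ := QuotientGroup.mk'_surjective L' q
          show (η : K ⧸ L' → ℂ) x = (η' : K ⧸ L' → ℂ) x
          rw [hl, hl']
          have hμ := hU x (l * l'⁻¹) (fun y hy => by
              rw [MonoidHom.mul_apply, MonoidHom.inv_apply, hlL y hy, hl'L y hy, inv_one, one_mul])
            (fun y => by
              have h' := congrFun hee y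
              simp only [ext] at h'
              rw [hl, hl'] at h'
              rw [MonoidHom.mul_apply, MonoidHom.inv_apply, Units.val_mul,
                mul_comm ((l y : ℂˣ) : ℂ), mul_assoc, h', ← mul_assoc, ← Units.val_mul,
                inv_mul_cancel, Units.val_one, one_mul])
          rw [MonoidHom.mul_apply, MonoidHom.inv_apply, mul_inv_eq_one] at hμ
          rw [hμ]
      have heq := hineq.2 hUL
      refine ⟨fun x => (φ : L' → ℂ) (e x), c, htrans _ φ.2, ?_, ?_⟩
      · funext x; rw [hres, hRφ]; rfl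
      · have h1 : Nat.card L' * (c ^ 2 * I.index) = Nat.card K := by exact_mod_cast heq
        rw [hItop, Subgroup.index_top, mul_one, ← L'.card_mul_index] at h1
        rw [hidx]
        exact Nat.eq_of_mul_eq_mul_left Nat.card_pos h1

end Cfsg.Agent.H34
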