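import Mathlib
import Cfsg.Agent.H34.GoingDown
import Cfsg.Agent.CharInduce.Monomial
import Cfsg.Agent.CharInduce.Correspondence

/-!
Relative M-groups (Isaacs 6.22, 6.23): chief factors of non-square order give characters induced
from characters restricting irreducibly, and abelian Sylow subgroups then give monomiality.
-/

set_option autoImplicit false

namespace Cfsg.Agent.H34

open scoped ComplexConjugate
open Cfsg.Agent.CharBasic Cfsg.Agent.CharInduce

universe u

/-- below a normal `K > N` with `G ⧸ N` solvable there is a chief factor with abelian quotient -/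
theorem exists_chief_below {G : Type u} [Group G] [Finite G] (N : Subgroup G) [N.Normal]
    [Group.IsSolvable (G ⧸ N)] {K : Subgroup G} (hK : K.Normal) (hNK : N < K) :
    ∃ L : Subgroup G, L.Normal ∧ N ≤ L ∧ L < K ∧
      (∀ M : Subgroup G, M.Normal → L ≤ M → M ≤ K → M = L ∨ M = K) ∧ ⁅K, K⁆ ≤ L := by
  haveI := hK
  obtain ⟨L, hL⟩ := (Set.toFinite {L : Subgroup G | L.Normal ∧ N ≤ L ∧ L < K}).exists_maximal
    ⟨N, inferInstance, le_rfl, hNK⟩
  obtain ⟨hLn, hNL, hLK⟩ := hL.prop
  haveI := hLn
  have hchief : ∀ M : Subgroup G, M.Normal → L ≤ M → M ≤ K → M = L ∨ M = K := by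
    intro M hMn hLM hMK
    rcases hMK.lt_or_eq with h | h
    · exact Or.inl (le_antisymm (hL.le_of_ge ⟨hMn, hNL.trans hLM, h⟩ hLM) hLM)
    · exact Or.inr h
  refine ⟨L, hLn, hNL, hLK, hchief, ?_⟩
  set q := QuotientGroup.mk' L
  haveI : Group.IsSolvable (G ⧸ L) :=
    Group.isSolvable_of_surjective (f := QuotientGroup.map N L (MonoidHom.id G) hNL)
      (fun y => by
        obtain ⟨x, rfl⟩ := QuotientGroup.mk'_surjective L y
        exact ⟨x, rfl⟩)
  have hne : K.map q ≠ ⊥ := by
    rw [Ne, Subgroup.map_eq_bot_iff, QuotientGroup.ker_mk']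
    exact hLK.not_ge
  have hlt := Group.IsSolvable.commutator_lt_of_ne_bot hne
  rcases hchief (⁅K, K⁆ ⊔ L) inferInstance le_sup_right
    (sup_le (Subgroup.commutator_le_self K) hLK.le) with h | h
  · exact h ▸ le_sup_left
  · exfalso
    apply hlt.ne
    rw [← Subgroup.map_commutator]
    conv_rhs => rw [← h, Subgroup.map_sup]
    rw [(Subgroup.map_eq_bot_iff L).2 (QuotientGroup.ker_mk' L).ge, sup_bot_eq]

/-- the chief factor condition of Isaacs 6.22 -/
def NoSquareFactor {G : Type u} [Group G] (N : Subgroup G) : Prop :=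
  ∀ (H K L : Subgroup G), N ≤ L → L < K → K ≤ H → (∀ h ∈ H, ∀ k ∈ K, h * k * h⁻¹ ∈ K) →
    (∀ h ∈ H, ∀ l ∈ L, h * l * h⁻¹ ∈ L) →
    (∀ M : Subgroup G, L ≤ M → M ≤ K → (∀ h ∈ H, ∀ m ∈ M, h * m * h⁻¹ ∈ M) → M = L ∨ M = K) →
    ¬ IsSquare (L.relIndex K)

theorem NoSquareFactor.subgroupOf {G : Type u} [Group G] {N T : Subgroup G} (hNT : N ≤ T)
    (h : NoSquareFactor N) : NoSquareFactor (N.subgroupOf T) := by
  intro H K L hNL hLK hKH hK hL hmax
  have hinj : Function.Injective T.subtype := Subtype.val_injective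
  have e : L.relIndex K = (L.map T.subtype).relIndex (K.map T.subtype) :=
    (Subgroup.relIndex_map_map_of_injective L K hinj).symm
  rw [e]
  refine h (H.map T.subtype) _ _ ?_ ((Subgroup.map_lt_map_iff_of_injective hinj).2 hLK)
    (Subgroup.map_mono hKH) ?_ ?_ ?_
  · intro x hx
    exact ⟨⟨x, hNT hx⟩, hNL hx, rfl⟩
  · rintro - ⟨a, ha, rfl⟩ - ⟨b, hb, rfl⟩
    exact ⟨a * b * a⁻¹, hK a ha b hb, rfl⟩
  · rintro - ⟨a, ha, rfl⟩ - ⟨b, hb, rfl⟩
    exact ⟨a * b * a⁻¹, hL a ha b hb, rfl⟩
  · intro M hLM hMK hM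
    have hMT : M ≤ T := hMK.trans (Subgroup.map_subtype_le K)
    have hMmap : (M.subgroupOf T).map T.subtype = M := by
      rw [Subgroup.subgroupOf_map_subtype, inf_eq_left.2 hMT]
    rcases hmax (M.subgroupOf T) (fun x hx => hLM ⟨x, hx, rfl⟩) (fun x hx => by
        obtain ⟨y, hy, hyx⟩ := hMK hx
        rwa [← Subtype.ext hyx])
      (fun a ha b hb => hM a ⟨a, ha, rfl⟩ b hb) with h' | h'
    · exact Or.inl (by rw [← hMmap, h'])
    · exact Or.inr (by rw [← hMmap, h'])

/-- Isaacs 6.22 -/
theorem relative_M (n : ℕ) : ∀ (G : Type u) [Group G] [Fintype G], Nat.card G = n →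
    ∀ (N : Subgroup G) [N.Normal], Group.IsSolvable (G ⧸ N) → NoSquareFactor N →
    ∀ χ : G → ℂ, Cfsg.IsIrrCharacter G χ →
      ∃ (H : Subgroup G) (hNH : N ≤ H) (ψ : H → ℂ), Cfsg.IsIrrCharacter H ψ ∧
        Cfsg.indFun H ψ = χ ∧ Cfsg.IsIrrCharacter N (fun x : N => ψ ⟨(x : G), hNH x.2⟩) := by
  induction n using Nat.strong_induction_on with
  | _ n ih =>
    intro G _ _ hn N hN hsolv hfac χ hχ
    classical
    haveI := hsolv
    -- a minimal normal subgroup above `N` with irreducible restriction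
    obtain ⟨K, hKmin⟩ := (Set.toFinite {K : Subgroup G | K.Normal ∧ N ≤ K ∧
        Cfsg.IsIrrCharacter K (fun x : K => χ x)}).exists_minimal
      ⟨⊤, inferInstance, le_top,
        CharInduce.IsIrr.comp hχ (⊤ : Subgroup G).subtype (fun g => ⟨⟨g, trivial⟩, rfl⟩)⟩
    obtain ⟨hKn, hNK, hKirr⟩ := hKmin.prop
    rcases hNK.lt_or_eq with hlt | heq
    · obtain ⟨L, hLn, hNL, hLK, hchief, hab⟩ := exists_chief_below N hKn hlt
      haveI := hLn
      haveI := hKn
      rcases going_down K L hLK hchief hab (fun x : K => χ x) hKirr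
        (fun g x => IsIrr.isClassFunction hχ (x : G) g) with h1 | ⟨φ, e, -, -, he⟩ | ⟨F, hF, hFc, hsum⟩
      · exact absurd (hKmin.le_of_le ⟨hLn, hNL, h1⟩ hLK.le) hLK.not_ge
      · exfalso
        refine hfac ⊤ K L hNL hLK le_top (fun h _ k hk => hKn.conj_mem k hk h)
          (fun h _ l hl => hLn.conj_mem l hl h)
          (fun M hLM hMK hM => hchief M ⟨fun m hm h => hM h trivial m hm⟩ hLM hMK) ⟨e, ?_⟩
        rw [← he, sq]
      · haveI : Fintype L := Fintype.ofFinite _
        have h1F : 1 < F.card := by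
          have h0 : L.relIndex K ≠ 0 := Subgroup.index_ne_zero_of_finite
          have h1 : L.relIndex K ≠ 1 := fun h => hLK.not_ge (Subgroup.relIndex_eq_one.1 h)
          omega
        obtain ⟨φ, hφF, φ', hφ'F, hne⟩ := Finset.one_lt_card.1 h1F
        have hinner : ∀ ψ ∈ F, Cfsg.classInner (fun x : L => χ x) ψ = 1 := by
          intro ψ hψ
          have e1 : (fun x : L => χ (x : G)) = ∑ φ ∈ F, φ := hsum
          rw [e1, classInner_sum_left, Finset.sum_eq_single ψ]
          · rw [classInner_irr (hF ψ hψ) (hF ψ hψ), if_pos rfl]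
          · intro b hb hbne
            rw [classInner_irr (hF b hb) (hF ψ hψ), if_neg hbne]
          · exact fun h => absurd hψ h
        have hcon : Cfsg.classInner (fun x : L => χ x) φ ≠ 0 := by rw [hinner φ hφF]; exact one_ne_zero
        set T := CharInduce.inertia L φ with hT
        have hLT : L ≤ T := CharInduce.le_inertia L (IsIrr.isClassFunction (hF φ hφF))
        have hNT : N ≤ T := hNL.trans hLT
        haveI : Fintype T := Fintype.ofFinite _
        obtain ⟨ψ, hψ, hind, -⟩ := exists_clifford_correspondent L hχ (hF φ hφF) hcon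
        have hTne : T ≠ ⊤ := by
          intro htop
          obtain ⟨x, hx⟩ := exists_conjFun_eq_of_constituent L hχ (hF φ hφF) (hF φ' hφ'F) hcon
            (by rw [hinner φ' hφ'F]; exact one_ne_zero)
          have hxT : x ∈ T := by rw [htop]; exact Subgroup.mem_top x
          exact hne (hx.trans hxT).symm
        have hlt' : Nat.card T < n := by
          rw [← hn]
          exact lt_of_le_of_ne (Subgroup.card_le_card_group _) fun h =>
            hTne (Subgroup.eq_top_of_card_eq _ h)
        haveI : (N.subgroupOf T).Normal := inferInstance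
        have hsT : Group.IsSolvable (T ⧸ N.subgroupOf T) := by
          refine Group.isSolvable_of_isSolvable_injective
            (f := QuotientGroup.map (N.subgroupOf T) N T.subtype le_rfl) ?_
          rw [injective_iff_map_eq_one]
          intro y hy
          obtain ⟨y, rfl⟩ := QuotientGroup.mk'_surjective _ y
          exact (QuotientGroup.eq_one_iff y).2 ((QuotientGroup.eq_one_iff (T.subtype y)).1 hy)
        obtain ⟨E, hNE, η, hη, hηind, hηN⟩ :=
          ih _ hlt' T rfl (N.subgroupOf T) hsT (hfac.subgroupOf hNT) ψ hψ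
        let E' := E.map T.subtype
        have hNE' : N ≤ E' := fun x hx => ⟨⟨x, hNT hx⟩, hNE (by exact hx), rfl⟩
        let ε : E ≃* E' := E.equivMapOfInjective T.subtype Subtype.val_injective
        refine ⟨E', hNE', fun y => η (ε.symm y), CharInduce.IsIrr.comp hη ε.symm.toMonoidHom ε.symm.surjective, ?_, ?_⟩
        · rw [← hind, ← hηind]
          exact (CharInduce.indFun_map T E η).symm
        · let ν : N ≃* N.subgroupOf T := (Subgroup.subgroupOfEquivOfLe hNT).symm
          have hirr := CharInduce.IsIrr.comp hηN ν.toMonoidHom ν.surjective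
          convert hirr using 1
          funext x
          refine congrArg η (ε.injective ?_)
          rw [MulEquiv.apply_symm_apply]
          rfl
    · subst heq
      refine ⟨⊤, le_top, fun x => χ x,
        CharInduce.IsIrr.comp hχ (⊤ : Subgroup G).subtype (fun g => ⟨⟨g, trivial⟩, rfl⟩),
        CharInduce.indFun_top χ (IsIrr.isClassFunction hχ), hKirr⟩

/-- every Sylow subgroup of `N` is abelian, stated for `p`-subgroups -/
def AbelianPSubgroups {G : Type u} [Group G] (N : Subgroup G) : Prop :=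
  ∀ (p : ℕ), p.Prime → ∀ P : Subgroup G, P ≤ N → IsPGroup p P → ∀ a ∈ P, ∀ b ∈ P, a * b = b * a

theorem abelianPSubgroups_of_sylow {G : Type u} [Group G] [Finite G] {N : Subgroup G}
    (h : ∀ (p : ℕ) [Fact p.Prime] (P : Sylow p N), ∀ a ∈ P, ∀ b ∈ P, a * b = b * a) :
    AbelianPSubgroups N := by
  intro p hp P hPN hP a ha b hb
  haveI : Fact p.Prime := ⟨hp⟩
  have h2 : IsPGroup p (P.subgroupOf N) := hP.comap_subtype
  obtain ⟨Q, hQ⟩ := h2.exists_le_sylow
  exact congrArg Subtype.val
    (h p Q ⟨a, hPN ha⟩ (hQ ha) ⟨b, hPN hb⟩ (hQ hb))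

theorem AbelianPSubgroups.mono {G : Type u} [Group G] {N M : Subgroup G} (h : AbelianPSubgroups N)
    (hMN : M ≤ N) : AbelianPSubgroups M := fun p hp P hP => h p hp P (hP.trans hMN)

theorem AbelianPSubgroups.subgroupOf {G : Type u} [Group G] {N T : Subgroup G}
    (h : AbelianPSubgroups N) : AbelianPSubgroups (N.subgroupOf T) := by
  intro p hp P hP hPp a ha b hb
  refine Subtype.ext ?_
  exact h p hp (P.map T.subtype) (by rintro - ⟨x, hx, rfl⟩; exact hP hx) (hPp.map _)
    _ ⟨a, ha, rfl⟩ _ ⟨b, hb, rfl⟩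

theorem AbelianPSubgroups.map {G H : Type u} [Group G] [Group H] [Finite G] {N : Subgroup G}
    (h : AbelianPSubgroups N) (f : G →* H) : AbelianPSubgroups (N.map f) := by
  intro p hp P hP hPp a ha b hb
  haveI : Fact p.Prime := ⟨hp⟩
  let g := f.subgroupMap N
  have h2 : IsPGroup p (P.subgroupOf (N.map f)) := hPp.comap_subtype
  obtain ⟨Q, hQ⟩ := h2.exists_le_sylow
  obtain ⟨R, rfl⟩ := Sylow.mapSurjective_surjective (f.subgroupMap_surjective N) p Q
  obtain ⟨x, hx, hxa⟩ := hQ (show (⟨a, hP ha⟩ : N.map f) ∈ P.subgroupOf (N.map f) from ha)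
  obtain ⟨y, hy, hyb⟩ := hQ (show (⟨b, hP hb⟩ : N.map f) ∈ P.subgroupOf (N.map f) from hb)
  have hxy := h p hp ((R : Subgroup N).map N.subtype) (Subgroup.map_subtype_le _) (R.isPGroup'.map _)
    _ ⟨x, hx, rfl⟩ _ ⟨y, hy, rfl⟩
  have e1 : f (x : G) = a := congrArg Subtype.val hxa
  have e2 : f (y : G) = b := congrArg Subtype.val hyb
  rw [← e1, ← e2, ← map_mul, ← map_mul]
  exact congrArg f hxy

/-- a nilpotent group with abelian `p`-subgroups is abelian -/
theorem commute_of_nilpotent {G : Type u} [Group G] [Finite G] {B : Subgroup G}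
    [Group.IsNilpotent B] (h : AbelianPSubgroups B) : ∀ a ∈ B, ∀ b ∈ B, a * b = b * a := by
  obtain ⟨e⟩ := ((Group.isNilpotent_of_finite_tfae (G := B)).out 0 4).mp (inferInstance : Group.IsNilpotent B)
  intro a ha b hb
  obtain ⟨x, hx⟩ := e.surjective ⟨a, ha⟩
  obtain ⟨y, hy⟩ := e.surjective ⟨b, hb⟩
  have hxy : x * y = y * x := by
    funext p P
    haveI : Fact (p : ℕ).Prime := ⟨Nat.prime_of_mem_primeFactors p.2⟩
    refine Subtype.ext (Subtype.ext ?_)
    exact h p Fact.out ((P : Subgroup B).map B.subtype) (Subgroup.map_subtype_le _) (P.isPGroup'.map _)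
      _ ⟨_, (x p P).2, rfl⟩ _ ⟨_, (y p P).2, rfl⟩
  have h' := congrArg e hxy
  rw [map_mul, map_mul, hx, hy] at h'
  exact congrArg Subtype.val h'

/-- a maximal abelian normal subgroup inside `N` is self-centralising in `N` -/
theorem exists_self_centralizing {G : Type u} [Group G] [Finite G] [Group.IsSolvable G]
    (N : Subgroup G) [N.Normal] (hN : AbelianPSubgroups N) :
    ∃ A : Subgroup G, A.Normal ∧ A ≤ N ∧ (∀ a ∈ A, ∀ b ∈ A, a * b = b * a) ∧
      ∀ x ∈ N, (∀ a ∈ A, a * x = x * a) → x ∈ A := by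
  obtain ⟨A, hA⟩ := (Set.toFinite {A : Subgroup G | A.Normal ∧ A ≤ N ∧
      ∀ a ∈ A, ∀ b ∈ A, a * b = b * a}).exists_maximal
    ⟨⊥, inferInstance, bot_le, fun a ha b _ => by rw [Subgroup.mem_bot.1 ha]; simp⟩
  obtain ⟨hAn, hAN, hAab⟩ := hA.prop
  haveI := hAn
  refine ⟨A, hAn, hAN, hAab, fun x hxN hxA => ?_⟩
  set C := N ⊓ Subgroup.centralizer (A : Set G) with hCdef
  haveI : C.Normal := inferInstance
  have hxC : x ∈ C := ⟨hxN, Subgroup.mem_centralizer_iff.2 hxA⟩
  have hAC : A ≤ C := le_inf hAN fun a ha => Subgroup.mem_centralizer_iff.2 fun b hb => hAab b hb a ha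
  by_contra hxnA
  have hlt : A < C := lt_of_le_of_ne hAC fun h => hxnA (h ▸ hxC)
  -- a chief factor above `A` inside `C`
  obtain ⟨B, hB⟩ := (Set.toFinite {B : Subgroup G | B.Normal ∧ A < B ∧ B ≤ C}).exists_minimal
    ⟨C, inferInstance, hlt, le_rfl⟩
  obtain ⟨hBn, hAB, hBC⟩ := hB.prop
  haveI := hBn
  obtain ⟨L, hLn, hAL, hLB, -, hab⟩ := exists_chief_below A hBn hAB
  have hLA : L = A := by
    rcases hAL.lt_or_eq with h | h
    · exact absurd (hB.le_of_le ⟨hLn, h, hLB.le.trans hBC⟩ hLB.le) hLB.not_ge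
    · exact h.symm
  subst hLA
  have hcen : ∀ a ∈ L, ∀ b ∈ B, a * b = b * a := fun a ha b hb =>
    Subgroup.mem_centralizer_iff.1 (hBC hb).2 a ha
  have hcomm : ∀ p q : B ⧸ L.subgroupOf B, p * q = q * p := by
    intro p q
    obtain ⟨p, rfl⟩ := QuotientGroup.mk'_surjective _ p
    obtain ⟨q, rfl⟩ := QuotientGroup.mk'_surjective _ q
    rw [← commutatorElement_eq_one_iff_mul_comm, ← map_commutatorElement]
    exact (QuotientGroup.eq_one_iff _).2 (hab (Subgroup.commutator_mem_commutator p.2 q.2))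
  haveI : Group.IsNilpotent (B ⧸ L.subgroupOf B) := by
    letI : CommGroup (B ⧸ L.subgroupOf B) :=
      { (inferInstance : Group (B ⧸ L.subgroupOf B)) with mul_comm := hcomm }
    infer_instance
  haveI : Group.IsNilpotent B :=
    Subgroup.isNilpotent_of_ker_le_center (QuotientGroup.mk' (L.subgroupOf B)) (by
      rw [QuotientGroup.ker_mk']
      exact fun y hy => Subgroup.mem_center_iff.2 fun z =>
        Subtype.ext (hcen _ hy _ z.2).symm)
  have hBab := commute_of_nilpotent (hN.mono (hBC.trans inf_le_left))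
  exact hAB.not_ge (hA.le_of_ge ⟨hBn, hBC.trans inf_le_left, hBab⟩ hAB.le)

/-- Isaacs 6.23, the main step -/
theorem monomial_of_res_irr (n : ℕ) : ∀ (G : Type u) [Group G] [Fintype G] [Group.IsSolvable G],
    Nat.card G = n → ∀ (N : Subgroup G) [N.Normal], AbelianPSubgroups N →
    ∀ χ : G → ℂ, Cfsg.IsIrrCharacter G χ → Cfsg.IsIrrCharacter N (fun x : N => χ x) →
      CharInduce.IsMonomial χ := by
  induction n using Nat.strong_induction_on with
  | _ n ih =>
    intro G _ _ _ hn N hNn hN χ hχ hres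
    classical
    have hχc := IsIrr.isCharacter hχ
    obtain ⟨m, ρ, hρ, hρχ⟩ := id hχ
    by_cases hker : MonoidHom.ker ρ = ⊥
    swap
    · set Z : Subgroup G := MonoidHom.ker ρ with hZ
      have hZχ : ∀ x ∈ Z, χ x = χ 1 := fun x hx => by
        rw [← hρχ]
        simp only [Representation.character, map_one, MonoidHom.mem_ker.1 hx]
      obtain ⟨ψ, -, hψ, hψi⟩ := CharInduce.IsChar.exists_deflate hχc Z hZχ
      haveI : Fintype (G ⧸ Z) := Fintype.ofFinite _
      haveI : Group.IsSolvable (G ⧸ Z) :=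
        Group.isSolvable_of_surjective (f := QuotientGroup.mk' Z) (QuotientGroup.mk'_surjective Z)
      have hlt : Nat.card (G ⧸ Z) < n := by
        rw [← hn, ← Subgroup.index_eq_card, ← Z.card_mul_index]
        have h1 : 1 < Nat.card Z := (Subgroup.one_lt_card_iff_ne_bot Z).2 hker
        have h2 : 0 < Z.index := Nat.pos_of_ne_zero Subgroup.index_ne_zero_of_finite
        nlinarith
      set q := QuotientGroup.mk' Z
      haveI : (N.map q).Normal := hNn.map q (QuotientGroup.mk'_surjective Z)
      haveI : Fintype (N.map q) := Fintype.ofFinite _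
      haveI : Fintype N := Fintype.ofFinite _
      have hψN : Cfsg.IsIrrCharacter (N.map q) (fun x : N.map q => ψ x) := by
        refine CharInduce.isIrr_of_norm_one (CharInduce.IsChar.res (IsIrr.isCharacter (hψi hχ)) _) ?_
        rw [← CharInduce.classInner_comp_surjective (q.subgroupMap N) (q.subgroupMap_surjective N)]
        have : (fun x : N => χ x) = fun x : N => ψ ((q.subgroupMap N x : N.map q) : G ⧸ Z) :=
          funext fun x => hψ x
        rw [← this, classInner_irr hres hres, if_pos rfl]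
      rw [show χ = fun g : G => ψ (QuotientGroup.mk' Z g) from funext hψ]
      exact CharInduce.isMonomial_inflate _ (QuotientGroup.mk'_surjective Z)
        (ih _ hlt (G ⧸ Z) rfl (N.map q) (hN.map q) ψ (hψi hχ) hψN)
    by_cases hNab : ∀ a b : N, a * b = b * a
    · have h1 : χ 1 = 1 := CharInduce.IsIrr.degree_one_of_comm hNab hres
      obtain ⟨l, hl⟩ := CharInduce.IsChar.exists_hom_of_degree_one hχc h1
      rw [funext hl]
      exact CharInduce.isMonomial_of_hom l
    obtain ⟨A, hAn, hAN, hAab, hself⟩ := exists_self_centralizing N hN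
    haveI := hAn
    haveI : Fintype A := Fintype.ofFinite _
    haveI : Fintype N := Fintype.ofFinite _
    obtain ⟨lam, hlam⟩ := exists_constituent (CharInduce.IsChar.res hχc A)
      (fun e => IsIrr.one_ne_zero hχ (congrFun e 1))
    have habA : ∀ a b : A, a * b = b * a := fun a b => Subtype.ext (hAab a a.2 b b.2)
    set T := CharInduce.inertia A (lam : A → ℂ) with hTdef
    have hT : T ≠ ⊤ := by
      intro htop
      apply hNab
      have hinv : ∀ g : G, CharInduce.conjFun A (lam : A → ℂ) g = lam := fun g =>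
        (CharInduce.mem_inertia A).1 (show g ∈ T by rw [htop]; exact Subgroup.mem_top g)
      have h := clifford_avg A hχ lam.2 hlam
      simp only [hinv, Finset.sum_const, Finset.card_univ, ← Nat.card_eq_fintype_card] at h
      rw [show CharInduce.inertia A (lam : A → ℂ) = ⊤ from htop, Subgroup.card_top,
        ← Nat.cast_smul_eq_nsmul ℂ, smul_comm] at h
      have h' := smul_right_injective _ (card_ne_zero_complex G) h
      obtain ⟨l, hl⟩ := CharInduce.IsChar.exists_hom_of_degree_one (IsIrr.isCharacter lam.2)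
        (CharInduce.IsIrr.degree_one_of_comm habA lam.2)
      have hcentral : ∀ a ∈ A, ∀ g : G, g * a = a * g := by
        intro a ha g
        obtain ⟨c, hc⟩ := (norm_character_eq_iff ρ a).1 (by
          have e1 := congrFun h' (⟨a, ha⟩ : A)
          have e2 := congrFun h' 1
          simp only [Pi.smul_apply, OneMemClass.coe_one, smul_eq_mul] at e1 e2
          have hn' : ‖χ a‖ = ‖χ 1‖ := by
            rw [e1, e2, norm_mul, norm_mul, hl ⟨a, ha⟩, hl 1, norm_hom, norm_hom]
          rw [show ρ.character a = χ a from congrFun hρχ a, hn', ← hρχ]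
          simp)
        apply (MonoidHom.ker_eq_bot_iff ρ).1 hker
        rw [map_mul, map_mul, hc]
        ext v
        simp
      have hNA : ∀ x ∈ N, x ∈ A := fun x hx => hself x hx fun a ha => (hcentral a ha x).symm
      exact fun a b => Subtype.ext (hAab a (hNA a a.2) b (hNA b b.2))
    -- `N` is transitive on the constituents
    have hNT : ∀ g : G, ∃ m ∈ N, ∃ t ∈ T, g = m * t := by
      intro g
      have hAN' : (A.subgroupOf N).Normal := inferInstance
      let ι : A ≃* A.subgroupOf N := (Subgroup.subgroupOfEquivOfLe hAN).symm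
      haveI : Fintype (A.subgroupOf N) := Fintype.ofFinite _
      have key : ∀ μ : A → ℂ, Cfsg.classInner (fun z : A.subgroupOf N => χ (z : N))
          (fun z => μ (ι.symm z)) = Cfsg.classInner (fun a : A => χ a) μ := fun μ => by
        rw [← classInner_comp_mulEquiv ι (fun z : A.subgroupOf N => χ (z : N)) (fun z => μ (ι.symm z))]
        simp only [MulEquiv.symm_apply_apply]
        rfl
      have hg : Cfsg.classInner (fun a : A => χ a) (CharInduce.conjFun A (lam : A → ℂ) g⁻¹) ≠ 0 := by
        rw [classInner_res_conjFun A (IsIrr.isClassFunction hχ)]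
        exact hlam
      obtain ⟨k, hk⟩ := exists_conjFun_eq_of_constituent (G := N) (A.subgroupOf N) hres
        (χ := fun z => (lam : A → ℂ) (ι.symm z))
        (ψ := fun z => CharInduce.conjFun A (lam : A → ℂ) g⁻¹ (ι.symm z))
        (CharInduce.IsIrr.comp lam.2 ι.symm.toMonoidHom ι.symm.surjective)
        (CharInduce.IsIrr.comp (isIrrCharacter_conjFun A lam.2 g⁻¹) ι.symm.toMonoidHom ι.symm.surjective)
        (by rw [key]; exact hlam) (by rw [key]; exact hg)
      have hk' : CharInduce.conjFun A (lam : A → ℂ) g⁻¹ = CharInduce.conjFun A (lam : A → ℂ) (k : G) := by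
        funext a
        have h := congrFun hk (ι a)
        simp only [MulEquiv.symm_apply_apply] at h
        exact h
      have ht : (k : G) * g ∈ T := by
        rw [hTdef, CharInduce.mem_inertia, ← CharInduce.conjFun_mul, ← hk', CharInduce.conjFun_mul,
          inv_mul_cancel, CharInduce.conjFun_one]
      exact ⟨(k : G)⁻¹, inv_mem k.2, _, ht, by group⟩
    haveI : Fintype T := Fintype.ofFinite _
    haveI : Group.IsSolvable T := inferInstance
    obtain ⟨ψ, hψ, hind, -⟩ := exists_clifford_correspondent A hχ lam.2 hlam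
    haveI : Fintype (N.subgroupOf T) := Fintype.ofFinite _
    set M := T.subgroupOf N with hM
    haveI : Fintype M := Fintype.ofFinite _
    let φ : M → ℂ := fun z => ψ ⟨((z : N) : G), z.2⟩
    have hφc : Cfsg.IsCharacter M φ :=
      CharInduce.IsChar.comp (IsIrr.isCharacter hψ)
        (MonoidHom.mk' (fun z : M => (⟨((z : N) : G), z.2⟩ : T)) (fun _ _ => rfl))
    -- Mackey for `G = N T`
    have hmac : Cfsg.indFun M φ = fun x : N => χ x := by
      funext x
      have hsum : ∀ g : G, ∀ m ∈ N, ∀ t ∈ T, g = m * t →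
          Cfsg.extendByZero T ψ (g⁻¹ * (x : G) * g) = Cfsg.extendByZero T ψ (m⁻¹ * (x : G) * m) := by
        intro g m _ t ht hgmt
        rw [hgmt, show (m * t)⁻¹ * (x : G) * (m * t) = t⁻¹ * (m⁻¹ * (x : G) * m) * t⁻¹⁻¹ by group]
        exact CharInduce.extendByZero_conj (IsIrr.isClassFunction hψ) (inv_mem ht) _
      have hext : ∀ m : N, Cfsg.extendByZero M φ (m⁻¹ * x * m) =
          Cfsg.extendByZero T ψ ((m : G)⁻¹ * (x : G) * m) := by
        intro m
        by_cases hm : (m : G)⁻¹ * (x : G) * m ∈ T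
        · rw [CharInduce.extendByZero_of_mem _ hm,
            CharInduce.extendByZero_of_mem _ (show m⁻¹ * x * m ∈ M from hm)]
          rfl
        · rw [CharInduce.extendByZero_of_not_mem _ hm,
            CharInduce.extendByZero_of_not_mem _ (show m⁻¹ * x * m ∉ M from hm)]
      have h1 : ∑ p : N × T, Cfsg.extendByZero T ψ ((p.1 : G)⁻¹ * (x : G) * p.1) =
          (Nat.card M : ℂ) * ∑ g : G, Cfsg.extendByZero T ψ (g⁻¹ * (x : G) * g) := by
        rw [← Finset.sum_fiberwise Finset.univ (fun p : N × T => (p.1 : G) * p.2), Finset.mul_sum]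
        refine Finset.sum_congr rfl fun g _ => ?_
        obtain ⟨m, hm, t, ht, hgmt⟩ := hNT g
        have hcst : ∀ p ∈ Finset.univ.filter (fun p : N × T => (p.1 : G) * p.2 = g),
            Cfsg.extendByZero T ψ ((p.1 : G)⁻¹ * (x : G) * p.1) =
              Cfsg.extendByZero T ψ (g⁻¹ * (x : G) * g) := fun p hp =>
          (hsum g p.1 p.1.2 p.2 p.2.2 (Finset.mem_filter.1 hp).2.symm).symm
        rw [Finset.sum_congr rfl hcst, Finset.sum_const, nsmul_eq_mul]
        congr 1
        rw [Nat.cast_inj, ← Fintype.card_subtype, ← Nat.card_eq_fintype_card]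
        refine Nat.card_congr
          { toFun := fun p => ⟨(⟨m, hm⟩ : N)⁻¹ * p.1.1, ?_⟩
            invFun := fun z => ⟨(⟨m, hm⟩ * (z : N), (⟨((z : N) : G), z.2⟩ : T)⁻¹ * ⟨t, ht⟩), ?_⟩
            left_inv := fun p => ?_
            right_inv := fun z => ?_ }
        · show m⁻¹ * (p.1.1 : G) ∈ T
          have e : m⁻¹ * (p.1.1 : G) = t * (p.1.2 : G)⁻¹ := by
            have this : (p.1.1 : G) * (p.1.2 : G) = m * t := p.2.trans hgmt
            rw [eq_mul_inv_iff_mul_eq, mul_assoc, this, inv_mul_cancel_left]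
          rw [e]
          exact mul_mem ht (inv_mem p.1.2.2)
        · show m * ((z : N) : G) * (((z : N) : G)⁻¹ * t) = g
          rw [hgmt]; group
        · have h2 : t = m⁻¹ * (p.1.1 : G) * (p.1.2 : G) := by
            have this : (p.1.1 : G) * (p.1.2 : G) = m * t := p.2.trans hgmt
            rw [mul_assoc, this, inv_mul_cancel_left]
          refine Subtype.ext (Prod.ext (Subtype.ext ?_) (Subtype.ext ?_))
          · show m * (m⁻¹ * (p.1.1 : G)) = p.1.1
            group
          · show (m⁻¹ * (p.1.1 : G))⁻¹ * t = p.1.2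
            rw [h2]; group
        · exact Subtype.ext (Subtype.ext (by show m⁻¹ * (m * ((z : N) : G)) = z; group))
      rw [Fintype.sum_prod_type] at h1
      simp only [Finset.sum_const, Finset.card_univ, nsmul_eq_mul, ← Finset.mul_sum,
        ← Nat.card_eq_fintype_card] at h1
      rw [CharInduce.indFun_apply, Finset.sum_congr rfl fun m _ => hext m]
      show _ = χ (x : G)
      rw [← hind, CharInduce.indFun_apply]
      have hM0 := card_ne_zero_complex M
      have hT0 := card_ne_zero_complex T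
      change _ = (Nat.card T : ℂ)⁻¹ * _
      field_simp
      linear_combination h1
    have hφirr : Cfsg.IsIrrCharacter M φ := by
      obtain ⟨η, hη⟩ := exists_constituent hφc (fun h => IsIrr.one_ne_zero hψ (congrFun h 1))
      obtain ⟨r, hr, hre⟩ := IsChar.exists_eq_add hφc η.2 hη
      rw [hre] at hmac ⊢
      rw [indFun_add] at hmac
      by_cases hr0 : r = 0
      · rw [hr0, add_zero]; exact η.2
      exfalso
      have hpos : ∀ {f : M → ℂ}, Cfsg.IsCharacter M f → f ≠ 0 → ∀ {k : ℕ},
          Cfsg.classInner (Cfsg.indFun M f) (Cfsg.indFun M f) = k → k ≠ 0 := by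
        intro f hf hf0 k hk hk0
        rw [hk0, Nat.cast_zero, classInner_self_eq_zero] at hk
        have h := congrFun hk 1
        rw [indFun_one, Pi.zero_apply, mul_eq_zero] at h
        rcases h with h | h
        · exact Subgroup.index_ne_zero_of_finite (Nat.cast_eq_zero.1 h)
        · exact hf0 (CharInduce.IsChar.eq_zero_of_one_eq_zero hf h)
      have hη0 : (η : M → ℂ) ≠ 0 := fun h => IsIrr.one_ne_zero η.2 (by rw [h]; rfl)
      have ha := CharInduce.IsChar.ind M (IsIrr.isCharacter η.2)
      have hb := CharInduce.IsChar.ind M hr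
      obtain ⟨k₁, hk₁⟩ := classInner_isChar_nat ha ha
      obtain ⟨k₂, hk₂⟩ := classInner_isChar_nat hb hb
      obtain ⟨k₃, hk₃⟩ := classInner_isChar_nat ha hb
      obtain ⟨k₄, hk₄⟩ := classInner_isChar_nat hb ha
      have h1 := classInner_irr hres hres
      rw [if_pos rfl, ← hmac, classInner_add_left, classInner_add_right, classInner_add_right,
        hk₁, hk₂, hk₃, hk₄] at h1
      have h2 : k₁ + k₃ + (k₄ + k₂) = 1 := by exact_mod_cast h1
      have := hpos (IsIrr.isCharacter η.2) hη0 hk₁
      have := hpos hr hr0 hk₂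
      omega
    have hlt : Nat.card T < n := by
      rw [← hn]
      exact lt_of_le_of_ne (Subgroup.card_le_card_group _) fun h => hT (Subgroup.eq_top_of_card_eq _ h)
    let σ : N.subgroupOf T ≃* M :=
      { toFun := fun z => ⟨⟨((z : T) : G), z.2⟩, (z : T).2⟩
        invFun := fun z => ⟨⟨((z : N) : G), z.2⟩, (z : N).2⟩
        left_inv := fun z => rfl
        right_inv := fun z => rfl
        map_mul' := fun a b => rfl }
    have hψN : Cfsg.IsIrrCharacter (N.subgroupOf T) (fun z : N.subgroupOf T => ψ z) :=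
      CharInduce.IsIrr.comp hφirr σ.toMonoidHom σ.surjective
    rw [← hind]
    exact CharInduce.isMonomial_ind _ (ih _ hlt T rfl (N.subgroupOf T) hN.subgroupOf ψ hψ hψN)

/-- Isaacs 6.23 -/
theorem monomial_of_relative_M {G : Type u} [Group G] [Fintype G] [Group.IsSolvable G]
    (N : Subgroup G) [N.Normal] (hN : AbelianPSubgroups N) {χ : G → ℂ}
    (hrel : ∃ (H : Subgroup G) (hNH : N ≤ H) (ψ : H → ℂ), Cfsg.IsIrrCharacter H ψ ∧
      Cfsg.indFun H ψ = χ ∧ Cfsg.IsIrrCharacter N (fun x : N => ψ ⟨(x : G), hNH x.2⟩)) :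
    CharInduce.IsMonomial χ := by
  classical
  obtain ⟨H, hNH, ψ, hψ, hind, hres⟩ := hrel
  haveI : Fintype H := Fintype.ofFinite _
  have h : CharInduce.IsMonomial ψ := monomial_of_res_irr _ H rfl (N.subgroupOf H) hN.subgroupOf ψ hψ
    (by
      have h2 := CharInduce.IsIrr.comp hres (Subgroup.subgroupOfEquivOfLe hNH).toMonoidHom
        (Subgroup.subgroupOfEquivOfLe hNH).surjective
      exact h2)
  rw [← hind]
  exact CharInduce.isMonomial_ind H h

end Cfsg.Agent.H34
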