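import Mathlib

/-! Groups of order 12 or 24 with a normal self-centralizing four-group are `A_4`, `S_4`. -/

set_option autoImplicit false

namespace Cfsg.Agent.H34

variable {H : Type*} [Group H] [Finite H]

theorem embeds_perm_four (V : Subgroup H) [V.Normal] (hV : Nat.card V = 4)
    (hC : ∀ g : H, (∀ v ∈ V, g * v = v * g) → g ∈ V) (h3 : 3 ∣ Nat.card H) :
    ∃ φ : H →* Equiv.Perm (Fin 4), Function.Injective φ := by
  classical
  haveI : Fact (Nat.Prime 3) := ⟨Nat.prime_three⟩
  obtain ⟨P⟩ : Nonempty (Sylow 3 H) := inferInstance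
  set K := Subgroup.normalizer ((P : Subgroup H) : Set H) with hK
  -- an element of order three in `P`
  obtain ⟨w, hwP, hw⟩ : ∃ w ∈ (P : Subgroup H), orderOf w = 3 := by
    haveI : Nontrivial (P : Subgroup H) := by
      rw [Subgroup.nontrivial_iff_ne_bot]; exact P.ne_bot_of_dvd_card h3
    have hdvd : 3 ∣ Nat.card (P : Subgroup H) := by
      obtain ⟨k, hk⟩ := IsPGroup.iff_card.mp P.isPGroup'
      rw [hk]
      refine dvd_pow_self 3 (fun h0 => ?_)
      rw [h0, pow_zero] at hk
      exact absurd hk (Finite.one_lt_card (α := (P : Subgroup H))).ne'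
    obtain ⟨w, hw⟩ := exists_prime_orderOf_dvd_card' 3 hdvd
    exact ⟨w.1, w.2, by rw [Subgroup.orderOf_coe, hw]⟩
  have hconjV : ∀ {v : H}, v ∈ V → w * v * w⁻¹ ∈ V := fun hv =>
    (inferInstance : V.Normal).conj_mem _ hv w
  have hwV : w ∉ V := fun h => by
    have h4 : orderOf w ∣ 4 := by
      rw [← hV, ← Subgroup.orderOf_mk w h]; exact orderOf_dvd_natCard _
    rw [hw] at h4; norm_num at h4
  have hinter : ∀ v ∈ V, v ∈ K → v = 1 := by
    intro v hv hvK
    by_contra hv1
    -- `v` centralizes `w`
    have hcomm : w * v = v * w := by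
      have hP : v * w⁻¹ * v⁻¹ ∈ (P : Subgroup H) :=
        (Subgroup.mem_normalizer_iff.mp hvK w⁻¹).mp (inv_mem hwP)
      have h1 : w * v * w⁻¹ * v⁻¹ ∈ (P : Subgroup H) := by
        have := mul_mem hwP hP; simpa [mul_assoc] using this
      have h2 : w * v * w⁻¹ * v⁻¹ ∈ V := mul_mem (hconjV hv) (inv_mem hv)
      obtain ⟨k, hk⟩ := IsPGroup.iff_orderOf.mp P.isPGroup' ⟨_, h1⟩
      have h4 : orderOf (w * v * w⁻¹ * v⁻¹) ∣ 4 := by
        rw [← hV, ← Subgroup.orderOf_mk _ h2]; exact orderOf_dvd_natCard _
      rw [Subgroup.orderOf_mk] at hk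
      rw [hk] at h4
      have hk0 : k = 0 := by
        by_contra h0
        have := (dvd_pow_self 3 h0).trans h4
        norm_num at this
      rw [hk0, pow_zero, orderOf_eq_one_iff] at hk
      have e : w * v * w⁻¹ * v⁻¹ = 1 := hk
      exact mul_inv_eq_iff_eq_mul.mp (by rw [mul_inv_eq_one.mp e])
    -- `w` centralizes `v`, hence all of `V`
    apply hwV
    apply hC
    intro u hu
    by_contra hne
    have hu1 : u ≠ 1 := fun e => hne (by simp [e])
    have huv : u ≠ v := fun e => hne (by rw [e, hcomm])
    set u' := w * u * w⁻¹ with hu'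
    have hu'1 : u' ≠ 1 := by rw [hu']; simpa using hu1
    have hu'v : u' ≠ v := fun e => huv (by
      have e2 : u = w⁻¹ * u' * w := by rw [hu']; group
      rw [e2, e, mul_assoc, ← hcomm]; group)
    have hu'u : u' ≠ u := fun e => hne (mul_inv_eq_iff_eq_mul.mp e)
    set u'' := w * u' * w⁻¹ with hu''
    have hu''1 : u'' ≠ 1 := by rw [hu'']; simpa using hu'1
    have hu''v : u'' ≠ v := fun e => hu'v (by
      have e2 : u' = w⁻¹ * u'' * w := by rw [hu'']; group
      rw [e2, e, mul_assoc, ← hcomm]; group)
    have hu''u' : u'' ≠ u' := fun e => hu'u (by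
      have e1 : w * u' * w⁻¹ = w * u * w⁻¹ := e
      simpa using e1)
    have hsub : ({1, v, u, u'} : Set H) ⊆ V := by
      intro x hx
      simp only [Set.mem_insert_iff, Set.mem_singleton_iff] at hx
      rcases hx with rfl | rfl | rfl | rfl
      exacts [one_mem V, hv, hu, hconjV hu]
    have hcard : ({1, v, u, u'} : Set H).ncard = 4 := by
      rw [Set.ncard_insert_of_notMem (by simp [Ne.symm hv1, hu1.symm, hu'1.symm]),
        Set.ncard_insert_of_notMem (by simp [huv.symm, hu'v.symm]),
        Set.ncard_pair hu'u.symm]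
    have hset : ({1, v, u, u'} : Set H) = V :=
      Set.eq_of_subset_of_ncard_le hsub (by rw [hcard, ← Nat.card_coe_set_eq]; exact hV.le) (Set.toFinite _)
    have hmem : u'' ∈ ({1, v, u, u'} : Set H) := hset ▸ hconjV (hconjV hu)
    simp only [Set.mem_insert_iff, Set.mem_singleton_iff, hu''1, hu''v, hu''u', or_false, false_or] at hmem
    -- `w²` fixes `u`, and so does `w³ = 1`, hence `w` fixes `u`
    apply hu'u
    have hw3 : w ^ 3 = 1 := by rw [← hw]; exact pow_orderOf_eq_one w
    calc u' = w * u'' * w⁻¹ := by rw [hmem]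
      _ = w ^ 3 * u * (w ^ 3)⁻¹ := by rw [hu'', hu']; simp only [pow_succ, pow_zero, one_mul]; group
      _ = u := by rw [hw3]; group
  -- `H = V K`
  let P' : Sylow 3 H := P
  have hVK : V ⊔ K = ⊤ := by
    set N := V ⊔ (P : Subgroup H) with hN
    have hPN : (P : Subgroup H) ≤ N := le_sup_right
    have hNn : N.Normal := by
      -- the image of `H` in the permutations of the involutions of `V` has a normal Sylow 3-subgroup
      let X := {v : H // v ∈ V ∧ v ≠ 1}
      letI : MulAction H X :=
        { smul := fun g x => ⟨g * x.1 * g⁻¹, (inferInstance : V.Normal).conj_mem _ x.2.1 g,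
            by simpa using x.2.2⟩
          one_smul := fun x => Subtype.ext (show (1 : H) * x.1 * 1⁻¹ = x.1 by group)
          mul_smul := fun g g' x => Subtype.ext
            (show g * g' * x.1 * (g * g')⁻¹ = g * (g' * x.1 * g'⁻¹) * g⁻¹ by group) }
      set φ := MulAction.toPermHom H X with hφ
      have hkerV : φ.ker ≤ V := by
        intro g hg
        refine hC g fun v hv => ?_
        by_cases hv1 : v = 1
        · simp [hv1]
        · have := congrArg Subtype.val (Equiv.congr_fun (MonoidHom.mem_ker.mp hg) ⟨v, hv, hv1⟩)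
          exact mul_inv_eq_iff_eq_mul.mp this
      have hX : Nat.card X = 3 := by
        haveI := Fintype.ofFinite H
        have e : X ≃ {x : V // ¬ x = 1} :=
          { toFun := fun x => ⟨⟨x.1, x.2.1⟩, fun h => x.2.2 (congrArg Subtype.val h)⟩
            invFun := fun x => ⟨x.1.1, x.1.2, fun h => x.2 (Subtype.ext h)⟩
            left_inv := fun x => rfl
            right_inv := fun x => rfl }
        rw [Nat.card_congr e, Nat.card_eq_fintype_card, Fintype.card_subtype_compl,
          Fintype.card_subtype_eq, ← Nat.card_eq_fintype_card, hV]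
      have himg : Nat.card ((P : Subgroup H).map φ) = 3 := by
        apply Nat.le_antisymm
        · have h1 : Nat.card ((P : Subgroup H).map φ) ∣ Nat.card (Equiv.Perm X) := Subgroup.card_subgroup_dvd_card _
          rw [Nat.card_perm, hX] at h1
          obtain ⟨k, hk⟩ := IsPGroup.iff_card.mp (P.isPGroup'.map φ)
          rw [hk] at h1 ⊢
          have : k ≤ 1 := by
            by_contra hlt
            have : 3 ^ 2 ∣ 3 ^ k := Nat.pow_dvd_pow 3 (by omega)
            have := Nat.le_of_dvd (by norm_num [Nat.factorial]) (this.trans h1)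
            norm_num [Nat.factorial] at this
          calc 3 ^ k ≤ 3 ^ 1 := Nat.pow_le_pow_right (by norm_num) this
            _ = 3 := by norm_num
        · have hne : φ w ≠ 1 := fun h => hwV (hkerV (MonoidHom.mem_ker.mpr h))
          have hord : orderOf (φ w) = 3 :=
            orderOf_eq_prime (by rw [← map_pow, ← hw, pow_orderOf_eq_one, map_one]) hne
          have := Nat.le_of_dvd Nat.card_pos
            (orderOf_dvd_natCard (⟨φ w, Subgroup.mem_map_of_mem φ hwP⟩ : (P : Subgroup H).map φ))
          rwa [Subgroup.orderOf_mk, hord] at this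
      have hidx : ((P : Subgroup H).map φ).index = 2 := by
        have := Subgroup.card_mul_index ((P : Subgroup H).map φ)
        rw [himg, Nat.card_perm, hX] at this
        norm_num [Nat.factorial] at this
        omega
      haveI := Subgroup.normal_of_index_eq_two hidx
      have hkerN : φ.ker ≤ N := hkerV.trans le_sup_left
      have hVker : V ≤ φ.ker := by
        intro v hv
        refine MonoidHom.mem_ker.mpr (Equiv.ext fun x => Subtype.ext ?_)
        show v * x.1 * v⁻¹ = x.1
        haveI : Fact (Nat.Prime 2) := ⟨Nat.prime_two⟩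
        have hcomm := IsPGroup.commutative_of_card_eq_prime_sq (p := 2) (G := V) (by rw [hV]; norm_num)
        rw [mul_inv_eq_iff_eq_mul]
        exact congrArg Subtype.val (hcomm ⟨v, hv⟩ ⟨x.1, x.2.1⟩)
      have : N = ((P : Subgroup H).map φ).comap φ := by
        rw [Subgroup.comap_map_eq, hN, sup_comm]
        exact le_antisymm (sup_le le_sup_left (le_trans hVker le_sup_right))
          (sup_le le_sup_left (le_trans hkerV le_sup_right))
      rw [this]
      exact Subgroup.Normal.comap inferInstance φ
    have := Sylow.normalizer_sup_eq_top (P.subtype hPN) (N := N)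
    rw [Sylow.coe_subtype, Subgroup.map_subgroupOf_eq_of_le hPN] at this
    rw [eq_top_iff, ← this]
    refine sup_le le_sup_right (sup_le le_sup_left ?_)
    exact le_trans Subgroup.le_normalizer le_sup_right
  have hidx : K.index = 4 := by
    have hcompl : Subgroup.IsComplement' V K := by
      refine Subgroup.isComplement'_of_disjoint_and_mul_eq_univ
        (disjoint_iff.mpr (eq_bot_iff.mpr fun x hx => Subgroup.mem_bot.mpr (hinter x hx.1 hx.2))) ?_
      rw [← Subgroup.normal_mul, hVK, Subgroup.coe_top]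
    rw [hcompl.index_eq_card, hV]
  let e : H ⧸ K ≃ Fin 4 := by
    haveI := Fintype.ofFinite (H ⧸ K)
    exact Fintype.equivFinOfCardEq (by rw [← Nat.card_eq_fintype_card, ← Subgroup.index_eq_card, hidx])
  refine ⟨e.permCongrHom.toMonoidHom.comp (MulAction.toPermHom H (H ⧸ K)), ?_⟩
  refine e.permCongrHom.injective.comp ((MonoidHom.ker_eq_bot_iff _).mp ?_)
  rw [← Subgroup.normalCore_eq_ker, eq_bot_iff]
  intro g hg
  rw [Subgroup.mem_bot]
  have hgV : g ∈ V := by
    refine hC g fun v hv => ?_
    have h1 : g * v * g⁻¹ * v⁻¹ ∈ V :=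
      mul_mem ((inferInstance : V.Normal).conj_mem v hv g) (inv_mem hv)
    have h2 : g * v * g⁻¹ * v⁻¹ ∈ K.normalCore := by
      have := mul_mem hg ((Subgroup.normalCore_normal K).conj_mem _ (inv_mem hg) v)
      simpa [mul_assoc] using this
    have := hinter _ h1 (Subgroup.normalCore_le K h2)
    exact mul_inv_eq_iff_eq_mul.mp (by rw [mul_inv_eq_one.mp this])
  exact hinter g hgV (Subgroup.normalCore_le K hg)

theorem equiv_perm_four (V : Subgroup H) [V.Normal] (hV : Nat.card V = 4)
    (hC : ∀ g : H, (∀ v ∈ V, g * v = v * g) → g ∈ V) (hH : Nat.card H = 24) :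
    Nonempty (H ≃* Equiv.Perm (Fin 4)) := by
  obtain ⟨φ, hφ⟩ := embeds_perm_four V hV hC (by rw [hH]; norm_num)
  exact ⟨MulEquiv.ofBijective φ ((Nat.bijective_iff_injective_and_card φ).mpr
    ⟨hφ, by rw [hH, Nat.card_perm, Nat.card_fin]; rfl⟩)⟩

theorem equiv_alt_four (V : Subgroup H) [V.Normal] (hV : Nat.card V = 4)
    (hC : ∀ g : H, (∀ v ∈ V, g * v = v * g) → g ∈ V) (hH : Nat.card H = 12) :
    Nonempty (H ≃* alternatingGroup (Fin 4)) := by
  obtain ⟨φ, hφ⟩ := embeds_perm_four V hV hC (by rw [hH]; norm_num)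
  have hr : Nat.card φ.range = 12 := by
    rw [← hH]; exact (Nat.card_congr (MonoidHom.ofInjective hφ).toEquiv).symm
  have hidx : φ.range.index = 2 := by
    have := Subgroup.card_mul_index φ.range
    rw [hr, Nat.card_perm, Nat.card_fin] at this
    norm_num [Nat.factorial] at this
    omega
  exact ⟨(MonoidHom.ofInjective hφ).trans
    (MulEquiv.subgroupCongr (Equiv.Perm.eq_alternatingGroup_of_index_eq_two hidx))⟩

end Cfsg.Agent.H34
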