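import Cfsg.Agent.H34.Siegel

/-! The sign of the permutation induced by an isometry on the vectors of given norm kills `Ω`. -/

set_option autoImplicit false

namespace Cfsg.Agent.H34

open Matrix
open scoped commutatorElement

theorem sign_eq_one_iff_four_dvd {α : Type*} [Fintype α] [DecidableEq α] (σ : Equiv.Perm α)
    (h2 : σ ^ 2 = 1) (hfix : ∀ x, σ x ≠ x) : Equiv.Perm.sign σ = 1 ↔ 4 ∣ Fintype.card α := by
  have hsupp : σ.support = Finset.univ := by
    ext x; simp [Equiv.Perm.mem_support, hfix x]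
  have hall : ∀ n ∈ σ.cycleType, n = 2 := by
    intro n hn
    have h1 := Equiv.Perm.two_le_of_mem_cycleType hn
    have h3 : n ∣ 2 := (Equiv.Perm.dvd_of_mem_cycleType hn).trans (orderOf_dvd_of_pow_eq_one h2)
    have := Nat.le_of_dvd (by norm_num) h3
    omega
  have hrep : σ.cycleType = Multiset.replicate (Multiset.card σ.cycleType) 2 :=
    Multiset.eq_replicate_card.mpr hall
  have hsum : σ.cycleType.sum = Fintype.card α := by
    rw [Equiv.Perm.sum_cycleType, hsupp, Finset.card_univ]
  set k := Multiset.card σ.cycleType with hk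
  have hcard : Fintype.card α = 2 * k := by
    rw [← hsum, hrep, Multiset.sum_replicate, smul_eq_mul, mul_comm]
  rw [Equiv.Perm.sign_of_cycleType, hsum, ← hk, hcard]
  rcases Nat.even_or_odd k with h | h
  · have he : Even (2 * k + k) := (even_two_mul k).add h
    rw [he.neg_one_pow]
    simp only [true_iff]
    obtain ⟨r, hr⟩ := h
    exact ⟨r, by omega⟩
  · have ho : Odd (2 * k + k) := (even_two_mul k).add_odd h
    rw [ho.neg_one_pow]
    refine iff_of_false (by decide) ?_
    rintro ⟨r, hr⟩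
    obtain ⟨s, hs⟩ := h
    omega

variable {F : Type*} [Field F] {ι : Type} [Fintype ι] [DecidableEq ι] {f : (ι → F) → F}

/-- The permutation of the vectors of norm `c` induced by an isometry. -/
def levelPerm (f : (ι → F) → F) (c : F) :
    ↥(Cfsg.isometryGroup F f) →* Equiv.Perm {v : ι → F // f v = c} where
  toFun g :=
    { toFun := fun v => ⟨(g.1 : Matrix ι ι F) *ᵥ v.1,
        ((mem_isometryGroup_iff g.1).mp g.2 v.1).trans v.2⟩
      invFun := fun v => ⟨((g.1⁻¹ : Matrix.GeneralLinearGroup ι F) : Matrix ι ι F) *ᵥ v.1,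
        ((mem_isometryGroup_iff g.1⁻¹).mp (inv_mem g.2) v.1).trans v.2⟩
      left_inv := fun v => Subtype.ext (by simp [mulVec_mulVec])
      right_inv := fun v => Subtype.ext (by simp [mulVec_mulVec]) }
  map_one' := Equiv.ext fun v => Subtype.ext (one_mulVec v.1)
  map_mul' g h := Equiv.ext fun v => Subtype.ext (mulVec_mulVec v.1 _ _).symm

/-- If `-1` lies in `Ω` then `4` divides the number of vectors of each non-zero norm. -/
theorem four_dvd_of_neg_one_mem_omega [Finite F] (h2 : (2 : F) ≠ 0)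
    (g : ↥(Cfsg.isometryGroup F f)) (hg : g ∈ Cfsg.Omega F f) (hneg : (g.1 : Matrix ι ι F) = -1)
    (c : F) (h0 : f 0 ≠ c) : 4 ∣ Nat.card {v : ι → F // f v = c} := by
  classical
  haveI := Fintype.ofFinite F
  have hker : Equiv.Perm.sign (levelPerm f c g) = 1 := by
    have := Abelianization.commutator_subset_ker
      ((Equiv.Perm.sign).comp (levelPerm f c)) hg
    simpa [MonoidHom.mem_ker] using this
  have hval : ∀ v, ((levelPerm f c g) v).1 = -v.1 := fun v => by
    show (g.1 : Matrix ι ι F) *ᵥ v.1 = -v.1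
    rw [hneg, neg_mulVec, one_mulVec]
  have hsq : (levelPerm f c g) ^ 2 = 1 := by
    ext v : 2
    rw [sq, Equiv.Perm.mul_apply, Equiv.Perm.one_apply, hval, hval, neg_neg]
  have hfix : ∀ v, (levelPerm f c g) v ≠ v := by
    intro v hv
    have h := congrArg Subtype.val hv
    rw [hval] at h
    apply h0
    have hz : v.1 = 0 := by
      funext i
      have := congrFun h i
      simp only [Pi.neg_apply, Pi.zero_apply] at this ⊢
      have h' : (2 : F) * v.1 i = 0 := by linear_combination -this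
      exact (mul_eq_zero.mp h').resolve_left h2
    rw [← hz]; exact v.2
  rw [Nat.card_eq_fintype_card]
  exact (sign_eq_one_iff_four_dvd _ hsq hfix).mp hker

/-- Counting the solutions of `x ⬝ y + h z = c`. -/
theorem card_hyperbolic_add {F : Type*} [Field F] [Fintype F] {q : ℕ} (hF : Fintype.card F = q)
    {Z : Type*} [Finite Z] (h : Z → F) (c : F) (k : ℕ) :
    Nat.card {p : ((Fin k → F) × (Fin k → F)) × Z // p.1.1 ⬝ᵥ p.1.2 + h p.2 = c} =
      q ^ k * Nat.card {z : Z // h z = c} + (q ^ k - 1) * q ^ (k - 1) * Nat.card Z := by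
  classical
  let e : {p : ((Fin k → F) × (Fin k → F)) × Z // p.1.1 ⬝ᵥ p.1.2 + h p.2 = c} ≃
      Σ x : Fin k → F, {p : (Fin k → F) × Z // x ⬝ᵥ p.1 + h p.2 = c} :=
    { toFun := fun p => ⟨p.1.1.1, (p.1.1.2, p.1.2), p.2⟩
      invFun := fun s => ⟨((s.1, s.2.1.1), s.2.1.2), s.2.2⟩
      left_inv := fun p => rfl
      right_inv := fun s => rfl }
  haveI := Fintype.ofFinite Z
  rw [Nat.card_congr e, Nat.card_sigma, ← Finset.add_sum_erase _ _ (Finset.mem_univ (0 : Fin k → F))]
  congr 1
  · let e0 : {p : (Fin k → F) × Z // (0 : Fin k → F) ⬝ᵥ p.1 + h p.2 = c} ≃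
        (Fin k → F) × {z : Z // h z = c} :=
      { toFun := fun p => (p.1.1, ⟨p.1.2, by simpa using p.2⟩)
        invFun := fun s => ⟨(s.1, s.2.1), by simpa using s.2.2⟩
        left_inv := fun p => rfl
        right_inv := fun s => rfl }
    rw [Nat.card_congr e0, Nat.card_prod, Nat.card_fun, Nat.card_fin, Nat.card_eq_fintype_card, hF]
  · rw [Finset.sum_eq_card_nsmul (b := q ^ (k - 1) * Nat.card Z), Finset.card_erase_of_mem (Finset.mem_univ _),
      Finset.card_univ, Fintype.card_fun, Fintype.card_fin, hF, smul_eq_mul, mul_assoc]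
    intro x hx
    have hx0 : x ≠ 0 := (Finset.mem_erase.mp hx).1
    obtain ⟨i, hi⟩ := Function.ne_iff.mp hx0
    simp only [Pi.zero_apply] at hi
    let e1 : {p : (Fin k → F) × Z // x ⬝ᵥ p.1 + h p.2 = c} ≃ ({j : Fin k // j ≠ i} → F) × Z :=
      { toFun := fun p => (fun j => p.1.1 j, p.1.2)
        invFun := fun s => ⟨(fun j => if hj : j = i then
            (c - h s.2 - ∑ l : {j : Fin k // j ≠ i}, x l * s.1 l) / x i else s.1 ⟨j, hj⟩, s.2), by
          rw [dotProduct, ← Finset.add_sum_erase _ _ (Finset.mem_univ i)]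
          rw [Finset.sum_subtype (p := fun j => j ≠ i) (Finset.univ.erase i) (by simp)]
          simp only [dite_true]
          rw [mul_div_cancel₀ _ hi]
          have : ∀ l : {j : Fin k // j ≠ i}, x l * (if hj : (l : Fin k) = i then
              (c - h s.2 - ∑ l : {j : Fin k // j ≠ i}, x l * s.1 l) / x i else s.1 ⟨l, hj⟩) = x l * s.1 l :=
            fun l => by rw [dif_neg l.2]
          rw [Finset.sum_congr rfl fun l _ => this l]
          ring⟩
        left_inv := fun p => by
          have hp := p.2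
          rw [dotProduct, ← Finset.add_sum_erase _ _ (Finset.mem_univ i),
            Finset.sum_subtype (p := fun j => j ≠ i) (Finset.univ.erase i) (by simp)] at hp
          refine Subtype.ext (Prod.ext (funext fun j => ?_) rfl)
          by_cases hj : j = i
          · subst hj
            simp only [dite_true]
            rw [div_eq_iff hi]
            linear_combination -hp
          · simp only [dif_neg hj]
        right_inv := fun s => Prod.ext (funext fun j => by simp [j.2]) rfl }
    rw [Nat.card_congr e1, Nat.card_prod, Nat.card_fun, Nat.card_eq_fintype_card (α := {j : Fin k // j ≠ i}),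
      Fintype.card_subtype_compl, Fintype.card_fin, Fintype.card_subtype_eq, Nat.card_eq_fintype_card (α := F), hF]

/-- The involution of `Fin k` exchanging `2i` and `2i+1`, for even `k`. -/
def pairSwap {k : ℕ} (hk : Even k) : Equiv.Perm (Fin k) :=
  Function.Involutive.toPerm
    (fun i => ⟨if i.1 % 2 = 0 then i.1 + 1 else i.1 - 1, by
      obtain ⟨r, rfl⟩ := hk; have := i.2; split_ifs <;> omega⟩)
    (fun i => by
      apply Fin.ext
      show (if (if i.1 % 2 = 0 then i.1 + 1 else i.1 - 1) % 2 = 0 then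
          (if i.1 % 2 = 0 then i.1 + 1 else i.1 - 1) + 1
        else (if i.1 % 2 = 0 then i.1 + 1 else i.1 - 1) - 1) = i.1
      split_ifs <;> omega)

theorem pairSwap_val {k : ℕ} (hk : Even k) (i : Fin k) :
    (pairSwap hk i).1 = if i.1 % 2 = 0 then i.1 + 1 else i.1 - 1 := rfl

theorem pairSwap_mul_self {k : ℕ} (hk : Even k) (i : Fin k) : pairSwap hk (pairSwap hk i) = i := by
  apply Fin.ext
  rw [pairSwap_val, pairSwap_val]
  split_ifs <;> omega

/-- Two anticommuting orthogonal involutions in even dimension. -/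
theorem exists_anticomm {F : Type*} [Field F] {k : ℕ} (hk : Even k) :
    ∃ A B : Matrix (Fin k) (Fin k) F, A * A = 1 ∧ B * B = 1 ∧ A * B = -(B * A) ∧
      (∀ x y, (A *ᵥ x) ⬝ᵥ (A *ᵥ y) = x ⬝ᵥ y) ∧ (∀ x y, (B *ᵥ x) ⬝ᵥ (B *ᵥ y) = x ⬝ᵥ y) := by
  have hA : ∀ (v : Fin k → F) (i : Fin k),
      (diagonal (fun i : Fin k => (-1 : F) ^ i.1) *ᵥ v) i = (-1) ^ i.1 * v i :=
    fun v i => mulVec_diagonal _ _ i
  have hB : ∀ (v : Fin k → F) (i : Fin k),
      (((1 : Matrix (Fin k) (Fin k) F).submatrix (pairSwap hk) id) *ᵥ v) i = v (pairSwap hk i) := by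
    intro v i
    simp [mulVec, dotProduct, Matrix.one_apply]
  have hsign : ∀ i : Fin k, ((-1 : F) ^ i.1) * (-1) ^ i.1 = 1 := fun i => by
    rw [← pow_add]; exact Even.neg_one_pow ⟨i.1, rfl⟩
  refine ⟨diagonal (fun i : Fin k => (-1 : F) ^ i.1),
    (1 : Matrix (Fin k) (Fin k) F).submatrix (pairSwap hk) id, ?_, ?_, ?_, ?_, ?_⟩
  · rw [diagonal_mul_diagonal]; simp only [hsign]; exact diagonal_one
  · refine Matrix.ext_iff_mulVec.mpr fun v => funext fun i => ?_
    rw [← mulVec_mulVec, hB, hB, pairSwap_mul_self, one_mulVec]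
  · refine Matrix.ext_iff_mulVec.mpr fun v => funext fun i => ?_
    rw [neg_mulVec, Pi.neg_apply, ← mulVec_mulVec, ← mulVec_mulVec, hA, hB, hB, hA, pairSwap_val]
    split_ifs with h
    · rw [pow_succ]; ring
    · obtain ⟨r, hr⟩ : ∃ r, i.1 = r + 1 := ⟨i.1 - 1, by omega⟩
      rw [hr, Nat.add_sub_cancel, pow_succ]; ring
  · intro x y
    simp only [dotProduct, hA]
    refine Finset.sum_congr rfl fun i _ => ?_
    linear_combination (x i * y i) * hsign i
  · intro x y
    simp only [dotProduct, hB]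
    exact Equiv.sum_comp (pairSwap hk) (fun i => x i * y i)

/-- A commutator of two isometries lies in `Ω`. -/
theorem exists_neg_one_mem_omega (H H' K : Matrix ι ι F) (h1 : H * H' = 1) (h2 : H' * H = 1)
    (hK : K * K = 1) (hHf : ∀ x, f (H *ᵥ x) = f x) (hKf : ∀ x, f (K *ᵥ x) = f x)
    (hcomm : H * K * H' * K = -1) :
    ∃ g : ↥(Cfsg.isometryGroup F f), g ∈ Cfsg.Omega F f ∧
      ((g : Matrix.GeneralLinearGroup ι F) : Matrix ι ι F) = -1 := by
  refine ⟨⁅mkIso H H' h1 h2 hHf, mkIso K K hK hK hKf⁆,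
    Subgroup.commutator_mem_commutator (Subgroup.mem_top _) (Subgroup.mem_top _), ?_⟩
  exact hcomm

end Cfsg.Agent.H34
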