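import Mathlib
import Cfsg.Agent.CharBasic.Kernel
import Cfsg.Agent.CharBasic.Virtual
import Cfsg.Agent.CharBasic.Integral
import Cfsg.Agent.CharInduce.Gallagher
import Cfsg.Agent.CharInduce.Transport

/-!
Degree bound for an abelian subgroup whose centralizer sets are disjoint (Feit-Thompson, Blichfeldt).
-/

set_option autoImplicit false

namespace Cfsg.Agent.H34

open scoped ComplexConjugate
open Cfsg.Agent.CharBasic Cfsg.Agent.CharInduce

universe u

variable {G : Type u} [Group G] [Fintype G]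

/-- average over the cosets of a subgroup -/
noncomputable def cosetAvg (H : Subgroup G) [Fintype H] (f : G → ℂ) : G → ℂ :=
  fun g => (Nat.card H : ℂ)⁻¹ * ∑ h : H, f (g * h)

theorem sum_mul_eq_zero_of_no_fixed (H : Subgroup G) [Fintype H] {χ : G → ℂ}
    (hχ : Cfsg.IsCharacter G χ) (h0 : ∑ h : H, χ h = 0) (g : G) : ∑ h : H, χ (g * h) = 0 := by
  obtain ⟨m, ρ, rfl⟩ := hχ
  set Q : Module.End ℂ (Fin m → ℂ) := (Nat.card H : ℂ)⁻¹ • ∑ h : H, ρ (h : G) with hQdef
  have hidem : IsIdempotentElem Q := by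
    have h1 : ∀ h : H, ρ (h : G) * (∑ k : H, ρ (k : G)) = ∑ k : H, ρ (k : G) := by
      intro h
      rw [Finset.mul_sum]
      exact Fintype.sum_equiv (Equiv.mulLeft h) _ _ fun k => by simp [map_mul]
    show Q * Q = Q
    rw [hQdef, smul_mul_smul_comm, Finset.sum_mul, Finset.sum_congr rfl fun h _ => h1 h,
      Finset.sum_const, Finset.card_univ, ← Nat.card_eq_fintype_card, ← Nat.cast_smul_eq_nsmul ℂ,
      smul_smul, mul_assoc, inv_mul_cancel₀ (card_ne_zero_complex H), mul_one]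
  have htr : LinearMap.trace ℂ (Fin m → ℂ) Q = 0 := by
    rw [hQdef, map_smul, map_sum]
    simp only [Representation.character] at h0
    rw [h0, smul_zero]
  have hproj := LinearMap.isProj_range_iff_isIdempotentElem Q |>.2 hidem
  rw [hproj.trace, Nat.cast_eq_zero, Submodule.finrank_eq_zero, LinearMap.range_eq_bot] at htr
  have hsum : ∑ h : H, ρ (h : G) = 0 := by
    have := congrArg ((Nat.card H : ℂ) • ·) htr
    simpa [hQdef, smul_smul, card_ne_zero_complex H] using this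
  simp only [Representation.character, map_mul, ← map_sum, ← Finset.mul_sum, hsum, mul_zero, map_zero]

open Classical in
theorem cosetAvg_irr (H : Subgroup G) [H.Normal] [Fintype H] (ψ : Cfsg.IrrCharacter G) :
    cosetAvg H (ψ : G → ℂ) = if (∀ h ∈ H, (ψ : G → ℂ) h = (ψ : G → ℂ) 1) then (ψ : G → ℂ) else 0 := by
  have hψ := IsIrr.isCharacter ψ.2
  split_ifs with h
  · funext g
    obtain ⟨K, -, hK, hKinv⟩ := CharBasic.IsChar.exists_kernel hψ
    simp only [cosetAvg]
    rw [Finset.sum_congr rfl fun (k : H) _ => hKinv g k ((hK _).2 (h k k.2)), Finset.sum_const,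
      Finset.card_univ, ← Nat.card_eq_fintype_card, nsmul_eq_mul, ← mul_assoc,
      inv_mul_cancel₀ (card_ne_zero_complex H), one_mul]
  · have h0 : ∑ k : H, (ψ : G → ℂ) k = 0 := by
      have h1 : Cfsg.classInner (fun k : H => (ψ : G → ℂ) k) (fun _ => 1) = 0 := by
        by_contra hc
        exact h ((constituent_one_iff H ψ.2).1 hc)
      rw [classInner_def] at h1
      simpa [card_ne_zero_complex H] using h1
    funext g
    simp only [cosetAvg, sum_mul_eq_zero_of_no_fixed H hψ h0 g, mul_zero, Pi.zero_apply]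

/-- a character not containing `H` in its kernel exceeds its coset average by norm at least one -/
theorem card_add_sum_avg_le (H : Subgroup G) [H.Normal] [Fintype H] {χ : G → ℂ}
    (hχ : Cfsg.IsCharacter G χ) (hker : ∃ h ∈ H, χ h ≠ χ 1) :
    (Nat.card G : ℝ) + ∑ g : G, ‖cosetAvg H χ g‖ ^ 2 ≤ ∑ g : G, ‖χ g‖ ^ 2 := by
  classical
  obtain ⟨m, -, hsum⟩ := IsChar.exists_nat_mult hχ
  let good : Cfsg.IrrCharacter G → Prop := fun ψ => ∀ h ∈ H, (ψ : G → ℂ) h = (ψ : G → ℂ) 1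
  let b : Cfsg.IrrCharacter G → ℕ := fun ψ => if good ψ then m ψ else 0
  have havg : cosetAvg H χ = ∑ ψ : Cfsg.IrrCharacter G, (b ψ : ℂ) • (ψ : G → ℂ) := by
    funext g
    calc cosetAvg H χ g = ∑ ψ : Cfsg.IrrCharacter G, (m ψ : ℂ) * cosetAvg H (ψ : G → ℂ) g := by
          simp only [cosetAvg]
          rw [hsum]
          simp only [Finset.sum_apply, Pi.smul_apply, smul_eq_mul]
          rw [Finset.sum_comm, Finset.mul_sum]
          refine Finset.sum_congr rfl fun ψ _ => ?_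
          rw [← Finset.mul_sum]
          ring
      _ = _ := by
          rw [Finset.sum_apply]
          refine Finset.sum_congr rfl fun ψ _ => ?_
          rw [cosetAvg_irr]
          by_cases hg : good ψ
          · rw [if_pos (show ∀ h ∈ H, (ψ : G → ℂ) h = (ψ : G → ℂ) 1 from hg)]
            simp [b, if_pos hg]
          · rw [if_neg (show ¬ ∀ h ∈ H, (ψ : G → ℂ) h = (ψ : G → ℂ) 1 from hg)]
            simp [b, if_neg hg]
  have hnorm : ∀ a : Cfsg.IrrCharacter G → ℕ,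
      ∑ g : G, ‖(∑ ψ : Cfsg.IrrCharacter G, (a ψ : ℂ) • (ψ : G → ℂ)) g‖ ^ 2 =
        (Nat.card G : ℝ) * ∑ ψ : Cfsg.IrrCharacter G, (a ψ : ℝ) ^ 2 := by
    intro a
    set f := ∑ ψ : Cfsg.IrrCharacter G, (a ψ : ℂ) • (ψ : G → ℂ) with hf
    have h1 : Cfsg.classInner f f = ((∑ ψ : Cfsg.IrrCharacter G, (a ψ : ℝ) ^ 2 : ℝ) : ℂ) := by
      conv_lhs => arg 2; rw [hf]
      rw [classInner_sum_right]
      push_cast
      refine Finset.sum_congr rfl fun ψ _ => ?_
      rw [classInner_smul_right, hf, classInner_sum_irr, map_natCast, sq]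
    rw [classInner_self_eq, Complex.ofReal_inj] at h1
    have hG : (Nat.card G : ℝ) ≠ 0 := by exact_mod_cast Nat.card_pos.ne'
    rw [← h1, ← mul_assoc, mul_inv_cancel₀ hG, one_mul]
  rw [havg, hnorm b]
  conv_rhs => rw [hsum]
  rw [hnorm m]
  obtain ⟨ψ₀, hm0, hb0⟩ : ∃ ψ, m ψ ≠ 0 ∧ ¬ good ψ := by
    by_contra hc
    push Not at hc
    obtain ⟨h, hh, hne⟩ := hker
    apply hne
    rw [hsum]
    simp only [Finset.sum_apply, Pi.smul_apply, smul_eq_mul]
    refine Finset.sum_congr rfl fun ψ _ => ?_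
    by_cases hm : m ψ = 0
    · simp [hm]
    · rw [hc ψ hm h hh]
  have hle : 1 + ∑ ψ : Cfsg.IrrCharacter G, (b ψ : ℝ) ^ 2 ≤ ∑ ψ : Cfsg.IrrCharacter G, (m ψ : ℝ) ^ 2 := by
    rw [← Finset.add_sum_erase _ _ (Finset.mem_univ ψ₀), ← Finset.add_sum_erase _ _ (Finset.mem_univ ψ₀)]
    have h1 : (1 : ℝ) ≤ (m ψ₀ : ℝ) ^ 2 := by
      exact_mod_cast Nat.one_le_pow 2 _ (Nat.pos_of_ne_zero hm0)
    have h2 : ∑ ψ ∈ Finset.univ.erase ψ₀, (b ψ : ℝ) ^ 2 ≤ ∑ ψ ∈ Finset.univ.erase ψ₀, (m ψ : ℝ) ^ 2 := by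
      refine Finset.sum_le_sum fun ψ _ => ?_
      simp only [b]
      split_ifs
      · exact le_rfl
      · simpa using sq_nonneg (m ψ : ℝ)
    have h3 : (b ψ₀ : ℝ) ^ 2 = 0 := by simp [b, if_neg hb0]
    linarith
  have := mul_le_mul_of_nonneg_left hle (Nat.cast_nonneg (Nat.card G) : (0 : ℝ) ≤ _)
  linarith

/-- centralizers of non-central elements meet only one conjugate of `H` -/
def DisjointCentralizers (H : Subgroup G) : Prop :=
  ∀ g : G, g ∉ Subgroup.center G → ∀ a b : G,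
    Subgroup.centralizer ({g} : Set G) ⊓ H.map (MulAut.conj a).toMonoidHom ≠ ⊥ →
    Subgroup.centralizer ({g} : Set G) ⊓ H.map (MulAut.conj b).toMonoidHom ≠ ⊥ →
    H.map (MulAut.conj a).toMonoidHom = H.map (MulAut.conj b).toMonoidHom

omit [Fintype G] in
theorem mem_normalizer_of_map_eq [Finite G] {H : Subgroup G} {a b : G}
    (h : H.map (MulAut.conj a).toMonoidHom = H.map (MulAut.conj b).toMonoidHom) :
    b⁻¹ * a ∈ Subgroup.normalizer (H : Set G) := by
  rw [Subgroup.mem_normalizer_iff]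
  intro x
  have h' : ∀ y, y ∈ H.map (MulAut.conj a).toMonoidHom ↔ y ∈ H.map (MulAut.conj b).toMonoidHom := by
    rw [h]; exact fun _ => Iff.rfl
  constructor
  · intro hx
    obtain ⟨y, hy, hyx⟩ := (h' (a * x * a⁻¹)).1 ⟨x, hx, rfl⟩
    have e : b * y * b⁻¹ = a * x * a⁻¹ := hyx
    rw [show (b⁻¹ * a) * x * (b⁻¹ * a)⁻¹ = b⁻¹ * (a * x * a⁻¹) * b by group, ← e]
    simpa [mul_assoc] using hy
  · intro hx
    obtain ⟨y, hy, hyx⟩ := (h' _).2 ⟨_, hx, rfl⟩
    have e : a * y * a⁻¹ = b * ((b⁻¹ * a) * x * (b⁻¹ * a)⁻¹) * b⁻¹ := hyx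
    have e2 : a * x * a⁻¹ = a * y * a⁻¹ := by rw [e]; group
    exact (mul_left_cancel (mul_right_cancel e2)) ▸ hy

theorem degree_sq_gt (H : Subgroup G) [Fintype H] (hab : ∀ a ∈ H, ∀ b ∈ H, a * b = b * a)
    (hZ : H ⊓ Subgroup.center G = ⊥) (hone : DisjointCentralizers H) {χ : G → ℂ}
    (hχ : Cfsg.IsIrrCharacter G χ) (hker : ∃ h ∈ H, χ h ≠ χ 1) {n c : ℕ} (hn : χ 1 = n)
    (hc : Cfsg.classInner (fun h : H => χ h) (fun _ => 1) = c) :
    Nat.card H * c ^ 2 < n ^ 2 := by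
  classical
  by_contra hcon
  push Not at hcon
  have hconR : (n : ℝ) ^ 2 ≤ (Nat.card H : ℝ) * (c : ℝ) ^ 2 := by exact_mod_cast hcon
  set N := Subgroup.normalizer (H : Set G) with hNdef
  set Z := Subgroup.center G with hZdef
  haveI : Fintype N := Fintype.ofFinite _
  haveI : Fintype (H.subgroupOf N) := Fintype.ofFinite _
  haveI : Fintype Z := Fintype.ofFinite _
  haveI : (H.subgroupOf N).Normal := Subgroup.normal_in_normalizer
  set S : Finset G := Finset.univ.filter fun g => g ∉ Z ∧ ∃ h ∈ H, h ≠ 1 ∧ g * h = h * g with hS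
  have hid : H.map (MulAut.conj (1 : G)).toMonoidHom = H := by ext; simp [Subgroup.mem_map]
  have hmeet : ∀ g t : G, (∃ h ∈ H, h ≠ 1 ∧ (t⁻¹ * g * t) * h = h * (t⁻¹ * g * t)) →
      Subgroup.centralizer ({g} : Set G) ⊓ H.map (MulAut.conj t).toMonoidHom ≠ ⊥ := by
    rintro g t ⟨h, hh, h1, hcomm⟩ hbot
    have hmem : t * h * t⁻¹ ∈ Subgroup.centralizer ({g} : Set G) ⊓ H.map (MulAut.conj t).toMonoidHom := by
      refine ⟨Subgroup.mem_centralizer_iff.2 fun y hy => ?_, ⟨h, hh, rfl⟩⟩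
      rw [Set.mem_singleton_iff.1 hy]
      have := congrArg (fun z => t * z * t⁻¹) hcomm
      simpa [mul_assoc] using this
    rw [hbot, Subgroup.mem_bot, conj_eq_one_iff] at hmem
    exact h1 hmem
  have hSN : ∀ g ∈ S, g ∈ N := by
    intro g hg
    obtain ⟨hgZ, h, hh, h1, hcomm⟩ := (Finset.mem_filter.1 hg).2
    have e := hone g hgZ g 1
      (hmeet g g ⟨h, hh, h1, by rw [inv_mul_cancel, one_mul]; exact hcomm⟩)
      (hmeet g 1 ⟨h, hh, h1, by simpa using hcomm⟩)
    simpa using mem_normalizer_of_map_eq e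
  -- the average on `N`
  set f : N → ℂ := fun x => χ x with hf
  set θ : N → ℂ := cosetAvg (H.subgroupOf N) f with hθdef
  have hθ : ∀ x : N, θ x = (Nat.card H : ℂ)⁻¹ * ∑ h : H, χ ((x : G) * h) := by
    intro x
    simp only [hθdef, cosetAvg, hf]
    congr 1
    · rw [Nat.card_congr (Subgroup.subgroupOfEquivOfLe Subgroup.le_normalizer).toEquiv]
    · exact Fintype.sum_equiv (Subgroup.subgroupOfEquivOfLe Subgroup.le_normalizer).toEquiv _ _
        fun k => rfl
  have hθ1 : θ 1 = c := by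
    rw [hθ, ← hc, classInner_def]
    simp
  have hmain := card_add_sum_avg_le (H.subgroupOf N)
    (CharInduce.IsChar.res (IsIrr.isCharacter hχ) N) (by
      obtain ⟨h, hh, hne⟩ := hker
      exact ⟨⟨h, Subgroup.le_normalizer hh⟩, hh, hne⟩)
  obtain ⟨m, ρ, hρirr, hρ⟩ := id hχ
  haveI := hρirr
  have hscal : ∀ z ∈ Z, ∃ ω : ℂ, ‖ω‖ = 1 ∧ ∀ g, χ (g * z) = ω * χ g := by
    intro z hz
    obtain ⟨ω, -, hω1, hω⟩ := exists_central_scalar (ρ := ρ) hz
    exact ⟨ω, hω1, fun g => by rw [← hρ]; exact hω g⟩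
  have hθZ : ∀ (x : N), (x : G) ∈ Z → ‖f x‖ = n ∧ ‖θ x‖ = c := by
    intro x hx
    obtain ⟨ω, hω1, hω⟩ := hscal _ hx
    constructor
    · show ‖χ (x : G)‖ = _
      rw [← one_mul (x : G), hω, norm_mul, hω1, hn]
      simp
    · have e : θ x = ω * θ 1 := by
        rw [hθ, hθ, mul_left_comm, Finset.mul_sum _ _ ω]
        congr 1
        refine Finset.sum_congr rfl fun h _ => ?_
        rw [OneMemClass.coe_one, one_mul, ← Subgroup.mem_center_iff.1 hx (h : G), hω]
      rw [e, norm_mul, hω1, hθ1]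
      simp
  have hout : ∀ x : N, (x : G) ∉ Z → (x : G) ∉ S → f x = θ x := by
    intro x hxZ hxS
    let φ : H → H := fun a => ⟨(x : G)⁻¹ * a * x * (a : G)⁻¹,
      H.mul_mem ((Subgroup.mem_normalizer_iff''.1 x.2 _).1 a.2) (H.inv_mem a.2)⟩
    have hinj : Function.Injective φ := by
      intro a b hab'
      have e : (x : G)⁻¹ * a * x * (a : G)⁻¹ = (x : G)⁻¹ * b * x * (b : G)⁻¹ := congrArg Subtype.val hab'
      by_contra hne
      apply hxS
      refine Finset.mem_filter.2 ⟨Finset.mem_univ _, hxZ, (b : G)⁻¹ * a, H.mul_mem (H.inv_mem b.2) a.2,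
        fun h => hne (Subtype.ext (inv_mul_eq_one.1 h).symm), ?_⟩
      have e2 : (x : G)⁻¹ * (a : G) * x = (x : G)⁻¹ * b * x * ((b : G)⁻¹ * a) := by
        rw [← mul_assoc, ← e]; group
      have e3 : (x : G)⁻¹ * ((b : G)⁻¹ * a) * x = (b : G)⁻¹ * a := by
        calc (x : G)⁻¹ * ((b : G)⁻¹ * a) * x = ((x : G)⁻¹ * b * x)⁻¹ * ((x : G)⁻¹ * a * x) := by group
          _ = _ := by rw [e2]; group
      calc (x : G) * ((b : G)⁻¹ * a) = (x : G) * ((x : G)⁻¹ * ((b : G)⁻¹ * a) * x) := by rw [e3]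
        _ = _ := by group
    have hsurj := Finite.surjective_of_injective hinj
    have hcoset : ∀ h : H, χ ((x : G) * h) = χ x := by
      intro h
      obtain ⟨a, ha⟩ := hsurj h
      have e : (x : G) * h = (a : G) * x * (a : G)⁻¹ := by rw [← ha]; simp [φ]; group
      rw [e]
      exact IsIrr.isClassFunction hχ _ _
    show χ x = θ x
    rw [hθ, Finset.sum_congr rfl fun h _ => hcoset h, Finset.sum_const, Finset.card_univ,
      ← Nat.card_eq_fintype_card, nsmul_eq_mul, ← mul_assoc,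
      inv_mul_cancel₀ (card_ne_zero_complex H), one_mul]
  -- transfer sums over `N` to `S`
  set F : N → ℝ := fun x => ‖f x‖ ^ 2 - ‖θ x‖ ^ 2 with hF
  have hF' : ∀ x : N, F x = (if (x : G) ∈ Z then ((n : ℝ) ^ 2 - (c : ℝ) ^ 2) else 0) +
      (if (x : G) ∈ S then F x else 0) := by
    intro x
    by_cases hxZ : (x : G) ∈ Z
    · have : (x : G) ∉ S := fun h => (Finset.mem_filter.1 h).2.1 hxZ
      rw [if_pos hxZ, if_neg this, add_zero, hF]
      simp [(hθZ x hxZ).1, (hθZ x hxZ).2]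
    · rw [if_neg hxZ, zero_add]
      by_cases hxS : (x : G) ∈ S
      · rw [if_pos hxS]
      · rw [if_neg hxS, hF]
        simp [hout x hxZ hxS]
  have hcardZ : (Finset.univ.filter fun x : N => (x : G) ∈ Z).card = Nat.card Z := by
    rw [← Fintype.card_subtype, ← Nat.card_eq_fintype_card]
    exact Nat.card_congr
      { toFun := fun x => ⟨x.1.1, x.2⟩
        invFun := fun z => ⟨⟨z.1, Subgroup.center_le_normalizer _ z.2⟩, z.2⟩
        left_inv := fun _ => rfl
        right_inv := fun _ => rfl }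
  have hsumF : (Nat.card N : ℝ) ≤ (Nat.card Z : ℝ) * ((n : ℝ) ^ 2 - (c : ℝ) ^ 2) +
      ∑ x : N, (if (x : G) ∈ S then F x else 0) := by
    have h1 : (Nat.card N : ℝ) ≤ ∑ x : N, F x := by
      simp only [hF, Finset.sum_sub_distrib]
      linarith
    rw [Finset.sum_congr rfl fun x _ => hF' x, Finset.sum_add_distrib, ← Finset.sum_filter,
      Finset.sum_const, hcardZ, nsmul_eq_mul] at h1
    exact h1
  -- lower bound for the average on `S`
  have hθS : (Nat.card Z : ℝ) * ((Nat.card H : ℝ) - 1) * (c : ℝ) ^ 2 ≤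
      ∑ x : N, (if (x : G) ∈ S then ‖θ x‖ ^ 2 else 0) := by
    let emb : Z × {h : H // h ≠ 1} → N := fun p =>
      ⟨(p.1 : G) * (p.2.1 : G), N.mul_mem (Subgroup.center_le_normalizer _ p.1.2) (Subgroup.le_normalizer p.2.1.2)⟩
    have hinj : Function.Injective emb := by
      rintro ⟨z, h, hh⟩ ⟨z', h', hh'⟩ e
      have e1 : (z : G) * (h : G) = (z' : G) * (h' : G) := congrArg Subtype.val e
      have e2 : (z' : G)⁻¹ * z = (h' : G) * (h : G)⁻¹ := by
        rw [eq_mul_inv_iff_mul_eq, mul_assoc, e1]; group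
      have e3 : (z' : G)⁻¹ * z ∈ H ⊓ Z :=
        ⟨e2 ▸ H.mul_mem h'.2 (H.inv_mem h.2), Z.mul_mem (Z.inv_mem z'.2) z.2⟩
      rw [hZ, Subgroup.mem_bot] at e3
      have hzz : (z' : G) = z := inv_mul_eq_one.1 e3
      rw [e3] at e2
      have hhh : (h' : G) = h := mul_inv_eq_one.1 e2.symm
      exact Prod.ext (Subtype.ext hzz.symm) (Subtype.ext (Subtype.ext hhh.symm))
    have hval : ∀ p, (if ((emb p : N) : G) ∈ S then ‖θ (emb p)‖ ^ 2 else 0) = (c : ℝ) ^ 2 := by
      rintro ⟨z, h, hh⟩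
      have hne : (h : G) ≠ 1 := fun e => hh (Subtype.ext e)
      have hmem : (z : G) * (h : G) ∈ S := by
        refine Finset.mem_filter.2 ⟨Finset.mem_univ _, fun hc' => hne ?_, h, h.2, hne, ?_⟩
        · have : (h : G) ∈ H ⊓ Z := ⟨h.2, by simpa using Z.mul_mem (Z.inv_mem z.2) hc'⟩
          rwa [hZ, Subgroup.mem_bot] at this
        · rw [← mul_assoc, ← Subgroup.mem_center_iff.1 z.2 (h : G)]
      rw [if_pos hmem]
      obtain ⟨ω, hω1, hω⟩ := hscal _ z.2
      have e : θ (emb (z, ⟨h, hh⟩)) = ω * θ 1 := by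
        rw [hθ, hθ, mul_left_comm, Finset.mul_sum _ _ ω]
        congr 1
        refine Fintype.sum_equiv (Equiv.mulLeft h) _ _ fun k => ?_
        show χ ((z : G) * (h : G) * (k : G)) = ω * χ (((1 : N) : G) * ((h * k : H) : G))
        rw [OneMemClass.coe_one, one_mul, Subgroup.coe_mul, mul_assoc,
          ← Subgroup.mem_center_iff.1 z.2 ((h : G) * k), hω]
      rw [e, norm_mul, hω1, hθ1]
      simp
    calc (Nat.card Z : ℝ) * ((Nat.card H : ℝ) - 1) * (c : ℝ) ^ 2
        = ∑ _p : Z × {h : H // h ≠ 1}, (c : ℝ) ^ 2 := by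
          rw [Finset.sum_const, Finset.card_univ, nsmul_eq_mul, Fintype.card_prod,
            Fintype.card_subtype_compl, Fintype.card_subtype_eq, Nat.cast_mul,
            Nat.cast_sub Fintype.card_pos, Nat.card_eq_fintype_card, Nat.card_eq_fintype_card, Nat.cast_one]
      _ = ∑ x ∈ Finset.univ.image emb, (if (x : G) ∈ S then ‖θ x‖ ^ 2 else 0) := by
          rw [Finset.sum_image hinj.injOn, Finset.sum_congr rfl fun p _ => hval p]
      _ ≤ _ := Finset.sum_le_sum_of_subset_of_nonneg (Finset.subset_univ _)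
          (fun x _ _ => by split_ifs <;> positivity)
  have hlow : (Nat.card N : ℝ) ≤ ∑ g ∈ S, ‖χ g‖ ^ 2 := by
    have e : ∑ g ∈ S, ‖χ g‖ ^ 2 = ∑ x : N, (if (x : G) ∈ S then ‖f x‖ ^ 2 else 0) := by
      rw [← Finset.sum_filter]
      exact (Finset.sum_bij (fun (x : N) _ => (x : G)) (fun x hx => (Finset.mem_filter.1 hx).2)
        (fun a _ b _ h => Subtype.ext h)
        (fun g hg => ⟨⟨g, hSN g hg⟩, Finset.mem_filter.2 ⟨Finset.mem_univ _, hg⟩, rfl⟩)
        (fun x _ => rfl)).symm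
    have e2 : ∑ x : N, (if (x : G) ∈ S then ‖f x‖ ^ 2 else 0) =
        ∑ x : N, (if (x : G) ∈ S then F x else 0) + ∑ x : N, (if (x : G) ∈ S then ‖θ x‖ ^ 2 else 0) := by
      rw [← Finset.sum_add_distrib]
      refine Finset.sum_congr rfl fun x _ => ?_
      split_ifs <;> simp [hF]
    have hZc : (0 : ℝ) ≤ Nat.card Z := Nat.cast_nonneg _
    rw [e, e2]
    nlinarith
  -- the conjugates of `S` are nearly disjoint
  have hup : (Nat.card G : ℝ) * ∑ g ∈ S, ‖χ g‖ ^ 2 ≤
      (Nat.card N : ℝ) * ∑ g ∈ Finset.univ.filter (fun g : G => g ∉ Z), ‖χ g‖ ^ 2 := by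
    have h1 : ∀ t : G, ∑ g ∈ S, ‖χ g‖ ^ 2 = ∑ g : G, if t⁻¹ * g * t ∈ S then ‖χ g‖ ^ 2 else 0 := by
      intro t
      rw [← Finset.sum_filter]
      refine Finset.sum_bij' (fun g _ => t * g * t⁻¹) (fun g _ => t⁻¹ * g * t) ?_ ?_ ?_ ?_ ?_
      · intro g hg; simp [mul_assoc, hg]
      · intro g hg; exact (Finset.mem_filter.1 hg).2
      · intro g _; group
      · intro g _; group
      · intro g _; rw [IsIrr.isClassFunction hχ g t]
    have h2 : (Nat.card G : ℝ) * ∑ g ∈ S, ‖χ g‖ ^ 2 =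
        ∑ g : G, ((Finset.univ.filter fun t : G => t⁻¹ * g * t ∈ S).card : ℝ) * ‖χ g‖ ^ 2 := by
      rw [Nat.card_eq_fintype_card, ← Finset.card_univ, ← nsmul_eq_mul, ← Finset.sum_const,
        Finset.sum_congr rfl fun t _ => h1 t, Finset.sum_comm]
      refine Finset.sum_congr rfl fun g _ => ?_
      rw [← Finset.sum_filter, Finset.sum_const, nsmul_eq_mul]
    rw [h2, Finset.mul_sum, Finset.sum_filter]
    refine Finset.sum_le_sum fun g _ => ?_
    rcases (Finset.univ.filter fun t : G => t⁻¹ * g * t ∈ S).eq_empty_or_nonempty with h | ⟨t₀, ht₀⟩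
    · rw [h]
      split_ifs <;> simp <;> positivity
    · have ht₀' := (Finset.mem_filter.1 (Finset.mem_filter.1 ht₀).2).2
      have hgZ : g ∉ Z := fun hg => ht₀'.1 (by
        rw [Subgroup.mem_center_iff.1 hg t₀⁻¹, mul_assoc, inv_mul_cancel, mul_one]; exact hg)
      rw [if_pos hgZ]
      refine mul_le_mul_of_nonneg_right ?_ (by positivity)
      have hle : (Finset.univ.filter fun t : G => t⁻¹ * g * t ∈ S).card ≤
          ((Finset.univ : Finset N).image fun x : N => t₀ * (x : G)).card := by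
        refine Finset.card_le_card fun t ht => ?_
        have ht' := (Finset.mem_filter.1 (Finset.mem_filter.1 ht).2).2
        have e := hone g hgZ t t₀ (hmeet g t ht'.2) (hmeet g t₀ ht₀'.2)
        exact Finset.mem_image.2 ⟨⟨t₀⁻¹ * t, mem_normalizer_of_map_eq e⟩, Finset.mem_univ _, by simp⟩
      exact_mod_cast hle.trans (Finset.card_image_le.trans (by rw [Finset.card_univ, Nat.card_eq_fintype_card]))
  have htot : ∑ g ∈ Finset.univ.filter (fun g : G => g ∉ Z), ‖χ g‖ ^ 2 < Nat.card G := by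
    have h1 := classInner_irr_self hχ
    rw [classInner_self_eq] at h1
    have h2 : ((Nat.card G : ℝ)⁻¹ * ∑ g : G, ‖χ g‖ ^ 2 : ℝ) = 1 := by exact_mod_cast h1
    have hG : (Nat.card G : ℝ) ≠ 0 := by exact_mod_cast Nat.card_pos.ne'
    have h3 : ∑ g : G, ‖χ g‖ ^ 2 = Nat.card G := by
      field_simp at h2; linarith
    calc ∑ g ∈ Finset.univ.filter (fun g : G => g ∉ Z), ‖χ g‖ ^ 2 < ∑ g : G, ‖χ g‖ ^ 2 :=
          Finset.sum_lt_sum_of_subset (Finset.subset_univ _) (Finset.mem_univ (1 : G))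
            (by simp [Z.one_mem])
            (by
              have := norm_pos_iff.2 (IsIrr.one_ne_zero hχ)
              positivity)
            (fun j _ _ => by positivity)
      _ = _ := h3
  have hN : (0 : ℝ) < Nat.card N := by exact_mod_cast Nat.card_pos
  have hG : (0 : ℝ) < Nat.card G := by exact_mod_cast Nat.card_pos
  nlinarith [mul_lt_mul_of_pos_left htot hN, mul_le_mul_of_nonneg_left hlow hG.le]

/-- the second bound -/
theorem succ_degree_sq_gt (H : Subgroup G) [Fintype H] (hab : ∀ a ∈ H, ∀ b ∈ H, a * b = b * a)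
    (hZ : H ⊓ Subgroup.center G = ⊥) (hone : DisjointCentralizers H) {χ : G → ℂ}
    (hχ : Cfsg.IsIrrCharacter G χ) {n : ℕ} (hn : χ 1 = n) (hn1 : 1 < n)
    (htop : ∀ M : Subgroup G, M.Normal → H ≤ M → M = ⊤) :
    Nat.card H < (n + 1) ^ 2 := by
  classical
  set ξ : G → ℂ := fun g => χ g * conj (χ g) with hξdef
  have hξ : Cfsg.IsCharacter G ξ :=
    CharInduce.IsChar.mul (IsIrr.isCharacter hχ) (CharInduce.IsChar.conj (IsIrr.isCharacter hχ))
  obtain ⟨m, hm, hsum⟩ := IsChar.exists_nat_mult hξ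
  set e : Cfsg.IrrCharacter G := ⟨fun _ => 1, isIrrCharacter_one⟩ with he
  have hme : m e = 1 := by
    have h : Cfsg.classInner ξ (fun _ => 1) = Cfsg.classInner χ χ := by
      simp [classInner_def, hξdef]
    have := hm e
    rw [show ((e : Cfsg.IrrCharacter G) : G → ℂ) = fun _ => 1 from rfl, h, classInner_irr_self hχ] at this
    exact_mod_cast this.symm
  have hd : ∀ ψ : Cfsg.IrrCharacter G, ∃ d k : ℕ, (ψ : G → ℂ) 1 = d ∧
      Cfsg.classInner (fun h : H => (ψ : G → ℂ) h) (fun _ => 1) = k := by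
    intro ψ
    obtain ⟨d, -, hd⟩ := IsIrr.exists_degree ψ.2
    obtain ⟨k, hk⟩ := classInner_isChar_nat (CharInduce.IsChar.res (IsIrr.isCharacter ψ.2) H)
      CharInduce.IsChar.one
    exact ⟨d, k, hd, hk⟩
  choose d k hd hk using hd
  set r := Real.sqrt (Nat.card H) with hr
  have hrsq : r ^ 2 = (Nat.card H : ℝ) := Real.sq_sqrt (Nat.cast_nonneg _)
  have hr0 : 0 ≤ r := Real.sqrt_nonneg _
  have hψ : ∀ ψ : Cfsg.IrrCharacter G, ψ ≠ e → r * k ψ < d ψ := by
    intro ψ hne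
    have hker : ∃ h ∈ H, (ψ : G → ℂ) h ≠ (ψ : G → ℂ) 1 := by
      by_contra hc
      push Not at hc
      obtain ⟨K, hKn, hK, -⟩ := CharBasic.IsChar.exists_kernel (IsIrr.isCharacter ψ.2)
      have hKtop := htop K hKn fun h hh => (hK h).2 (hc h hh)
      apply hne
      by_contra hne'
      have h0 := classInner_irr_of_ne ψ.2 isIrrCharacter_one (fun h => hne' (Subtype.ext h))
      rw [show (ψ : G → ℂ) = fun _ => (ψ : G → ℂ) 1 from
        funext fun g => (hK g).1 (hKtop ▸ Subgroup.mem_top g)] at h0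
      rw [classInner_def] at h0
      simp [IsIrr.one_ne_zero ψ.2] at h0
    have h := degree_sq_gt H hab hZ hone ψ.2 hker (hd ψ) (hk ψ)
    have h' : (Nat.card H : ℝ) * (k ψ : ℝ) ^ 2 < (d ψ : ℝ) ^ 2 := by exact_mod_cast h
    nlinarith
  have hdeg : ((n : ℝ)) ^ 2 = ∑ ψ : Cfsg.IrrCharacter G, (m ψ : ℝ) * d ψ := by
    have h := congrFun hsum 1
    simp only [hξdef, hn, map_natCast, Finset.sum_apply, Pi.smul_apply, smul_eq_mul, hd] at h
    have h' : n * n = ∑ ψ : Cfsg.IrrCharacter G, m ψ * d ψ := by exact_mod_cast h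
    rw [sq]
    exact_mod_cast h'
  have hfix : (n : ℝ) ≤ ∑ ψ : Cfsg.IrrCharacter G, (m ψ : ℝ) * k ψ := by
    obtain ⟨a, -, hasum⟩ := IsChar.exists_nat_mult (CharInduce.IsChar.res (IsIrr.isCharacter hχ) H)
    have h1 : Cfsg.classInner (fun h : H => ξ h) (fun _ => 1) =
        ((∑ φ : Cfsg.IrrCharacter H, a φ * a φ : ℕ) : ℂ) := by
      have : Cfsg.classInner (fun h : H => ξ h) (fun _ => 1) =
          Cfsg.classInner (fun h : H => χ h) (fun h : H => χ h) := by
        simp [classInner_def, hξdef]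
      rw [this]
      conv_lhs => arg 2; rw [hasum]
      rw [classInner_sum_right]
      push_cast
      refine Finset.sum_congr rfl fun φ _ => ?_
      rw [classInner_smul_right, hasum, classInner_sum_irr, map_natCast]
    have h2 : Cfsg.classInner (fun h : H => ξ h) (fun _ => 1) =
        ((∑ ψ : Cfsg.IrrCharacter G, m ψ * k ψ : ℕ) : ℂ) := by
      rw [show (fun h : H => ξ h) = ∑ ψ : Cfsg.IrrCharacter G, (m ψ : ℂ) • (fun h : H => (ψ : G → ℂ) h) from
        funext fun h => by rw [congrFun hsum (h : G)]; simp [Finset.sum_apply], classInner_sum_left]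
      push_cast
      exact Finset.sum_congr rfl fun ψ _ => by rw [classInner_smul_left, hk]
    have h3 : n = ∑ φ : Cfsg.IrrCharacter H, a φ := by
      have h := congrFun hasum 1
      simp only [OneMemClass.coe_one, hn, Finset.sum_apply, Pi.smul_apply, smul_eq_mul] at h
      rw [Finset.sum_congr rfl fun φ _ => show (a φ : ℂ) * (φ : H → ℂ) 1 = a φ by
        rw [CharInduce.IsIrr.degree_one_of_comm (fun x y => Subtype.ext (hab x x.2 y y.2)) φ.2, mul_one]] at h
      exact_mod_cast h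
    have h4 : n ≤ ∑ ψ : Cfsg.IrrCharacter G, m ψ * k ψ := by
      rw [← Nat.cast_inj (R := ℂ) |>.1 (h1.symm.trans h2), h3]
      exact Finset.sum_le_sum fun φ _ => Nat.le_mul_self _
    exact_mod_cast h4
  rw [← Finset.add_sum_erase _ _ (Finset.mem_univ e)] at hdeg hfix
  have hde : d e = 1 := by
    have := hd e
    rw [show ((e : Cfsg.IrrCharacter G) : G → ℂ) 1 = 1 from rfl] at this
    exact_mod_cast this.symm
  have hke : k e = 1 := by
    have := hk e
    rw [show (fun h : H => ((e : Cfsg.IrrCharacter G) : G → ℂ) h) = fun _ => 1 from rfl,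
      classInner_irr_self isIrrCharacter_one] at this
    exact_mod_cast this.symm
  rw [hme, hde] at hdeg
  rw [hme, hke] at hfix
  simp only [Nat.cast_one, one_mul] at hdeg hfix
  have hnR : (1 : ℝ) < n := by exact_mod_cast hn1
  obtain ⟨ψ₁, hψ₁, hmψ₁⟩ : ∃ ψ ∈ Finset.univ.erase e, m ψ ≠ 0 := by
    by_contra hc
    push Not at hc
    rw [Finset.sum_eq_zero fun ψ hψ => by rw [hc ψ hψ]; simp] at hdeg
    nlinarith
  have hlt : r * ∑ ψ ∈ Finset.univ.erase e, (m ψ : ℝ) * k ψ <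
      ∑ ψ ∈ Finset.univ.erase e, (m ψ : ℝ) * d ψ := by
    rw [Finset.mul_sum]
    refine Finset.sum_lt_sum (fun ψ hψ' => ?_) ⟨ψ₁, hψ₁, ?_⟩
    · have := (hψ ψ (Finset.ne_of_mem_erase hψ')).le
      have : (0 : ℝ) ≤ m ψ := Nat.cast_nonneg _
      nlinarith
    · have := hψ ψ₁ (Finset.ne_of_mem_erase hψ₁)
      have : (0 : ℝ) < m ψ₁ := by exact_mod_cast Nat.pos_of_ne_zero hmψ₁
      nlinarith
  have h5 : r < (n : ℝ) + 1 := by nlinarith
  have h6 : (Nat.card H : ℝ) < ((n : ℝ) + 1) ^ 2 := by rw [← hrsq]; nlinarith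
  exact_mod_cast h6

end Cfsg.Agent.H34
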