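import Mathlib
import Cfsg.Agent.H34.TICentralizer
import Cfsg.Agent.H80.Blichfeldt

/-!
Feit-Thompson / Blichfeldt: a normal Sylow subgroup for primes large against the degree.
-/

set_option autoImplicit false

namespace Cfsg.Agent.H34

open scoped ComplexConjugate commutatorElement
open Cfsg.Agent.CharBasic Cfsg.Agent.CharInduce Cfsg.Agent.H80

universe u

variable {G : Type u} [Group G]

/-- if `x` fixes `t⁻¹ x t x⁻¹ ∈ T` and the orders are coprime then `x` fixes `t` -/
theorem commute_of_conj_fix {T : Subgroup G} {x t : G} (hco : (orderOf x).Coprime (Nat.card T))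
    (hu : t⁻¹ * (x * t * x⁻¹) ∈ T)
    (hfix : x * (t⁻¹ * (x * t * x⁻¹)) * x⁻¹ = t⁻¹ * (x * t * x⁻¹)) : x * t = t * x := by
  set u := t⁻¹ * (x * t * x⁻¹) with hudef
  have key : ∀ k : ℕ, x ^ k * t * (x ^ k)⁻¹ = t * u ^ k := by
    intro k
    induction k with
    | zero => simp
    | succ k ih =>
      have h1 : x * u ^ k * x⁻¹ = u ^ k := by rw [← conj_pow, hfix]
      calc x ^ (k + 1) * t * (x ^ (k + 1))⁻¹ = x * (x ^ k * t * (x ^ k)⁻¹) * x⁻¹ := by
            rw [pow_succ']; group
        _ = x * (t * u ^ k) * x⁻¹ := by rw [ih]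
        _ = (x * t * x⁻¹) * (x * u ^ k * x⁻¹) := by group
        _ = t * (u * u ^ k) := by
            rw [h1, ← mul_assoc t u]
            congr 1
            rw [hudef]; group
        _ = t * u ^ (k + 1) := by rw [pow_succ']
  have h0 := key (orderOf x)
  rw [pow_orderOf_eq_one] at h0
  simp only [one_mul, inv_one, mul_one] at h0
  have h1 : u ^ orderOf x = 1 := by
    simpa using h0.symm
  have h2 : u = 1 := by
    rw [← orderOf_eq_one_iff]
    refine Nat.eq_one_of_dvd_coprimes hco (orderOf_dvd_of_pow_eq_one h1) ?_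
    have := orderOf_dvd_natCard (⟨u, hu⟩ : T)
    rwa [Subgroup.orderOf_mk] at this
  rw [hudef, inv_mul_eq_one] at h2
  calc x * t = (x * t * x⁻¹) * x := by group
    _ = t * x := by rw [← h2]

/-- coprime action with small degree is trivial -/
theorem centralizes_of_small_degree [Finite G] {n p q : ℕ} [hp : Fact p.Prime] [hq : Fact q.Prime]
    (hF : Blichfeldt.HasFaithful n G) (hnp : n + 1 < p) (T : Subgroup G) [T.Normal]
    (hTq : IsPGroup q T) (hqp : q ≠ p) {x : G} (hx : ∃ k, orderOf x = p ^ k)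
    (hxp : x ^ p ∈ Subgroup.center G)
    (hU : ∀ U : Subgroup G, U ≤ T → U ≠ T → (∀ u ∈ U, x * u * x⁻¹ ∈ U) → ∀ u ∈ U, x * u = u * x) :
    ∀ t ∈ T, x * t = t * x := by
  classical
  by_contra hcon
  push Not at hcon
  obtain ⟨t₀, ht₀, ht₀x⟩ := hcon
  haveI : Fintype G := Fintype.ofFinite G
  haveI : Fintype T := Fintype.ofFinite T
  obtain ⟨k, hk⟩ := hx
  have hTp : ¬ p ∣ Nat.card T := by
    obtain ⟨j, hj⟩ := IsPGroup.iff_card.1 hTq
    rw [hj]
    intro h
    exact hqp ((Nat.prime_dvd_prime_iff_eq hp.out hq.out).1 (hp.out.dvd_of_dvd_pow h)).symm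
  have hco : (orderOf x).Coprime (Nat.card T) := by
    rw [hk]; exact ((hp.out.coprime_iff_not_dvd).2 hTp).pow_left k
  have hxT : ∀ t ∈ T, x * t * x⁻¹ ∈ T := fun t ht => Subgroup.Normal.conj_mem ‹T.Normal› t ht x
  -- the displacement subgroup is everything
  set W := Subgroup.closure ((fun t => t⁻¹ * (x * t * x⁻¹)) '' (T : Set G)) with hWdef
  have hWT : W ≤ T := by
    rw [Subgroup.closure_le]
    rintro - ⟨t, ht, rfl⟩
    exact mul_mem (inv_mem ht) (hxT t ht)
  have hW : W = T := by
    by_contra hne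
    have hinv : ∀ u ∈ W, x * u * x⁻¹ ∈ W := by
      intro u hu
      have hle : W.map (MulAut.conj x).toMonoidHom ≤ W := by
        rw [hWdef, MonoidHom.map_closure, Subgroup.closure_le]
        rintro - ⟨-, ⟨t, ht, rfl⟩, rfl⟩
        refine Subgroup.subset_closure ⟨x * t * x⁻¹, hxT t ht, ?_⟩
        simp [mul_assoc]
      exact hle ⟨u, hu, rfl⟩
    refine ht₀x (commute_of_conj_fix hco (mul_mem (inv_mem ht₀) (hxT t₀ ht₀)) ?_)
    have := hU W hWT hne hinv _ (Subgroup.subset_closure ⟨t₀, ht₀, rfl⟩)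
    rw [this]; group
  -- the fixed points
  set C := T ⊓ Subgroup.centralizer ({x} : Set G) with hCdef
  have hCmem : ∀ u, u ∈ C ↔ u ∈ T ∧ x * u = u * x := by
    intro u
    simp only [hCdef, Subgroup.mem_inf, Subgroup.mem_centralizer_singleton_iff]
    exact and_congr_right fun _ => eq_comm
  haveI : Nontrivial T := ⟨⟨⟨t₀, ht₀⟩, 1, fun e => ht₀x (by
    have : t₀ = 1 := congrArg Subtype.val e
    simp [this])⟩⟩
  have hder : ∀ a ∈ T, ∀ b ∈ T, ⁅a, b⁆ ∈ C := by
    have hne : ⁅T, T⁆ ≠ T := by
      haveI : Group.IsNilpotent T := hTq.isNilpotent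
      intro he
      have h1 : (⁅(⊤ : Subgroup T), (⊤ : Subgroup T)⁆ : Subgroup T).map T.subtype = (⊤ : Subgroup T).map T.subtype := by
        rw [Subgroup.map_commutator, ← MonoidHom.range_eq_map, Subgroup.range_subtype, he]
      have h2 := Subgroup.map_injective T.subtype_injective h1
      exact (Group.IsSolvable.commutator_lt_of_ne_bot (top_ne_bot (α := Subgroup T))).ne h2
    have hsub : ⁅T, T⁆ ≤ T := Subgroup.commutator_le_self T
    intro a ha b hb
    have hmem : ⁅a, b⁆ ∈ ⁅T, T⁆ := Subgroup.commutator_mem_commutator ha hb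
    exact (hCmem _).2 ⟨hsub hmem, hU _ hsub hne
      (fun u hu => Subgroup.Normal.conj_mem inferInstance u hu x) _ hmem⟩
  have hCcen : ∀ c ∈ C, ∀ t ∈ T, c * t = t * c := by
    intro c hc t ht
    obtain ⟨hcT, hcx⟩ := (hCmem c).1 hc
    have hle : T ≤ Subgroup.centralizer ({c} : Set G) := by
      rw [← hW, hWdef, Subgroup.closure_le]
      rintro - ⟨t, ht, rfl⟩
      rw [SetLike.mem_coe, Subgroup.mem_centralizer_singleton_iff]
      obtain ⟨-, hz⟩ := (hCmem _).1 (hder c hcT t ht)
      set t' := x * t * x⁻¹ with ht'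
      set z := ⁅c, t⁆ with hzdef
      have e1 : c * t * c⁻¹ = z * t := by rw [hzdef, commutatorElement_def]; group
      have e2 : c * t' * c⁻¹ = z * t' := by
        have hc' : x * c * x⁻¹ = c := by rw [hcx]; group
        have hz' : x * z * x⁻¹ = z := by rw [hz]; group
        calc c * t' * c⁻¹ = (x * c * x⁻¹) * t' * (x * c * x⁻¹)⁻¹ := by rw [hc']
          _ = x * (c * t * c⁻¹) * x⁻¹ := by rw [ht']; group
          _ = (x * z * x⁻¹) * t' := by rw [e1, ht']; group
          _ = z * t' := by rw [hz']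
      have e3 : c * (t⁻¹ * t') * c⁻¹ = t⁻¹ * t' := by
        calc c * (t⁻¹ * t') * c⁻¹ = (c * t * c⁻¹)⁻¹ * (c * t' * c⁻¹) := by group
          _ = _ := by rw [e1, e2]; group
      calc t⁻¹ * t' * c = c * (t⁻¹ * t') * c⁻¹ * c := by rw [e3]
        _ = c * (t⁻¹ * t') := by group
    exact (Subgroup.mem_centralizer_singleton_iff.1 (hle ht)).symm
  -- a constituent moving `T`
  obtain ⟨s, hdeg, hkers⟩ := Blichfeldt.exists_constituents hF
  obtain ⟨ψ, hψs, hψ⟩ : ∃ ψ ∈ s, ¬ ∀ t ∈ T, (ψ : G → ℂ) t = (ψ : G → ℂ) 1 := by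
    by_contra hc
    push Not at hc
    refine ht₀x ?_
    rw [hkers t₀ fun ψ hψ => hc ψ hψ t₀ ht₀]
    simp
  obtain ⟨dψ, hdψn, hdψ⟩ := hdeg ψ hψs
  have hres := CharInduce.IsChar.res (IsIrr.isCharacter ψ.2) T
  obtain ⟨θ, hθ⟩ := exists_constituent hres (fun e => IsIrr.one_ne_zero ψ.2 (by simpa using congrFun e 1))
  obtain ⟨d, hd0, hd⟩ := IsIrr.exists_degree θ.2
  obtain ⟨e, he⟩ := classInner_isChar_nat hres (IsIrr.isCharacter θ.2)
  set I := CharInduce.inertia T (θ : T → ℂ) with hI
  have hdeg2 : dψ = e * I.index * d := by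
    have h := clifford_degree T ψ.2 θ.2 hθ
    rw [he, hdψ, hd] at h
    exact_mod_cast h
  have he0 : 0 < e := Nat.pos_of_ne_zero fun h0 => hθ (by rw [he, h0, Nat.cast_zero])
  have hI0 : 0 < I.index := Nat.pos_of_ne_zero Subgroup.index_ne_zero_of_finite
  have hxI : x ∈ I := by
    by_contra hxI
    have h1 : p ≤ I.index := by
      have hz : x ^ p ∈ I := by
        rw [hI, CharInduce.mem_inertia]
        funext t
        simp only [CharInduce.conjFun]
        refine congrArg (θ : T → ℂ) (Subtype.ext ?_)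
        show x ^ p * (t : G) * (x ^ p)⁻¹ = t
        rw [← Subgroup.mem_center_iff.1 hxp (t : G), mul_inv_cancel_right]
      have h2 : p ≤ I.relIndex (Subgroup.zpowers x) := by
        have hdvd : I.relIndex (Subgroup.zpowers x) ∣ (Subgroup.zpowers (x ^ p)).relIndex (Subgroup.zpowers x) :=
          Subgroup.relIndex_dvd_of_le_left _ ((Subgroup.zpowers_le).2 hz)
        have hne : I.relIndex (Subgroup.zpowers x) ≠ 1 := fun h =>
          hxI (Subgroup.relIndex_eq_one.1 h (Subgroup.mem_zpowers x))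
        have hpo : p ∣ orderOf x := by
          rcases Nat.eq_zero_or_pos k with rfl | hk0
          · refine absurd ?_ hxI
            have hx1 : x = 1 := orderOf_eq_one_iff.1 (by simpa using hk)
            rw [hx1]; exact I.one_mem
          · rw [hk]; exact dvd_pow_self p hk0.ne'
        have hpe : (Subgroup.zpowers (x ^ p)).relIndex (Subgroup.zpowers x) = p := by
          have h := Subgroup.relIndex_mul_relIndex (⊥ : Subgroup G) (Subgroup.zpowers (x ^ p))
            (Subgroup.zpowers x) bot_le ((Subgroup.zpowers_le).2 (pow_mem (Subgroup.mem_zpowers x) p))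
          rw [Subgroup.relIndex_bot_left, Subgroup.relIndex_bot_left, Nat.card_zpowers, Nat.card_zpowers,
            orderOf_pow, Nat.gcd_eq_right hpo] at h
          obtain ⟨j, hj⟩ := hpo
          have hxpos := orderOf_pos x
          have hjpos : 0 < j := by
            rcases Nat.eq_zero_or_pos j with rfl | h0
            · omega
            · exact h0
          rw [hj, Nat.mul_div_cancel_left _ hp.out.pos, mul_comm] at h
          exact Nat.eq_of_mul_eq_mul_right hjpos h
        rw [hpe] at hdvd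
        rcases (Nat.dvd_prime hp.out).1 hdvd with h | h
        · exact absurd h hne
        · exact h.ge
      refine h2.trans ?_
      rw [← Subgroup.relIndex_top_right]
      exact Subgroup.relIndex_le_of_le_right le_top (by rw [Subgroup.relIndex_top_right]; exact Subgroup.index_ne_zero_of_finite)
    have h3 : I.index ≤ dψ := by
      rw [hdeg2]
      calc I.index = 1 * I.index * 1 := by simp
        _ ≤ e * I.index * d := Nat.mul_le_mul (Nat.mul_le_mul_right _ he0) hd0
    omega
  have hconj : ∀ t : T, (θ : T → ℂ) ⟨x * t * x⁻¹, hxT t t.2⟩ = (θ : T → ℂ) t := fun t =>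
    congrFun ((CharInduce.mem_inertia T).1 hxI) t
  by_cases hd1 : d = 1
  · subst hd1
    obtain ⟨l, hl⟩ := CharInduce.IsChar.exists_hom_of_degree_one (IsIrr.isCharacter θ.2) (by simpa using hd)
    apply hψ
    have hone : (θ : T → ℂ) = fun _ => 1 := by
      funext t
      have hker : T ≤ (MonoidHom.ker l).map T.subtype := by
        refine hW.symm.le.trans ?_
        rw [hWdef, Subgroup.closure_le]
        rintro - ⟨t, ht, rfl⟩
        refine ⟨(⟨t, ht⟩ : T)⁻¹ * ⟨x * t * x⁻¹, hxT t ht⟩, ?_, rfl⟩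
        rw [SetLike.mem_coe, MonoidHom.mem_ker, map_mul, map_inv, inv_mul_eq_one]
        refine Units.ext ?_
        rw [← hl, ← hl]
        exact (hconj ⟨t, ht⟩).symm
      obtain ⟨u, hu, hut⟩ := hker t.2
      rw [hl, ← Subtype.ext (show (u : G) = t from hut), MonoidHom.mem_ker.1 hu, Units.val_one]
    exact (constituent_one_iff T ψ.2).1 (hone ▸ hθ)
  -- nonlinear
  obtain ⟨m, σ, hσirr, hσ⟩ := id θ.2
  haveI := hσirr
  have hσm : (Module.finrank ℂ (Fin m → ℂ) : ℂ) = d := by rw [← hd, ← hσ, Representation.char_one]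
  have hσm' : ((Module.finrank ℂ (Fin m → ℂ) : ℕ) : ℝ) = d := by exact_mod_cast hσm
  have hscal : ∀ t : T, (∃ ω : ℂ, σ t = ω • LinearMap.id) → ‖(θ : T → ℂ) t‖ = d := by
    intro t ht
    rw [← hσ, (norm_character_eq_iff σ t).2 ht, hσm']
  have hsq : ∑ t : T, ‖(θ : T → ℂ) t‖ ^ 2 = (Nat.card T : ℝ) := by
    have h1 := classInner_irr_self θ.2
    rw [classInner_self_eq] at h1
    have h2 : ((Nat.card T : ℝ)⁻¹ * ∑ t : T, ‖(θ : T → ℂ) t‖ ^ 2 : ℝ) = 1 := by exact_mod_cast h1
    have hT0 : (Nat.card T : ℝ) ≠ 0 := by exact_mod_cast Nat.card_pos.ne'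
    field_simp at h2; linarith
  obtain ⟨Z, -, hZ⟩ := CharBasic.IsChar.exists_center (IsIrr.isCharacter θ.2)
  have hZC : ∀ t : T, t ∈ Z → (t : G) ∈ C := by
    have hZne : Z.map T.subtype ≠ T := by
      intro heq
      have hall : ∀ t : T, ‖(θ : T → ℂ) t‖ = d := by
        intro t
        obtain ⟨u, hu, hut⟩ := (heq.ge t.2 : (t : G) ∈ Z.map T.subtype)
        rw [← Subtype.ext (show (u : G) = t from hut), (hZ u).1 hu, hd]
        simp
      rw [Finset.sum_congr rfl fun t _ => by rw [hall t], Finset.sum_const, Finset.card_univ,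
        ← Nat.card_eq_fintype_card, nsmul_eq_mul] at hsq
      have hT0 : (Nat.card T : ℝ) ≠ 0 := by exact_mod_cast Nat.card_pos.ne'
      have h1 : (d : ℝ) ^ 2 = 1 := mul_left_cancel₀ hT0 (by linarith)
      have h1' : d ^ 2 = 1 := by exact_mod_cast h1
      exact hd1 (by simpa using h1')
    intro t ht
    refine (hCmem _).2 ⟨t.2, hU _ (Subgroup.map_subtype_le Z) hZne ?_ _ ⟨t, ht, rfl⟩⟩
    rintro - ⟨u, hu, rfl⟩
    exact ⟨⟨_, hxT u u.2⟩, (hZ _).2 (by rw [hconj]; exact (hZ u).1 hu), rfl⟩
  have hcenT : ∀ t : T, (t : G) ∈ C → t ∈ Subgroup.center T := fun t ht =>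
    Subgroup.mem_center_iff.2 fun u => Subtype.ext (hCcen _ ht _ u.2).symm
  have hvanish : ∀ t : T, (t : G) ∉ C → (θ : T → ℂ) t = 0 := by
    intro t ht
    by_contra hne
    apply ht
    refine hZC t ((hZ t).2 ?_)
    have hcomm : ∀ k : T, σ k * σ t = σ t * σ k := by
      intro k
      set c := k * t * k⁻¹ * t⁻¹ with hc
      have hcC : (c : G) ∈ C := by
        have : (c : G) = ⁅(k : G), (t : G)⁆ := by rw [hc, commutatorElement_def]; simp
        rw [this]; exact hder _ k.2 _ t.2
      obtain ⟨ω, hω, -, hωχ⟩ := exists_central_scalar (ρ := σ) (hcenT c hcC)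
      have h1 : (θ : T → ℂ) (t * c) = (θ : T → ℂ) t := by
        rw [Subgroup.mem_center_iff.1 (hcenT c hcC) t, show c * t = k * t * k⁻¹ by rw [hc]; group]
        exact IsIrr.isClassFunction θ.2 t k
      rw [← hσ, hωχ, hσ] at h1
      have hω1 : ω = 1 := (mul_eq_right₀ hne).1 h1
      rw [hω1, one_smul] at hω
      calc σ k * σ t = σ (c * (t * k)) := by rw [← map_mul]; congr 1; rw [hc]; group
        _ = σ t * σ k := by rw [map_mul, hω, ← map_mul σ t k, ← Module.End.one_eq_id, one_mul]
    obtain ⟨ω, hω⟩ := schur_scalar σ (σ t) fun k => (hcomm k).symm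
    rw [hscal t ⟨ω, hω⟩, hd]
    simp
  have hcardC : (Finset.univ.filter fun t : T => (t : G) ∈ C).card = Nat.card C := by
    rw [← Fintype.card_subtype, ← Nat.card_eq_fintype_card]
    exact Nat.card_congr
      { toFun := fun t => ⟨t.1.1, t.2⟩
        invFun := fun c => ⟨⟨c.1, ((hCmem c.1).1 c.2).1⟩, c.2⟩
        left_inv := fun _ => rfl
        right_inv := fun _ => rfl }
  have hcard : Nat.card C * d ^ 2 = Nat.card T := by
    have h1 : ∀ t : T, ‖(θ : T → ℂ) t‖ ^ 2 = if (t : G) ∈ C then (d : ℝ) ^ 2 else 0 := by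
      intro t
      split_ifs with h
      · obtain ⟨ω, hω, -, -⟩ := exists_central_scalar (ρ := σ) (hcenT t h)
        rw [hscal t ⟨ω, hω⟩]
      · rw [hvanish t h]; simp
    rw [Finset.sum_congr rfl fun t _ => h1 t, ← Finset.sum_filter, Finset.sum_const, hcardC,
      nsmul_eq_mul] at hsq
    exact_mod_cast hsq
  have hxP : IsPGroup p (Subgroup.zpowers x) := IsPGroup.of_card (n := k) (by rw [Nat.card_zpowers, hk])
  letI : MulAction (Subgroup.zpowers x) T :=
    MulAction.compHom T ((MulAut.conjNormal : G →* MulAut T).comp (Subgroup.zpowers x).subtype)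
  have hsmul : ∀ (z : Subgroup.zpowers x) (t : T), ((z • t : T) : G) = (z : G) * t * (z : G)⁻¹ :=
    fun z t => MulAut.conjNormal_apply (z : G) t
  have hmod := hxP.card_modEq_card_fixedPoints (α := T)
  have hfix : Nat.card (MulAction.fixedPoints (Subgroup.zpowers x) T) = Nat.card C := by
    refine Nat.card_congr
      { toFun := fun t => ⟨(t.1 : G), ?_⟩
        invFun := fun c => ⟨⟨c.1, ((hCmem c.1).1 c.2).1⟩, ?_⟩
        left_inv := fun _ => rfl
        right_inv := fun _ => rfl }
    · refine (hCmem _).2 ⟨t.1.2, ?_⟩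
      have h := congrArg Subtype.val (t.2 ⟨x, Subgroup.mem_zpowers x⟩)
      rw [hsmul] at h
      exact mul_inv_eq_iff_eq_mul.1 h
    · rintro ⟨z, i, rfl⟩
      refine Subtype.ext ?_
      rw [hsmul]
      show x ^ i * c.1 * (x ^ i)⁻¹ = c.1
      rw [((Commute.zpow_left ((hCmem c.1).1 c.2).2 i)).eq, mul_inv_cancel_right]
  rw [hfix, ← hcard] at hmod
  have hCp : (Nat.card C).Coprime p := by
    refine ((hp.out.coprime_iff_not_dvd).2 fun h => hTp (h.trans ?_)).symm
    exact ⟨d ^ 2, hcard.symm⟩
  have h1 : d ^ 2 ≡ 1 [MOD p] :=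
    Nat.ModEq.cancel_left_of_coprime hCp.symm (by simpa using hmod)
  have hdle : d ≤ dψ := by
    rw [hdeg2]
    calc d = 1 * 1 * d := by simp
      _ ≤ e * I.index * d := Nat.mul_le_mul_right _ (Nat.mul_le_mul he0 hI0)
  have h2 : p ∣ (d + 1) * (d - 1) := by
    rw [← Nat.sq_sub_sq, one_pow]
    exact (Nat.modEq_iff_dvd' (Nat.one_le_pow _ _ hd0)).1 h1.symm
  rcases hp.out.dvd_mul.1 h2 with h | h
  · have := Nat.le_of_dvd (by omega) h
    omega
  · have := Nat.le_of_dvd (by omega) h
    omega

/-- the hypothesis on `(n, p)` -/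
def LargePrimeCond (n p : ℕ) (G : Type u) [Group G] : Prop :=
  (n + 1) ^ 2 ≤ p ∨ (n + 1 < p ∧ ∀ K : Subgroup G, ¬ p ^ 2 ∣ Nat.card K → ∀ Q : Sylow p K, (Q : Subgroup K).Normal)

theorem LargePrimeCond.lt {n p : ℕ} [hp : Fact p.Prime] (h : LargePrimeCond n p G) : n + 1 < p := by
  rcases h with h | h
  · rcases Nat.eq_zero_or_pos n with rfl | hn
    · have := hp.out.two_le; omega
    · nlinarith
  · exact h.1

theorem normal_of_all_normal {H K : Type*} [Group H] [Group K] {p : ℕ} (e : H ≃* K)
    (h : ∀ Q : Sylow p K, (Q : Subgroup K).Normal) (Q : Sylow p H) : (Q : Subgroup H).Normal := by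
  have hQ : IsPGroup p ((Q : Subgroup H).map e.toMonoidHom) := Q.isPGroup'.map _
  have hmax : ∀ R : Subgroup K, IsPGroup p R → (Q : Subgroup H).map e.toMonoidHom ≤ R →
      R = (Q : Subgroup H).map e.toMonoidHom := by
    intro R hR hle
    have h1 : (Q : Subgroup H) ≤ R.comap e.toMonoidHom := Subgroup.map_le_iff_le_comap.1 hle
    have h2 := Q.is_maximal' (hR.comap_of_injective e.toMonoidHom e.injective) h1
    rw [← Subgroup.map_comap_eq_self_of_surjective (f := e.toMonoidHom) e.surjective R, h2]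
  have h3 := h ⟨_, hQ, fun {R} hR hle => hmax R hR hle⟩
  have h4 := h3.comap e.toMonoidHom
  rwa [show ((⟨_, hQ, fun {R} hR hle => hmax R hR hle⟩ : Sylow p K) : Subgroup K) =
    (Q : Subgroup H).map e.toMonoidHom from rfl, Subgroup.comap_map_eq_self_of_injective
    (show Function.Injective e.toMonoidHom from e.injective)] at h4

theorem LargePrimeCond.subgroup {n p : ℕ} (h : LargePrimeCond n p G) (C : Subgroup G) :
    LargePrimeCond n p C := by
  refine h.imp id fun h => ⟨h.1, fun K hK Q => ?_⟩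
  refine normal_of_all_normal (K.equivMapOfInjective C.subtype Subtype.val_injective) ?_ Q
  exact h.2 _ (by rwa [Subgroup.card_map_of_injective C.subtype_injective])

/-- Sylow subgroups are normal (Feit-Thompson, Blichfeldt) -/
theorem sylow_normal_of_large (N : ℕ) : ∀ (G : Type u) [Group G] [Finite G], Nat.card G = N →
    ∀ {n p : ℕ} [Fact p.Prime], Blichfeldt.HasFaithful n G → LargePrimeCond n p G →
    ∀ P : Sylow p G, (P : Subgroup G).Normal := by
  induction N using Nat.strong_induction_on with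
  | _ N ih =>
  intro G _ _ hN n p hp hF hcond P
  classical
  haveI : Fintype G := Fintype.ofFinite G
  have hnp := hcond.lt
  by_contra hP
  have hsub : ∀ K : Subgroup G, K ≠ ⊤ → ∀ Q : Sylow p K, (Q : Subgroup K).Normal := fun K hK =>
    ih (Nat.card K) (by
      rw [← hN]
      exact lt_of_le_of_ne (Subgroup.card_le_card_group _) fun e => hK (Subgroup.eq_top_of_card_eq _ e))
      K rfl (hF.subgroup K) (hcond.subgroup K)
  have hab : ∀ Q : Sylow p G, ∀ a ∈ (Q : Subgroup G), ∀ b ∈ (Q : Subgroup G), a * b = b * a := by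
    intro Q a ha b hb
    refine congrArg Subtype.val (Blichfeldt.commute_of_big (hF.subgroup (Q : Subgroup G)) ?_ ⟨a, ha⟩ ⟨b, hb⟩)
    intro q hq hqd
    obtain ⟨k, hk⟩ := IsPGroup.iff_card.1 Q.isPGroup'
    rw [hk] at hqd
    rwa [(Nat.prime_dvd_prime_iff_eq hq hp.out).1 (hq.dvd_of_dvd_pow hqd)]
  have heq : ∀ (K : Subgroup G), K ≠ ⊤ → ∀ Q R : Sylow p G, (Q : Subgroup G) ≤ K →
      (R : Subgroup G) ≤ K → Q = R := by
    intro K hK Q R hQ hR
    obtain ⟨g, hg⟩ := MulAction.exists_smul_eq K (Q.subtype hQ) (R.subtype hR)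
    haveI := hsub K hK (Q.subtype hQ)
    rw [Sylow.smul_eq_of_normal] at hg
    exact Sylow.subtype_injective hg
  have hinter : ∀ Q R : Sylow p G, Q ≠ R → ∀ x ∈ (Q : Subgroup G), x ∈ (R : Subgroup G) →
      x ∈ Subgroup.center G := by
    intro Q R hne x hxQ hxR
    by_contra hxc
    refine hne (heq (Subgroup.centralizer ({x} : Set G)) ?_ Q R ?_ ?_)
    · intro htop
      exact hxc (Subgroup.mem_center_iff.2 fun g =>
        Subgroup.mem_centralizer_singleton_iff.1 (htop ▸ Subgroup.mem_top g))
    · exact fun y hy => Subgroup.mem_centralizer_singleton_iff.2 (hab Q y hy x hxQ)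
    · exact fun y hy => Subgroup.mem_centralizer_singleton_iff.2 (hab R y hy x hxR)
  obtain ⟨P₂, hP₂⟩ : ∃ Q : Sylow p G, Q ≠ P := by
    by_contra hc
    push Not at hc
    apply hP
    refine Subgroup.normalizer_eq_top_iff.1 (eq_top_iff.2 fun g _ => ?_)
    exact Sylow.smul_eq_iff_mem_normalizer.1 (hc (g • P))
  by_cases hperf : commutator G = ⊤
  · -- perfect case
    haveI : Fintype (P : Subgroup G) := Fintype.ofFinite _
    have hPZ : (P : Subgroup G) ⊓ Subgroup.center G = ⊥ := by
      rw [Subgroup.eq_bot_iff_forall]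
      rintro z ⟨hzP, hzZ⟩
      obtain ⟨k, hk⟩ := IsPGroup.iff_orderOf.1 P.isPGroup' ⟨z, hzP⟩
      rw [Subgroup.orderOf_mk] at hk
      exact Blichfeldt.center_pFree hF hperf hp.out hnp hzZ ⟨k, hk⟩
    have hone : DisjointCentralizers (P : Subgroup G) := by
      intro g hg a b ha hb
      set K := Subgroup.centralizer ({g} : Set G) with hKdef
      have hK : K ≠ ⊤ := fun htop => hg (Subgroup.mem_center_iff.2 fun x =>
        Subgroup.mem_centralizer_singleton_iff.1 (show x ∈ K by rw [htop]; exact Subgroup.mem_top x))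
      obtain ⟨R⟩ := (inferInstance : Nonempty (Sylow p K))
      haveI := hsub K hK R
      obtain ⟨Q, hQ⟩ := (R.isPGroup'.map K.subtype).exists_le_sylow
      suffices key : ∀ c : G, K ⊓ (P : Subgroup G).map (MulAut.conj c).toMonoidHom ≠ ⊥ →
          (P : Subgroup G).map (MulAut.conj c).toMonoidHom = (Q : Subgroup G) by
        rw [key a ha, key b hb]
      intro c hc
      obtain ⟨⟨y, hy⟩, hy1'⟩ := Subgroup.ne_bot_iff_exists_ne_one.1 hc
      have hy1 : y ≠ 1 := fun e => hy1' (Subtype.ext e)
      have hPc : ((c • P : Sylow p G) : Subgroup G) = (P : Subgroup G).map (MulAut.conj c).toMonoidHom := rfl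
      rw [← hPc] at hy ⊢
      by_contra hne
      have hyQ : y ∈ (Q : Subgroup G) := by
        refine hQ ⟨⟨y, hy.1⟩, ?_, rfl⟩
        have hz : IsPGroup p (Subgroup.zpowers (⟨y, hy.1⟩ : K)) := by
          obtain ⟨k, hk⟩ := IsPGroup.iff_orderOf.1 (c • P).isPGroup' ⟨y, hy.2⟩
          rw [Subgroup.orderOf_mk] at hk
          exact IsPGroup.of_card (n := k) (by rw [Nat.card_zpowers, Subgroup.orderOf_mk, hk])
        obtain ⟨R', hR'⟩ := hz.exists_le_sylow
        obtain ⟨u, hu⟩ := MulAction.exists_smul_eq K R R'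
        rw [Sylow.smul_eq_of_normal] at hu
        rw [hu]
        exact hR' (Subgroup.mem_zpowers _)
      have hyc := hinter (c • P) Q (fun h => hne (by rw [h])) y hy.2 hyQ
      have hcP : c⁻¹ * y * c ∈ (P : Subgroup G) ⊓ Subgroup.center G := by
        rw [Subgroup.mem_center_iff.1 hyc c⁻¹, mul_assoc, inv_mul_cancel, mul_one]
        refine ⟨?_, hyc⟩
        obtain ⟨w, hw, hwy⟩ := hy.2
        have hwy' : c * w * c⁻¹ = y := hwy
        have : w = y := by
          rw [← hwy']
          conv_lhs => rw [show w = c⁻¹ * (c * w * c⁻¹) * c by group, hwy',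
            Subgroup.mem_center_iff.1 hyc c⁻¹, mul_assoc, inv_mul_cancel, mul_one]
          exact hwy'.symm
        rwa [← this]
      rw [hPZ, Subgroup.mem_bot] at hcP
      rw [Subgroup.mem_center_iff.1 hyc c⁻¹, mul_assoc, inv_mul_cancel, mul_one] at hcP
      exact hy1 hcP
    have htop : ∀ M : Subgroup G, M.Normal → (P : Subgroup G) ≤ M → M = ⊤ := by
      intro M hM hPM
      by_contra hne
      obtain ⟨g, hg⟩ : ∃ g : G, g • P ≠ P := by
        obtain ⟨g, hg⟩ := MulAction.exists_smul_eq G P P₂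
        exact ⟨g, fun h => hP₂ (hg ▸ h)⟩
      refine hg (heq M hne (g • P) P ?_ hPM)
      rintro - ⟨w, hw, rfl⟩
      exact hM.conj_mem w (hPM hw) g
    obtain ⟨s, hdeg, hkers⟩ := Blichfeldt.exists_constituents hF
    obtain ⟨x, hxP, hx1⟩ : ∃ x ∈ (P : Subgroup G), x ≠ 1 := by
      by_contra hc
      push Not at hc
      apply hP
      rw [(Subgroup.eq_bot_iff_forall _).2 hc]
      infer_instance
    obtain ⟨ψ, hψs, hψx⟩ : ∃ ψ ∈ s, (ψ : G → ℂ) x ≠ (ψ : G → ℂ) 1 := by
      by_contra hc
      push Not at hc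
      exact hx1 (hkers x hc)
    obtain ⟨d, hdn, hd⟩ := hdeg ψ hψs
    have hd1 : 1 < d := by
      obtain ⟨e, he0, he⟩ := IsIrr.exists_degree ψ.2
      have hde : d = e := by exact_mod_cast hd.symm.trans he
      by_contra hle
      obtain ⟨l, hl⟩ := CharInduce.IsChar.exists_hom_of_degree_one (IsIrr.isCharacter ψ.2)
        (by rw [he, show e = 1 by omega, Nat.cast_one])
      apply hψx
      rw [hl, hl]
      have h1 : commutator G ≤ l.ker := Abelianization.commutator_subset_ker l
      rw [MonoidHom.mem_ker.1 (h1 (hperf ▸ Subgroup.mem_top x)), map_one]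
    have hbound := succ_degree_sq_gt (P : Subgroup G)
      (fun a ha b hb => hab P a ha b hb) hPZ hone ψ.2 hd hd1 htop
    have hbound' : Nat.card (P : Subgroup G) < (n + 1) ^ 2 :=
      lt_of_lt_of_le hbound (Nat.pow_le_pow_left (by omega) 2)
    have hPcard : p ≤ Nat.card (P : Subgroup G) := by
      obtain ⟨k, hk⟩ := IsPGroup.iff_card.1 P.isPGroup'
      rw [hk]
      refine Nat.le_of_dvd (pow_pos hp.out.pos k) (dvd_pow_self p ?_)
      rintro rfl
      rw [pow_zero] at hk
      exact hx1 ((Subgroup.eq_bot_iff_forall _).1 (Subgroup.eq_bot_of_card_eq _ hk) x hxP)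
    rcases hcond with h | ⟨-, h⟩
    · omega
    apply hP
    refine normal_of_all_normal (Subgroup.topEquiv (G := G)).symm (h ⊤ ?_) P
    rw [Subgroup.card_top]
    intro hdvd
    have h2 : p ^ 2 ∣ Nat.card (P : Subgroup G) := by
      rw [P.card_eq_multiplicity]
      exact pow_dvd_pow p ((Nat.Prime.pow_dvd_iff_le_factorization hp.out Nat.card_pos.ne').1 hdvd)
    have h3 := Nat.le_of_dvd Nat.card_pos h2
    have h4 : (n + 1) ^ 2 ≤ p ^ 2 := Nat.pow_le_pow_left hnp.le 2
    omega
  · -- a normal subgroup of index `p`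
    obtain ⟨M, hM, hcM⟩ := (eq_top_or_exists_le_coatom (commutator G)).resolve_left hperf
    haveI hMn : M.Normal := Subgroup.Normal.of_commutator_le (h := hcM)
    obtain ⟨R⟩ := (inferInstance : Nonempty (Sylow p M))
    haveI hRn : (R : Subgroup M).Normal := hsub M hM.1 R
    haveI : (R : Subgroup M).Characteristic := Sylow.characteristic_of_normal R hRn
    haveI : ((R : Subgroup M).map M.subtype).Normal := inferInstance
    set R' := (R : Subgroup M).map M.subtype with hR'def
    have hR'le : ∀ Q : Sylow p G, R' ≤ (Q : Subgroup G) := fun Q => by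
      obtain ⟨Q', hQ'⟩ := (R.isPGroup'.map M.subtype).exists_le_sylow
      obtain ⟨g, rfl⟩ := MulAction.exists_smul_eq G Q' Q
      intro y hy
      have hmem : g⁻¹ * y * g ∈ R' := by
        have := Subgroup.Normal.conj_mem (inferInstance : R'.Normal) y hy g⁻¹
        simpa using this
      exact ⟨g⁻¹ * y * g, hQ' hmem, by simp [mul_assoc]⟩
    have hR'cen : R' ≤ Subgroup.center G := fun y hy =>
      hinter P₂ P hP₂ y (hR'le P₂ hy) (hR'le P hy)
    have hPM : ¬ (P : Subgroup G) ≤ M := by
      intro hle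
      apply hP
      have e : (P.subtype hle : Subgroup M).map M.subtype = (P : Subgroup G) := by
        rw [Sylow.coe_subtype, Subgroup.subgroupOf_map_subtype, inf_eq_left.2 hle]
      haveI := hsub M hM.1 (P.subtype hle)
      haveI : (P.subtype hle : Subgroup M).Characteristic := Sylow.characteristic_of_normal _ ‹_›
      exact e ▸ (inferInstance : ((P.subtype hle : Subgroup M).map M.subtype).Normal)
    obtain ⟨x, hxP, hxM⟩ := SetLike.not_le_iff_exists.1 hPM
    obtain ⟨k, hk⟩ := IsPGroup.iff_orderOf.1 P.isPGroup' ⟨x, hxP⟩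
    rw [Subgroup.orderOf_mk] at hk
    have hPsup : ∀ {Q : Subgroup G}, ¬ Q ≤ M → M ⊔ Q = ⊤ := fun hQ =>
      ((hM.le_iff.1 (le_sup_left : M ≤ M ⊔ _)).resolve_right fun h => hQ (le_sup_right.trans h.le))
    -- the index is `p`
    have hMp : x ^ p ∈ M := by
      haveI : IsSimpleGroup (G ⧸ M) := by
        haveI : Nontrivial (G ⧸ M) := QuotientGroup.nontrivial_iff.2 hM.1
        refine ⟨fun K _ => ?_⟩
        rcases hM.le_iff.1 (QuotientGroup.le_comap_mk' M K) with h | h
        · refine Or.inr (eq_top_iff.2 fun k _ => ?_)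
          obtain ⟨g, rfl⟩ := QuotientGroup.mk'_surjective M k
          exact (h ▸ Subgroup.mem_top g : g ∈ K.comap (QuotientGroup.mk' M))
        · refine Or.inl ((Subgroup.eq_bot_iff_forall _).2 fun k hk => ?_)
          obtain ⟨g, rfl⟩ := QuotientGroup.mk'_surjective M k
          exact (QuotientGroup.eq_one_iff g).2 (h ▸ hk)
      letI : CommGroup (G ⧸ M) :=
        { (inferInstance : Group (G ⧸ M)) with
          mul_comm := fun a b => by
            obtain ⟨a, rfl⟩ := QuotientGroup.mk'_surjective M a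
            obtain ⟨b, rfl⟩ := QuotientGroup.mk'_surjective M b
            rw [← commutatorElement_eq_one_iff_mul_comm, ← map_commutatorElement]
            exact (QuotientGroup.eq_one_iff _).2 (hcM (by
              rw [_root_.commutator_def]
              exact Subgroup.commutator_mem_commutator (Subgroup.mem_top _) (Subgroup.mem_top _))) }
      have hprime := IsSimpleGroup.prime_card (α := G ⧸ M)
      have h1 : orderOf (QuotientGroup.mk' M x) ∣ p ^ k := hk ▸ orderOf_map_dvd _ x
      have h2 : orderOf (QuotientGroup.mk' M x) ∣ Nat.card (G ⧸ M) := orderOf_dvd_natCard _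
      have hne : orderOf (QuotientGroup.mk' M x) ≠ 1 := fun h =>
        hxM ((QuotientGroup.eq_one_iff x).1 (orderOf_eq_one_iff.1 h))
      rcases (Nat.dvd_prime hprime).1 h2 with h | h
      · exact absurd h hne
      obtain ⟨j, -, hj⟩ := (Nat.dvd_prime_pow hp.out).1 h1
      rw [h] at hj
      have hjp : Nat.card (G ⧸ M) = p :=
        (Nat.prime_dvd_prime_iff_eq hprime hp.out).1 (hprime.dvd_of_dvd_pow (dvd_of_eq hj))
      refine (QuotientGroup.eq_one_iff (x ^ p)).1 ?_
      show QuotientGroup.mk' M (x ^ p) = 1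
      rw [map_pow, ← hjp, pow_card_eq_one']
    -- the complement `T` of `R` in `M`
    have hRidx : ¬ p ∣ (R : Subgroup M).index := R.not_dvd_index
    have hRco : (Nat.card (R : Subgroup M)).Coprime (R : Subgroup M).index := by
      obtain ⟨j, hj⟩ := IsPGroup.iff_card.1 R.isPGroup'
      rw [hj]
      exact ((hp.out.coprime_iff_not_dvd).2 hRidx).pow_left j
    obtain ⟨T₀, hT₀⟩ := Subgroup.exists_right_complement'_of_coprime hRco
    have hT₀card : Nat.card T₀ = (R : Subgroup M).index := hT₀.symm.index_eq_card.symm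
    have hRc : ∀ r ∈ (R : Subgroup M), ∀ y : M, y * r = r * y := fun r hr y =>
      Subtype.ext (Subgroup.mem_center_iff.1 (hR'cen ⟨r, hr, rfl⟩) (y : G))
    set T := T₀.map M.subtype with hTdef
    have hTM : T ≤ M := Subgroup.map_subtype_le _
    have hTcard : ¬ p ∣ Nat.card T := by
      rwa [hTdef, Subgroup.card_map_of_injective M.subtype_injective, hT₀card]
    have hdecomp : ∀ y : M, ∃ r ∈ (R : Subgroup M), ∃ t ∈ T₀, y = r * t := by
      intro y
      obtain ⟨⟨⟨r, hr⟩, t, ht⟩, he⟩ := hT₀.2 y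
      exact ⟨r, hr, t, ht, he.symm⟩
    haveI hTn : T.Normal := by
      refine ⟨fun y hy g => ?_⟩
      obtain ⟨t, ht, rfl⟩ := hy
      have hmem : g * (t : G) * g⁻¹ ∈ M := hMn.conj_mem _ t.2 g
      obtain ⟨r, hr, t', ht', he⟩ := hdecomp ⟨_, hmem⟩
      have hr1 : r = 1 := by
        have hzero : r ^ Nat.card T₀ = 1 := by
          have h1 : (⟨_, hmem⟩ : M) ^ Nat.card T₀ = 1 := by
            refine Subtype.ext ?_
            rw [SubmonoidClass.coe_pow, conj_pow, ← SubmonoidClass.coe_pow,
              show t ^ Nat.card T₀ = 1 from congrArg Subtype.val (pow_card_eq_one' (x := (⟨t, ht⟩ : T₀)))]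
            simp
          rwa [he, (show Commute r t' from (hRc r hr t').symm).mul_pow,
            show t' ^ Nat.card T₀ = 1 from congrArg Subtype.val (pow_card_eq_one' (x := (⟨t', ht'⟩ : T₀))),
            mul_one] at h1
        have h2 : r ^ Nat.card (R : Subgroup M) = 1 :=
          congrArg Subtype.val (pow_card_eq_one' (x := (⟨r, hr⟩ : (R : Subgroup M))))
        rw [← pow_one r, ← Nat.coprime_iff_gcd_eq_one.1 (hT₀card ▸ hRco), pow_gcd_eq_one]
        exact ⟨h2, hzero⟩
      refine ⟨t', ht', ?_⟩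
      have := congrArg Subtype.val he
      rw [hr1, one_mul] at this
      exact this.symm
    have hMle : M ≤ T ⊔ R' := by
      intro y hy
      obtain ⟨r, hr, t, ht, he⟩ := hdecomp ⟨y, hy⟩
      have : y = (r : G) * t := congrArg Subtype.val he
      rw [this]
      exact mul_mem (Subgroup.mem_sup_right ⟨r, hr, rfl⟩) (Subgroup.mem_sup_left ⟨t, ht, rfl⟩)
    have hTP : T ⊔ (P : Subgroup G) = ⊤ := by
      rw [eq_top_iff, ← hPsup hPM]
      exact sup_le (hMle.trans (sup_le le_sup_left ((hR'le P).trans le_sup_right))) le_sup_right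
    have hxc : x ^ p ∈ Subgroup.center G := by
      have hmem : x ^ p ∈ (P : Subgroup G) := pow_mem hxP p
      obtain ⟨R₁, hR₁⟩ : ∃ S : Sylow p M, (⟨x ^ p, hMp⟩ : M) ∈ S := by
        have hz : IsPGroup p (Subgroup.zpowers (⟨x ^ p, hMp⟩ : M)) := by
          obtain ⟨j, hj⟩ := IsPGroup.iff_orderOf.1 P.isPGroup' ⟨_, hmem⟩
          rw [Subgroup.orderOf_mk] at hj
          exact IsPGroup.of_card (n := j) (by rw [Nat.card_zpowers, Subgroup.orderOf_mk, hj])
        obtain ⟨S, hS⟩ := hz.exists_le_sylow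
        exact ⟨S, hS (Subgroup.mem_zpowers _)⟩
      obtain ⟨u, hu⟩ := MulAction.exists_smul_eq M R R₁
      rw [Sylow.smul_eq_of_normal] at hu
      exact hR'cen ⟨_, hu ▸ hR₁, rfl⟩
    -- proper `P`-invariant subgroups of `T` are centralised
    have hcentral : ∀ U : Subgroup G, U ≤ T → U ≠ T →
        (P : Subgroup G) ≤ Subgroup.normalizer (U : Set G) → ∀ u ∈ U, ∀ y ∈ (P : Subgroup G), y * u = u * y := by
      intro U hUT hne hPU u hu y hy
      set K := U ⊔ (P : Subgroup G) with hK
      have hKne : K ≠ ⊤ := by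
        intro htop
        have h1 : Nat.card T * Nat.card (P : Subgroup G) ∣ Nat.card U * Nat.card (P : Subgroup G) := by
          have hTP' : IsPGroup p (P : Subgroup G) := P.isPGroup'
          have h2 : Nat.card T * Nat.card (P : Subgroup G) ∣ Nat.card G := by
            refine Nat.Coprime.mul_dvd_of_dvd_of_dvd ?_ (Subgroup.card_subgroup_dvd_card _)
              (Subgroup.card_subgroup_dvd_card _)
            obtain ⟨j, hj⟩ := IsPGroup.iff_card.1 hTP'
            rw [hj]
            exact (((hp.out.coprime_iff_not_dvd).2 hTcard).pow_left j).symm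
          have h3 := Blichfeldt.card_sup_dvd_mul (S := (P : Subgroup G)) (R := U) hPU
          rw [sup_comm, ← hK, htop, Subgroup.card_top, mul_comm (Nat.card (P : Subgroup G))] at h3
          exact h2.trans h3
        have h2 : Nat.card T ∣ Nat.card U := Nat.dvd_of_mul_dvd_mul_right Nat.card_pos h1
        exact hne (Subgroup.eq_of_le_of_card_ge hUT (Nat.le_of_dvd Nat.card_pos h2))
      have hPn := hsub K hKne (P.subtype le_sup_right)
      have h1 : ⁅(⟨y, Subgroup.mem_sup_right hy⟩ : K), (⟨u, Subgroup.mem_sup_left hu⟩ : K)⁆ ∈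
          (P.subtype (le_sup_right : (P : Subgroup G) ≤ K) : Subgroup K) := by
        rw [commutatorElement_def, show ∀ a b : K, a * b * a⁻¹ * b⁻¹ = a * (b * a⁻¹ * b⁻¹) from fun a b => by group]
        refine mul_mem (show _ from hy) ?_
        exact hPn.conj_mem _ (inv_mem (show _ from hy)) _
      have hP' : y * u * y⁻¹ * u⁻¹ ∈ (P : Subgroup G) := h1
      have hU' : y * u * y⁻¹ * u⁻¹ ∈ U :=
        mul_mem ((Subgroup.mem_normalizer_iff.1 (hPU hy) u).1 hu) (inv_mem hu)
      obtain ⟨j, hj⟩ := IsPGroup.iff_orderOf.1 P.isPGroup' ⟨_, hP'⟩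
      rw [Subgroup.orderOf_mk] at hj
      have h4 : orderOf (y * u * y⁻¹ * u⁻¹) ∣ Nat.card T := by
        have := orderOf_dvd_natCard (⟨_, hUT hU'⟩ : T)
        rwa [Subgroup.orderOf_mk] at this
      rw [hj] at h4
      have h5 : orderOf (y * u * y⁻¹ * u⁻¹) = 1 := by
        rcases Nat.eq_zero_or_pos j with rfl | h0
        · simpa using hj
        · exact absurd ((dvd_pow_self p h0.ne').trans h4) hTcard
      rw [orderOf_eq_one_iff] at h5
      exact commutatorElement_eq_one_iff_mul_comm.1 (by rw [commutatorElement_def]; exact h5)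
    apply hP
    suffices hcT : ∀ t ∈ T, ∀ y ∈ (P : Subgroup G), y * t = t * y by
      refine Subgroup.normalizer_eq_top_iff.1 (eq_top_iff.2 ?_)
      rw [← hTP]
      refine sup_le (fun t ht => ?_) Subgroup.le_normalizer
      refine Subgroup.mem_normalizer_iff.2 fun y => ⟨fun hy => ?_, fun hy => ?_⟩
      · rwa [← hcT t ht y hy, mul_inv_cancel_right]
      · have e : y = t * y * t⁻¹ := by
          have h1 := hcT t ht _ hy
          calc y = t⁻¹ * (t * y * t⁻¹ * t) := by group
            _ = t⁻¹ * (t * (t * y * t⁻¹)) := by rw [h1]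
            _ = _ := by group
        rwa [e]
    -- `P`-invariant Sylow subgroups of `T`
    have hinv : ∀ q : ℕ, q.Prime → ∃ S : Sylow q T,
        (P : Subgroup G) ≤ Subgroup.normalizer (((S : Subgroup T).map T.subtype : Subgroup G) : Set G) := by
      intro q hq
      haveI : Fact q.Prime := ⟨hq⟩
      obtain ⟨S⟩ := (inferInstance : Nonempty (Sylow q T))
      set V := Subgroup.normalizer (((S : Subgroup T).map T.subtype : Subgroup G) : Set G) with hV
      have htop : V ⊔ T = ⊤ := Sylow.normalizer_sup_eq_top S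
      have hidx : ¬ p ∣ V.index := by
        intro h
        have h1 : V.index ∣ Nat.card T := by
          have h2 := Blichfeldt.card_sup_dvd_mul (S := V) (R := T) (by rw [Subgroup.normalizer_eq_top]; exact le_top)
          rw [htop, Subgroup.card_top, ← V.card_mul_index] at h2
          exact Nat.dvd_of_mul_dvd_mul_left Nat.card_pos h2
        exact hTcard (h.trans h1)
      obtain ⟨PV⟩ := (inferInstance : Nonempty (Sylow p V))
      have hPVidx : ¬ p ∣ ((PV : Subgroup V).map V.subtype).index := by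
        rw [Subgroup.index_map_subtype]
        exact fun h => (hp.out.dvd_mul.1 h).elim PV.not_dvd_index hidx
      obtain ⟨g, hg⟩ := MulAction.exists_smul_eq G ((PV.isPGroup'.map V.subtype).toSylow hPVidx) P
      have hgn : ∀ y ∈ (P : Subgroup G), g⁻¹ * y * g ∈ V := by
        intro y hy
        rw [← hg] at hy
        obtain ⟨w, hw, hwy⟩ := hy
        have e : g * w * g⁻¹ = y := hwy
        rw [← e, show g⁻¹ * (g * w * g⁻¹) * g = w by group]
        exact Subgroup.map_subtype_le _ hw
      have hinj := T.subtype_injective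
      let φ : MulAut T := MulAut.conjNormal g
      have hS' : IsPGroup q ((S : Subgroup T).map φ.toMonoidHom) := S.isPGroup'.map _
      refine ⟨S.mapSurjective (f := φ.toMonoidHom) φ.surjective, fun y hy => ?_⟩
      rw [Subgroup.mem_normalizer_iff]
      have hmemiff : ∀ w, w ∈ ((S.mapSurjective (f := φ.toMonoidHom) φ.surjective : Sylow q T) : Subgroup T).map T.subtype ↔
          g⁻¹ * w * g ∈ (S : Subgroup T).map T.subtype := by
        intro w
        constructor
        · rintro ⟨-, ⟨s, hs, rfl⟩, rfl⟩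
          refine ⟨s, hs, ?_⟩
          show (s : G) = g⁻¹ * ((MulAut.conjNormal g s : T) : G) * g
          rw [MulAut.conjNormal_apply]; group
        · rintro ⟨s, hs, hsw⟩
          refine ⟨φ s, ⟨s, hs, rfl⟩, ?_⟩
          show ((MulAut.conjNormal g s : T) : G) = w
          rw [MulAut.conjNormal_apply, show (s : G) = g⁻¹ * w * g from hsw]; group
      intro w
      rw [hmemiff, hmemiff, Subgroup.mem_normalizer_iff.1 (hgn y hy) (g⁻¹ * w * g)]
      rw [show g⁻¹ * y * g * (g⁻¹ * w * g) * (g⁻¹ * y * g)⁻¹ = g⁻¹ * (y * w * y⁻¹) * g by group]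
    by_cases hqgrp : ∃ q : ℕ, q.Prime ∧ IsPGroup q T
    · obtain ⟨q, hq, hTq⟩ := hqgrp
      haveI : Fact q.Prime := ⟨hq⟩
      by_cases hT1 : T = ⊥
      · intro t ht y _
        rw [hT1, Subgroup.mem_bot] at ht
        simp [ht]
      have hqp : q ≠ p := by
        rintro rfl
        obtain ⟨j, hj⟩ := IsPGroup.iff_card.1 hTq
        rcases Nat.eq_zero_or_pos j with rfl | h0
        · exact hT1 (Subgroup.eq_bot_of_card_eq _ (by simpa using hj))
        · exact hTcard (hj ▸ dvd_pow_self _ h0.ne')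
      have hxT : ∀ t ∈ T, x * t = t * x := by
        refine centralizes_of_small_degree hF hnp T hTq hqp ⟨k, hk⟩ hxc fun U hUT hne hUinv u hu =>
          hcentral U hUT hne ?_ u hu x hxP
        -- `P` is generated by `x` modulo the centre
        have hxN : x ∈ Subgroup.normalizer (U : Set G) := by
          have hmap : U.map (MulAut.conj x).toMonoidHom = U := by
            refine Subgroup.eq_of_le_of_card_ge ?_ ?_
            · rintro - ⟨w, hw, rfl⟩; exact hUinv w hw
            · rw [Subgroup.card_map_of_injective (MulAut.conj x).injective]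
          rw [Subgroup.mem_normalizer_iff]
          intro w
          constructor
          · exact hUinv w
          · intro hw
            rw [← hmap] at hw
            obtain ⟨v, hv, hvw⟩ := hw
            exact (mul_left_cancel (mul_right_cancel (show x * v * x⁻¹ = x * w * x⁻¹ from hvw))) ▸ hv
        intro y hy
        have hsup : M ⊔ Subgroup.zpowers x = ⊤ := hPsup fun h => hxM (h (Subgroup.mem_zpowers x))
        obtain ⟨m, hm, z, hz, hmz⟩ := Subgroup.mem_sup_of_normal_left.1 (hsup ▸ Subgroup.mem_top y)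
        have hmP : m ∈ (P : Subgroup G) := by
          have : m = y * z⁻¹ := by rw [← hmz]; group
          rw [this]
          exact mul_mem hy (inv_mem ((Subgroup.zpowers_le).2 hxP hz))
        have hmc : m ∈ Subgroup.center G := by
          obtain ⟨r, hr, t, ht, he⟩ := hdecomp ⟨m, hm⟩
          have hm' : m = (r : G) * t := congrArg Subtype.val he
          have htP : (t : G) ∈ (P : Subgroup G) := by
            have : (t : G) = (r : G)⁻¹ * m := by rw [hm']; group
            rw [this]
            exact mul_mem (inv_mem (hR'le P ⟨r, hr, rfl⟩)) hmP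
          obtain ⟨j, hj⟩ := IsPGroup.iff_orderOf.1 P.isPGroup' ⟨_, htP⟩
          rw [Subgroup.orderOf_mk] at hj
          have h4 : orderOf (t : G) ∣ Nat.card T := by
            have := orderOf_dvd_natCard (⟨(t : G), ⟨t, ht, rfl⟩⟩ : T)
            rw [← Subgroup.orderOf_coe] at this
            exact this
          rw [hj] at h4
          have h5 : (t : G) = 1 := by
            rcases Nat.eq_zero_or_pos j with rfl | h0
            · exact orderOf_eq_one_iff.1 (by simpa using hj)
            · exact absurd ((dvd_pow_self p h0.ne').trans h4) hTcard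
          rw [hm', h5, mul_one]
          exact hR'cen ⟨r, hr, rfl⟩
        rw [← hmz]
        exact mul_mem (Subgroup.center_le_normalizer _ hmc) ((Subgroup.zpowers_le).2 hxN hz)
      intro t ht y hy
      have hle : (P : Subgroup G) ≤ Subgroup.centralizer ({t} : Set G) := by
        intro y hy
        have hsup : M ⊔ Subgroup.zpowers x = ⊤ := hPsup fun h => hxM (h (Subgroup.mem_zpowers x))
        obtain ⟨m, hm, z, hz, hmz⟩ := Subgroup.mem_sup_of_normal_left.1 (hsup ▸ Subgroup.mem_top y)
        have hmP : m ∈ (P : Subgroup G) := by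
          have : m = y * z⁻¹ := by rw [← hmz]; group
          rw [this]
          exact mul_mem hy (inv_mem ((Subgroup.zpowers_le).2 hxP hz))
        rw [← hmz]
        refine mul_mem ?_ ((Subgroup.zpowers_le).2 (Subgroup.mem_centralizer_singleton_iff.2 (hxT t ht)) hz)
        obtain ⟨R₁, hR₁⟩ : ∃ S : Sylow p M, (⟨m, hm⟩ : M) ∈ S := by
          obtain ⟨j, hj⟩ := IsPGroup.iff_orderOf.1 P.isPGroup' ⟨_, hmP⟩
          rw [Subgroup.orderOf_mk] at hj
          have hz' : IsPGroup p (Subgroup.zpowers (⟨m, hm⟩ : M)) :=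
            IsPGroup.of_card (n := j) (by rw [Nat.card_zpowers, Subgroup.orderOf_mk, hj])
          obtain ⟨S, hS⟩ := hz'.exists_le_sylow
          exact ⟨S, hS (Subgroup.mem_zpowers _)⟩
        obtain ⟨u, hu⟩ := MulAction.exists_smul_eq M R R₁
        rw [Sylow.smul_eq_of_normal] at hu
        exact Subgroup.center_le_centralizer _ (hR'cen ⟨_, hu ▸ hR₁, rfl⟩)
      exact Subgroup.mem_centralizer_singleton_iff.1 (hle hy)
    · intro t ht y hy
      have hle : T ≤ Subgroup.centralizer ({y} : Set G) := by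
        have hcard : Nat.card T ∣ Nat.card (T ⊓ Subgroup.centralizer ({y} : Set G) : Subgroup G) := by
          rw [← Nat.factorization_prime_le_iff_dvd Nat.card_pos.ne' Nat.card_pos.ne']
          intro q hq
          haveI : Fact q.Prime := ⟨hq⟩
          obtain ⟨S, hS⟩ := hinv q hq
          set U := (S : Subgroup T).map T.subtype with hU
          have hne : U ≠ T := fun h => hqgrp ⟨q, hq, h ▸ S.isPGroup'.map _⟩
          have hUle : U ≤ T ⊓ Subgroup.centralizer ({y} : Set G) :=
            le_inf (Subgroup.map_subtype_le _) fun u hu =>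
              Subgroup.mem_centralizer_singleton_iff.2 (hcentral U (Subgroup.map_subtype_le _) hne hS u hu y hy).symm
          have h1 : q ^ (Nat.card T).factorization q ∣ Nat.card (T ⊓ Subgroup.centralizer ({y} : Set G) : Subgroup G) := by
            rw [← S.card_eq_multiplicity, ← Subgroup.card_map_of_injective T.subtype_injective]
            exact Subgroup.card_dvd_of_le hUle
          exact (hq.pow_dvd_iff_le_factorization Nat.card_pos.ne').1 h1
        exact (Subgroup.eq_of_le_of_card_ge inf_le_left (Nat.le_of_dvd Nat.card_pos hcard)).ge.trans inf_le_right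
      exact (Subgroup.mem_centralizer_singleton_iff.1 (hle ht)).symm

end Cfsg.Agent.H34
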