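import Mathlib
import Cfsg.Agent.Fusion.PComplement
import Cfsg.Agent.H41.Basic

/-!
Generalised quaternion Sylow 2-subgroup `S` of order at least 16 and the centraliser of `D = S'`:
`S ⊓ C(D)` is cyclic, so `C(D)` has a normal 2-complement.
-/

set_option autoImplicit false

namespace Cfsg.Agent.H34

open Subgroup
open scoped commutatorElement

theorem mem_centralizer_zpowers_iff {G : Type*} [Group G] {d y : G} :
    y ∈ centralizer (zpowers d : Set G) ↔ d * y = y * d := by
  rw [mem_centralizer_iff]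
  refine ⟨fun h => h d (mem_zpowers d), fun h z hz => ?_⟩
  obtain ⟨k, rfl⟩ := mem_zpowers_iff.1 hz
  exact (Commute.zpow_left h k).eq

theorem quat_a_inv {N : ℕ} (i : ZMod (2 * N)) :
    (QuaternionGroup.a i)⁻¹ = QuaternionGroup.a (-i) := rfl

theorem quat_xa_inv {N : ℕ} (i : ZMod (2 * N)) :
    (QuaternionGroup.xa i)⁻¹ = QuaternionGroup.xa ((N : ZMod (2 * N)) + i) := rfl

theorem quat_commutator (n : ℕ) :
    commutator (QuaternionGroup (2 ^ (n + 2))) = zpowers (QuaternionGroup.a 2) := by
  apply le_antisymm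
  · rw [commutator_eq_closure, closure_le]
    rintro - ⟨x, y, rfl⟩
    have key : ∀ i : ZMod (2 * 2 ^ (n + 2)),
        QuaternionGroup.a (2 * i) ∈ zpowers (QuaternionGroup.a 2 : QuaternionGroup (2 ^ (n + 2))) := by
      intro i
      refine ⟨(i.val : ℤ), ?_⟩
      show (QuaternionGroup.a 2 : QuaternionGroup (2 ^ (n + 2))) ^ (i.val : ℤ) = _
      rw [zpow_natCast, show (2 : ZMod (2 * 2 ^ (n + 2))) = ((2 : ℕ) : ZMod _) by norm_num,
        ← QuaternionGroup.a_one_pow, ← pow_mul, QuaternionGroup.a_one_pow]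
      push_cast
      rw [ZMod.natCast_zmod_val]
    have h2N : ((2 ^ (n + 2) : ℕ) : ZMod (2 * 2 ^ (n + 2))) + (2 ^ (n + 2) : ℕ) = 0 := by
      rw [← Nat.cast_add, ← two_mul, ZMod.natCast_self]
    push_cast at h2N
    rcases x with i | i <;> rcases y with j | j
    · have e : ⁅(QuaternionGroup.a i : QuaternionGroup (2 ^ (n + 2))), QuaternionGroup.a j⁆ =
          QuaternionGroup.a (2 * 0) := by
        simp [commutatorElement_def, quat_a_inv]
      rw [e]; exact key _
    · have e : ⁅(QuaternionGroup.a i : QuaternionGroup (2 ^ (n + 2))), QuaternionGroup.xa j⁆ =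
          QuaternionGroup.a (2 * i) := by
        simp [commutatorElement_def, quat_a_inv, quat_xa_inv]
        linear_combination h2N
      rw [e]; exact key _
    · have e : ⁅(QuaternionGroup.xa i : QuaternionGroup (2 ^ (n + 2))), QuaternionGroup.a j⁆ =
          QuaternionGroup.a (2 * (-j)) := by
        simp [commutatorElement_def, quat_a_inv, quat_xa_inv]
        linear_combination h2N
      rw [e]; exact key _
    · have e : ⁅(QuaternionGroup.xa i : QuaternionGroup (2 ^ (n + 2))), QuaternionGroup.xa j⁆ =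
          QuaternionGroup.a (2 * (j - i)) := by
        simp [commutatorElement_def, quat_a_inv, quat_xa_inv]
        linear_combination h2N
      rw [e]; exact key _
  · rw [zpowers_le, commutator_eq_closure]
    refine subset_closure ⟨QuaternionGroup.a 1, QuaternionGroup.xa 0, ?_⟩
    have h2N : ((2 ^ (n + 2) : ℕ) : ZMod (2 * 2 ^ (n + 2))) + (2 ^ (n + 2) : ℕ) = 0 := by
      rw [← Nat.cast_add, ← two_mul, ZMod.natCast_self]
    push_cast at h2N
    simp [commutatorElement_def, quat_a_inv, quat_xa_inv]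
    linear_combination h2N

theorem quat_two_mul_ne (n : ℕ) : (4 : ZMod (2 * 2 ^ (n + 2))) ≠ 0 := by
  rw [show (4 : ZMod (2 * 2 ^ (n + 2))) = ((4 : ℕ) : ZMod _) by norm_num, Ne,
    ZMod.natCast_eq_zero_iff]
  intro h
  have h1 := Nat.le_of_dvd (by norm_num) h
  have h2 : 4 * 1 ≤ 2 ^ (n + 2) := by
    rw [pow_add, mul_comm (2 ^ n)]; exact Nat.mul_le_mul le_rfl Nat.one_le_two_pow
  omega

theorem quat_sq_eq_one (n : ℕ) {q : QuaternionGroup (2 ^ (n + 2))} (hq : q * q = 1) :
    Commute q (QuaternionGroup.a 2) := by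
  rcases q with i | i
  · show _ * _ = _ * _
    rw [QuaternionGroup.a_mul_a, QuaternionGroup.a_mul_a, add_comm i 2]
  · haveI : NeZero (2 ^ (n + 2)) := ⟨by positivity⟩
    have h4 := QuaternionGroup.orderOf_xa (n := 2 ^ (n + 2)) i
    have h2 : orderOf (QuaternionGroup.xa i : QuaternionGroup (2 ^ (n + 2))) ∣ 2 :=
      orderOf_dvd_iff_pow_eq_one.2 (by rw [sq, hq])
    rw [h4] at h2
    norm_num at h2

variable {G : Type*} [Group G] [Finite G] (S : Sylow 2 G) (n : ℕ)

/-- the structure facts -/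
theorem quat_derived (e : (S : Subgroup G) ≃* QuaternionGroup (2 ^ (n + 2))) {D : Subgroup G}
    (hD : D = ⁅(S : Subgroup G), (S : Subgroup G)⁆) :
    ∃ c d x : G, D = zpowers d ∧ orderOf d = 2 ^ (n + 2) ∧ orderOf c = 2 * 2 ^ (n + 2) ∧
      (S : Subgroup G) ⊓ centralizer (D : Set G) = zpowers c ∧
      x ∈ (S : Subgroup G) ∧ x ∉ centralizer (D : Set G) ∧
      (S : Subgroup G) ≤ normalizer (D : Set G) := by
  set N := 2 ^ (n + 2) with hN
  haveI : NeZero N := ⟨by positivity⟩
  let f : QuaternionGroup N →* G := (S : Subgroup G).subtype.comp e.symm.toMonoidHom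
  have hf : Function.Injective f := Subtype.val_injective.comp e.symm.injective
  have hrange : (⊤ : Subgroup (QuaternionGroup N)).map f = (S : Subgroup G) := by
    ext y
    simp only [mem_map, mem_top, true_and]
    exact ⟨fun ⟨q, hq⟩ => hq ▸ (e.symm q).2, fun hy => ⟨e ⟨y, hy⟩, by simp [f]⟩⟩
  have hDmap : D = zpowers (f (QuaternionGroup.a 2)) := by
    rw [hD, ← hrange, ← Subgroup.map_commutator, ← _root_.commutator_def, quat_commutator,
      MonoidHom.map_zpowers]
  refine ⟨f (QuaternionGroup.a 1), f (QuaternionGroup.a 2), f (QuaternionGroup.xa 0), hDmap,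
    ?_, ?_, ?_, (e.symm _).2, ?_, ?_⟩
  · rw [orderOf_injective f hf, show (QuaternionGroup.a 2 : QuaternionGroup N) =
      QuaternionGroup.a 1 ^ 2 by rw [QuaternionGroup.a_one_pow]; norm_num, orderOf_pow,
      QuaternionGroup.orderOf_a_one, Nat.gcd_eq_right (dvd_mul_right 2 N)]
    omega
  · rw [orderOf_injective f hf, QuaternionGroup.orderOf_a_one]
  · ext y
    simp only [mem_inf, hDmap, mem_centralizer_zpowers_iff]
    constructor
    · rintro ⟨hy, hc⟩
      rw [← hrange] at hy
      obtain ⟨q, -, rfl⟩ := mem_map.1 hy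
      rw [← map_mul, ← map_mul] at hc
      have hc' := hf hc
      rcases q with i | i
      · refine ⟨(i.val : ℤ), ?_⟩
        show f (QuaternionGroup.a 1) ^ (i.val : ℤ) = _
        rw [zpow_natCast, ← map_pow, QuaternionGroup.a_one_pow, ZMod.natCast_zmod_val]
      · exfalso
        simp only [QuaternionGroup.xa_mul_a, QuaternionGroup.a_mul_xa, QuaternionGroup.xa.injEq]
          at hc'
        exact quat_two_mul_ne n (by linear_combination -hc')
    · rintro ⟨k, rfl⟩
      refine ⟨zpow_mem (e.symm _).2 k, ?_⟩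
      refine ((Commute.zpow_left ?_ k).eq).symm
      show _ * _ = _ * _
      rw [← map_mul, ← map_mul, QuaternionGroup.a_mul_a, QuaternionGroup.a_mul_a, add_comm]
  · rw [hDmap, mem_centralizer_zpowers_iff, ← map_mul, ← map_mul]
    intro hc
    have hc' := hf hc
    simp only [QuaternionGroup.xa_mul_a, QuaternionGroup.a_mul_xa, QuaternionGroup.xa.injEq] at hc'
    exact quat_two_mul_ne n (by linear_combination -hc')
  · rw [hD, ← hrange, ← Subgroup.map_commutator, ← _root_.commutator_def]
    refine le_trans (Subgroup.map_mono ?_) (Subgroup.le_normalizer_map f)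
    rw [Subgroup.normalizer_eq_top]

theorem quat_conj_inv (e : (S : Subgroup G) ≃* QuaternionGroup (2 ^ (n + 2)))
    {D : Subgroup G} (hD : D = ⁅(S : Subgroup G), (S : Subgroup G)⁆) {c x : G}
    (hSC : (S : Subgroup G) ⊓ centralizer (D : Set G) = zpowers c)
    (hc : orderOf c = 2 * 2 ^ (n + 2))
    (hxS : x ∈ (S : Subgroup G)) (hxC : x ∉ centralizer (D : Set G)) : x * c * x⁻¹ = c⁻¹ := by
  haveI : NeZero (2 ^ (n + 2)) := ⟨by positivity⟩
  have hcSC : c ∈ (S : Subgroup G) ⊓ centralizer (D : Set G) := hSC ▸ mem_zpowers c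
  have key : ∀ p q : QuaternionGroup (2 ^ (n + 2)), orderOf p = 2 * 2 ^ (n + 2) →
      q ∉ zpowers p → q * p * q⁻¹ = p⁻¹ := by
    intro p q hp hq
    rcases p with i | i
    · rcases q with j | j
      · refine absurd ?_ hq
        have hgen : zpowers (QuaternionGroup.a i : QuaternionGroup (2 ^ (n + 2))) =
            zpowers (QuaternionGroup.a 1) := by
          refine Subgroup.eq_of_le_of_card_ge (zpowers_le.2 ⟨(i.val : ℤ), ?_⟩) ?_
          · show QuaternionGroup.a 1 ^ (i.val : ℤ) = _
            rw [zpow_natCast, QuaternionGroup.a_one_pow, ZMod.natCast_zmod_val]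
          · rw [Nat.card_zpowers, Nat.card_zpowers, hp, QuaternionGroup.orderOf_a_one]
        rw [hgen]
        refine ⟨(j.val : ℤ), ?_⟩
        show QuaternionGroup.a 1 ^ (j.val : ℤ) = _
        rw [zpow_natCast, QuaternionGroup.a_one_pow, ZMod.natCast_zmod_val]
      · rw [QuaternionGroup.xa_mul_a, quat_xa_inv, QuaternionGroup.xa_mul_xa, quat_a_inv]
        congr 1
        have h2 : ((2 ^ (n + 2) : ℕ) : ZMod (2 * 2 ^ (n + 2))) + (2 ^ (n + 2) : ℕ) = 0 := by
          rw [← Nat.cast_add, ← two_mul, ZMod.natCast_self]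
        linear_combination h2
    · rw [QuaternionGroup.orderOf_xa] at hp
      have : 4 * 1 ≤ 2 ^ (n + 2) := by
        rw [pow_add, mul_comm (2 ^ n)]; exact Nat.mul_le_mul le_rfl Nat.one_le_two_pow
      omega
  have h := key (e ⟨c, hcSC.1⟩) (e ⟨x, hxS⟩)
    (by rw [MulEquiv.orderOf_eq, Subgroup.orderOf_mk, hc]) (by
      intro hmem
      obtain ⟨k, hk⟩ := mem_zpowers_iff.1 hmem
      rw [← map_zpow] at hk
      have hck : c ^ k = x := congrArg Subtype.val (e.injective hk)
      exact hxC (hck ▸ Subgroup.zpow_mem (centralizer (D : Set G)) hcSC.2 k))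
  rw [← map_mul, ← map_inv, ← map_mul, ← map_inv] at h
  exact congrArg Subtype.val (e.injective h)

omit [Finite G] in
theorem inv_conj_mem_centralizer {H : Subgroup G} {g y : G} (hg : g ∈ normalizer (H : Set G))
    (hy : y ∈ centralizer (H : Set G)) : g * y * g⁻¹ ∈ centralizer (H : Set G) := by
  rw [mem_centralizer_iff] at hy ⊢
  intro h hh
  have h1 : g⁻¹ * h * g ∈ H := by
    have := (mem_normalizer_iff.1 (inv_mem hg) h).1 hh
    rwa [inv_inv] at this
  have h2 := hy _ h1
  calc h * (g * y * g⁻¹) = g * ((g⁻¹ * h * g) * y) * g⁻¹ := by group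
    _ = g * (y * (g⁻¹ * h * g)) * g⁻¹ := by rw [h2]
    _ = g * y * g⁻¹ * h := by group

theorem quat_sq_mem_centralizer (e : (S : Subgroup G) ≃* QuaternionGroup (2 ^ (n + 2)))
    {D : Subgroup G} (hD : D = ⁅(S : Subgroup G), (S : Subgroup G)⁆) {s : G}
    (hs : s ∈ (S : Subgroup G)) (hs2 : s * s = 1) : s ∈ centralizer (D : Set G) := by
  have h1 : e ⟨s, hs⟩ * e ⟨s, hs⟩ = 1 := by
    rw [← map_mul, MulEquiv.map_eq_one_iff]; exact Subtype.ext hs2
  rw [mem_centralizer_iff]
  intro z hz
  have hcm : ∀ w ∈ commutator (S : Subgroup G), Commute (⟨s, hs⟩ : (S : Subgroup G)) w := by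
    intro w hw
    have hw' : e w ∈ commutator (QuaternionGroup (2 ^ (n + 2))) := by
      have := Subgroup.mem_map_of_mem e.toMonoidHom hw
      rw [_root_.commutator_def, Subgroup.map_commutator, Subgroup.map_top_of_surjective _
        e.surjective] at this
      exact this
    rw [quat_commutator] at hw'
    obtain ⟨k, hk⟩ := mem_zpowers_iff.1 hw'
    refine e.injective ?_
    rw [map_mul, map_mul]
    exact hk ▸ ((quat_sq_eq_one n h1).zpow_right k).eq
  have hz' : z ∈ (commutator (S : Subgroup G)).map (S : Subgroup G).subtype := by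
    rw [Subgroup.map_subtype_commutator, ← hD]; exact hz
  obtain ⟨w, hw, rfl⟩ := Subgroup.mem_map.1 hz'
  exact (congrArg Subtype.val (hcm w hw).eq).symm

/-- `C(D)` has cyclic 2-subgroups and a normal 2-complement -/
theorem quat_centralizer (e : (S : Subgroup G) ≃* QuaternionGroup (2 ^ (n + 2))) {D : Subgroup G}
    (hD : D = ⁅(S : Subgroup G), (S : Subgroup G)⁆) :
    (∀ P : Subgroup G, P ≤ centralizer (D : Set G) → IsPGroup 2 P → IsCyclic P) ∧
      Cfsg.HasNormalPComplement 2 (centralizer (D : Set G)) ∧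
      (∃ T : Sylow 2 (centralizer (D : Set G)),
        (T : Subgroup (centralizer (D : Set G))).map (centralizer (D : Set G)).subtype =
          (S : Subgroup G) ⊓ centralizer (D : Set G)) := by
  obtain ⟨c, d, x, hDd, hd, -, hSC, -, -, hSN⟩ := quat_derived S n e hD
  set C := centralizer (D : Set G) with hC
  set N := normalizer (D : Set G) with hN
  have hCN : C ≤ N := Subgroup.centralizer_le_normalizer _
  haveI : (C.subgroupOf N).Normal :=
    ⟨fun y hy g => inv_conj_mem_centralizer g.2 hy⟩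
  obtain ⟨T, hT⟩ := H41.exists_sylow_map_eq_inf (S.subtype hSN) (C.subgroupOf N)
  let e₁ := Subgroup.subgroupOfEquivOfLe hCN
  let T₁ : Sylow 2 C := T.mapSurjective (f := e₁.toMonoidHom) e₁.surjective
  have hT₁ : (T₁ : Subgroup C).map C.subtype = (S : Subgroup G) ⊓ C := by
    have h1 : (T₁ : Subgroup C) = (T : Subgroup _).map e₁.toMonoidHom := rfl
    rw [h1, Subgroup.map_map]
    have h2 : C.subtype.comp e₁.toMonoidHom = N.subtype.comp (C.subgroupOf N).subtype := rfl
    rw [h2, ← Subgroup.map_map, hT, Subgroup.map_inf_eq _ _ _ Subtype.val_injective,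
      Subgroup.subgroupOf_map_subtype, inf_eq_left.2 hCN, Sylow.coe_subtype,
      Subgroup.subgroupOf_map_subtype, inf_eq_left.2 hSN]
  have hcyc : IsCyclic (T₁ : Subgroup C) := by
    have h : IsCyclic ((T₁ : Subgroup C).map C.subtype) := by
      rw [hT₁, hSC]; infer_instance
    exact (MulEquiv.isCyclic (Subgroup.equivMapOfInjective _ C.subtype Subtype.val_injective)).2 h
  refine ⟨fun P hP h2 => ?_, ?_, T₁, hT₁⟩
  · have hP2 : IsPGroup 2 (P.subgroupOf C) := h2.comap_subtype
    obtain ⟨T', hT'⟩ := hP2.exists_le_sylow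
    haveI : IsCyclic (T' : Subgroup C) := (MulEquiv.isCyclic (Sylow.equiv T' T₁)).2 hcyc
    haveI : IsCyclic (P.subgroupOf C) := isCyclic_of_injective (Subgroup.inclusion hT')
      (Subgroup.inclusion_injective hT')
    exact (MulEquiv.isCyclic (Subgroup.subgroupOfEquivOfLe hP)).1 inferInstance
  · have hne : c ≠ 1 := by
      intro h
      have hdS : d ∈ (S : Subgroup G) := by
        have := Subgroup.commutator_le_self (S : Subgroup G)
        rw [← hD, hDd] at this
        exact this (mem_zpowers d)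
      have hdC : d ∈ C := by
        rw [hC, hDd, mem_centralizer_zpowers_iff]
      have hd1 : d ∈ (S : Subgroup G) ⊓ C := ⟨hdS, hdC⟩
      rw [hSC, h, zpowers_one_eq_bot, mem_bot] at hd1
      rw [hd1, orderOf_one] at hd
      exact absurd hd.symm (Nat.one_lt_two_pow (by omega)).ne'
    have hcC : c ∈ C := (hSC.symm ▸ mem_zpowers c : c ∈ (S : Subgroup G) ⊓ C).2
    have heven : 2 ∣ Nat.card C := by
      have hcS : c ∈ (S : Subgroup G) := (hSC.symm ▸ mem_zpowers c : c ∈ (S : Subgroup G) ⊓ C).1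
      obtain ⟨k, hk⟩ := (IsPGroup.iff_orderOf.1 S.isPGroup') ⟨c, hcS⟩
      rw [Subgroup.orderOf_mk] at hk
      have hk0 : k ≠ 0 := fun h0 => hne (orderOf_eq_one_iff.1 (by rw [hk, h0, pow_zero]))
      exact (dvd_pow_self 2 hk0).trans (hk ▸ C.orderOf_dvd_natCard hcC)
    exact ⟨T₁, _, inferInstance, IsCyclic.isComplement' ((Nat.minFac_eq_two_iff _).2 heven) hcyc⟩

end Cfsg.Agent.H34
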