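import Mathlib
import Cfsg.Agent.H34.QuaternionDerived
import Cfsg.Agent.CharBasic.Kernel
import Cfsg.Agent.CharBasic.Complete
import Cfsg.Agent.CharInduce.Induce
import Cfsg.Agent.CharInduce.Ops
import Cfsg.Agent.CharInduce.Transport
import Cfsg.Agent.S0842
import Cfsg.Agent.S0843

/-!
Brauer-Suzuki for generalised quaternion Sylow 2-subgroups of order at least 16
(Gorenstein 12.1.1): the norm three induced character and its consequences.
-/

set_option autoImplicit false

namespace Cfsg.Agent.H34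

open Subgroup Finset
open scoped ComplexConjugate commutatorElement
open Cfsg.Agent.CharBasic Cfsg.Agent.CharInduce

universe u

section General

theorem normal_closure_orderOf_two {G : Type u} [Group G] :
    (Subgroup.closure {g : G | orderOf g = 2}).Normal := by
  refine ⟨fun y hy g => ?_⟩
  have : (Subgroup.closure {g : G | orderOf g = 2}).map (MulAut.conj g).toMonoidHom ≤
      Subgroup.closure {g : G | orderOf g = 2} := by
    rw [MonoidHom.map_closure]
    refine Subgroup.closure_mono ?_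
    rintro - ⟨t, ht, rfl⟩
    exact (MulEquiv.orderOf_eq (MulAut.conj g) t).trans ht
  exact this ⟨y, hy, rfl⟩

variable {G : Type u} [Group G] [Fintype G]

/-- a generalised character of norm two with value `-1` at one is `a - b` with `b 1 = a 1 + 1` -/
theorem exists_pair_of_norm_two {θ : G → ℂ} (h : Cfsg.IsGeneralizedCharacter G θ)
    (h1 : θ 1 = -1) (h2 : Cfsg.classInner θ θ = 2) :
    ∃ a b : Cfsg.IrrCharacter G, θ = (a : G → ℂ) - (b : G → ℂ) := by
  classical
  have hcl := CharInduce.IsGen.isClassFunction h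
  choose n hn using fun ψ : Cfsg.IrrCharacter G => CharInduce.IsGen.exists_int_coeff h
    (CharBasic.IsIrr.isCharacter ψ.2)
  choose d hdpos hd using fun ψ : Cfsg.IrrCharacter G => CharBasic.IsIrr.exists_degree ψ.2
  have hsum : ∑ ψ : Cfsg.IrrCharacter G, n ψ ^ 2 = 2 := by
    have := classInner_eq_sum (ψ := θ) hcl
    rw [h2] at this
    simp only [hn, map_intCast] at this
    have h' : ((∑ ψ : Cfsg.IrrCharacter G, n ψ ^ 2 : ℤ) : ℂ) = ((2 : ℤ) : ℂ) := by
      push_cast
      simpa [sq] using this.symm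
    exact_mod_cast h'
  have hexp : θ = ∑ ψ : Cfsg.IrrCharacter G, (n ψ : ℂ) • (ψ : G → ℂ) := by
    conv_lhs => rw [classFunction_expansion hcl]
    simp only [hn]
  have hdeg : ∑ ψ : Cfsg.IrrCharacter G, n ψ * d ψ = -1 := by
    have hc : ((∑ ψ : Cfsg.IrrCharacter G, n ψ * d ψ : ℤ) : ℂ) = ((-1 : ℤ) : ℂ) := by
      rw [Int.cast_neg, Int.cast_one, ← h1, hexp]
      simp [Finset.sum_apply, hd]
    exact_mod_cast hc
  have hval : ∀ ψ, n ψ = 0 ∨ n ψ = 1 ∨ n ψ = -1 := by
    intro ψ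
    have h4 : n ψ ^ 2 ≤ 2 := hsum ▸
      Finset.single_le_sum (f := fun ψ => n ψ ^ 2) (fun φ _ => sq_nonneg (n φ)) (mem_univ ψ)
    have hb1 : n ψ ≤ 1 := by nlinarith
    have hb2 : -1 ≤ n ψ := by nlinarith
    omega
  have hcard : #(univ.filter fun ψ : Cfsg.IrrCharacter G => n ψ ≠ 0) = 2 := by
    have e : ∑ ψ : Cfsg.IrrCharacter G, n ψ ^ 2 =
        ∑ ψ : Cfsg.IrrCharacter G, if n ψ ≠ 0 then (1 : ℤ) else 0 := by
      refine sum_congr rfl fun ψ _ => ?_
      rcases hval ψ with e | e | e <;> simp [e]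
    rw [hsum, sum_boole] at e
    exact_mod_cast e.symm
  obtain ⟨p, q, hpq, hset⟩ := Finset.card_eq_two.1 hcard
  have hzero : ∀ ψ, ψ ∉ ({p, q} : Finset (Cfsg.IrrCharacter G)) → n ψ = 0 := by
    intro ψ hψ
    rw [← hset] at hψ
    simpa using hψ
  have hdeg2 : n p * d p + n q * d q = -1 := by
    rw [← Finset.sum_pair (f := fun ψ => n ψ * (d ψ : ℤ)) hpq, ← hdeg]
    exact Finset.sum_subset (subset_univ _) fun ψ _ hψ => by rw [hzero ψ hψ, zero_mul]
  have hθ : θ = (n p : ℂ) • (p : G → ℂ) + (n q : ℂ) • (q : G → ℂ) := by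
    rw [hexp, ← Finset.sum_pair (f := fun ψ => (n ψ : ℂ) • (ψ : G → ℂ)) hpq]
    exact (Finset.sum_subset (subset_univ _) fun ψ _ hψ => by rw [hzero ψ hψ]; simp).symm
  have hp : n p ≠ 0 := by
    have : p ∈ univ.filter fun ψ : Cfsg.IrrCharacter G => n ψ ≠ 0 := by rw [hset]; simp
    simpa using this
  have hq : n q ≠ 0 := by
    have : q ∈ univ.filter fun ψ : Cfsg.IrrCharacter G => n ψ ≠ 0 := by rw [hset]; simp
    simpa using this
  have := hdpos p
  have := hdpos q
  rcases (hval p).resolve_left hp with ep | ep <;> rcases (hval q).resolve_left hq with eq' | eq' <;>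
    rw [ep, eq'] at hdeg2 hθ
  · omega
  · exact ⟨p, q, by rw [hθ]; simp [sub_eq_add_neg]⟩
  · exact ⟨q, p, by rw [hθ]; simp [sub_eq_add_neg, add_comm]⟩
  · omega

/-- the average of an irreducible character over products of two conjugates of `t` -/
theorem sum_conj_pair_mul {χ : G → ℂ} (hχ : Cfsg.IsIrrCharacter G χ) (t : G) :
    (∑ g : G, ∑ h : G, χ (g * t * g⁻¹ * (h * t * h⁻¹))) * χ 1 = ((Nat.card G : ℂ) * χ t) ^ 2 := by
  classical
  obtain ⟨n, ρ, hρ, rfl⟩ := hχ
  set T : Module.End ℂ (Fin n → ℂ) := ∑ g : G, ρ (g * t * g⁻¹) with hT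
  have hcomm : ∀ x, T * ρ x = ρ x * T := by
    intro x
    simp only [hT, Finset.sum_mul, Finset.mul_sum]
    refine (Fintype.sum_equiv (Equiv.mulLeft x) _ _ fun g => ?_).symm
    rw [← map_mul, ← map_mul, Equiv.coe_mulLeft]
    congr 1
    group
  obtain ⟨c, hc⟩ := schur_scalar ρ T hcomm
  have h1 : (Nat.card G : ℂ) * ρ.character t = c * ρ.character 1 := by
    have : LinearMap.trace ℂ _ T = (Nat.card G : ℂ) * ρ.character t := by
      rw [hT, map_sum, Nat.card_eq_fintype_card]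
      show ∑ g : G, ρ.character (g * t * g⁻¹) = _
      rw [Finset.sum_congr rfl fun g _ => Representation.char_conj ρ t g, Finset.sum_const,
        Finset.card_univ, nsmul_eq_mul]
    rw [← this, hc, map_smul, smul_eq_mul, Representation.char_one, LinearMap.trace_id]
  have h2 : ∑ g : G, ∑ h : G, ρ.character (g * t * g⁻¹ * (h * t * h⁻¹)) = c ^ 2 * ρ.character 1 := by
    have : LinearMap.trace ℂ _ (T * T) = ∑ g : G, ∑ h : G, ρ.character (g * t * g⁻¹ * (h * t * h⁻¹)) := by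
      simp only [hT, Finset.sum_mul, Finset.mul_sum, map_sum]
      rw [Finset.sum_comm]
      simp only [Representation.character, map_mul]
    rw [← this, hc, smul_mul_smul_comm, map_smul, smul_eq_mul, Representation.char_one, sq]
    congr 1
    rw [show (LinearMap.id : (Fin n → ℂ) →ₗ[ℂ] _) * LinearMap.id = LinearMap.id from rfl,
      LinearMap.trace_id]
  rw [h2, h1]; ring

end General

section Main

variable {G : Type u} [Group G] [Finite G] (S : Sylow 2 G) (n : ℕ)

/-- involutions of `N(D)` centralise `D` -/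
theorem invol_mem_centralizer (e : (S : Subgroup G) ≃* QuaternionGroup (2 ^ (n + 2))) {D : Subgroup G}
    (hD : D = ⁅(S : Subgroup G), (S : Subgroup G)⁆) {t : G} (ht : orderOf t = 2)
    (htN : t ∈ normalizer (D : Set G)) : t ∈ centralizer (D : Set G) := by
  classical
  obtain ⟨c, d, x, hDd, hd, hc, hSC, -, -, hSN⟩ := quat_derived S n e hD
  set N := normalizer (D : Set G) with hN
  have h2 : IsPGroup 2 (zpowers (⟨t, htN⟩ : N)) :=
    IsPGroup.of_card (n := 1) (by rw [Nat.card_zpowers, Subgroup.orderOf_mk, ht, pow_one])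
  obtain ⟨P, hP⟩ := h2.exists_le_sylow
  obtain ⟨g, hg⟩ := MulAction.exists_smul_eq N P (S.subtype hSN)
  have hs : g * ⟨t, htN⟩ * g⁻¹ ∈ (S.subtype hSN : Subgroup N) := by
    rw [← hg, Sylow.coe_subgroup_smul]
    exact ⟨_, hP (mem_zpowers _), rfl⟩
  have hsS : (g : G) * t * (g : G)⁻¹ ∈ (S : Subgroup G) := hs
  have hso : orderOf ((g : G) * t * (g : G)⁻¹) = 2 :=
    (MulEquiv.orderOf_eq (MulAut.conj (g : G)) t).trans ht
  have hsC : (g : G) * t * (g : G)⁻¹ ∈ centralizer (D : Set G) := by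
    refine quat_sq_mem_centralizer S n e hD hsS ?_
    rw [← sq, orderOf_dvd_iff_pow_eq_one.1 hso.dvd]
  have := inv_conj_mem_centralizer (inv_mem g.2 : (g : G)⁻¹ ∈ N) hsC
  simpa [mul_assoc] using this

/-- the linear character of order 4 of `C(D)` -/
theorem exists_quarter_char (e : (S : Subgroup G) ≃* QuaternionGroup (2 ^ (n + 2))) {D : Subgroup G}
    (hD : D = ⁅(S : Subgroup G), (S : Subgroup G)⁆) :
    ∃ μ : centralizer (D : Set G) →* ℂˣ,
      (∀ y, μ y ≠ 1 → Nat.card D ∣ orderOf y) ∧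
      (∃ y, μ y * μ y ≠ 1) ∧
      (∀ t y : centralizer (D : Set G), μ y ≠ 1 → t * y * t⁻¹ ≠ y⁻¹) ∧
      (∀ (g : G) (y : centralizer (D : Set G)) (hgy : g * (y : G) * g⁻¹ ∈ centralizer (D : Set G)),
        g ∈ normalizer (D : Set G) → g ∉ centralizer (D : Set G) → μ ⟨_, hgy⟩ = (μ y)⁻¹) := by
  classical
  haveI : Fact (Nat.Prime 2) := ⟨Nat.prime_two⟩
  obtain ⟨c, d, x, hDd, hd, hc, hSC, hxS, hxC, hSN⟩ := quat_derived S n e hD
  obtain ⟨-, hcomp, T, hT⟩ := quat_centralizer S n e hD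
  have hcT : c ∈ (T : Subgroup (centralizer (D : Set G))).map (centralizer (D : Set G)).subtype := by
    rw [hT, hSC]; exact mem_zpowers c
  obtain ⟨c', hc'T, hc'c⟩ := Subgroup.mem_map.1 hcT
  have hc'o : orderOf c' = 2 * 2 ^ (n + 2) := by
    rw [← Subgroup.orderOf_coe, show (c' : G) = c from hc'c, hc]
  set K₀ := Cfsg.pResidual 2 (centralizer (D : Set G))
  have hcmp : K₀.IsComplement' (T : Subgroup (centralizer (D : Set G))) :=
    Fusion.isComplement'_pResidual hcomp T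
  have hodd : ¬ 2 ∣ Nat.card K₀ := Fusion.not_dvd_card_of_isComplement' T hcmp
  set q := QuotientGroup.mk' K₀
  have hgen : ∀ z, z ∈ zpowers (q c') := by
    intro z
    obtain ⟨y, rfl⟩ := QuotientGroup.mk'_surjective K₀ z
    have hy : y ∈ K₀ ⊔ (T : Subgroup (centralizer (D : Set G))) := hcmp.sup_eq_top ▸ mem_top y
    obtain ⟨k, hk, t, ht, rfl⟩ := Subgroup.mem_sup_of_normal_left.1 hy
    have ht' : (t : G) ∈ (T : Subgroup (centralizer (D : Set G))).map (centralizer (D : Set G)).subtype :=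
      ⟨t, ht, rfl⟩
    rw [hT, hSC] at ht'
    obtain ⟨i, hi⟩ := mem_zpowers_iff.1 ht'
    have : t = c' ^ i := Subtype.ext (by rw [Subgroup.coe_zpow, show (c' : G) = c from hc'c, hi])
    refine mem_zpowers_iff.2 ⟨i, ?_⟩
    rw [map_mul, show q k = 1 from (QuotientGroup.eq_one_iff k).2 hk, one_mul, this, map_zpow]
  have hqo : orderOf (q c') = 2 * 2 ^ (n + 2) := by
    refine Nat.dvd_antisymm (hc'o ▸ orderOf_map_dvd q c') ?_
    rw [← hc'o]
    apply orderOf_dvd_of_pow_eq_one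
    have h1 : c' ^ orderOf (q c') ∈ K₀ ⊓ (T : Subgroup (centralizer (D : Set G))) :=
      ⟨(QuotientGroup.eq_one_iff _).1 (show q (c' ^ orderOf (q c')) = 1 by
        rw [map_pow, pow_orderOf_eq_one]), pow_mem hc'T _⟩
    rwa [hcmp.disjoint.eq_bot, mem_bot] at h1
  let I' : ℂˣ := Units.mk0 Complex.I Complex.I_ne_zero
  have hI4 : I' ^ 4 = 1 := Units.ext (by simp [I', Complex.I_pow_four])
  have h4N : 4 ∣ 2 * 2 ^ (n + 2) := ⟨2 ^ (n + 1), by ring⟩
  have hIo : orderOf I' ∣ orderOf (q c') := hqo ▸ (orderOf_dvd_of_pow_eq_one hI4).trans h4N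
  let ν : (centralizer (D : Set G)) ⧸ K₀ →* ℂˣ := monoidHomOfForallMemZpowers hgen hIo
  have hνc : ν (q c') = I' := monoidHomOfForallMemZpowers_apply_gen _ _
  let μ : centralizer (D : Set G) →* ℂˣ := ν.comp q
  have hkey : ∀ y, μ y ≠ 1 → 2 ^ (n + 2) ∣ orderOf (q y) := by
    intro y hy
    have h1 : orderOf (q y) ∣ 2 ^ (n + 3) := by
      obtain ⟨i, hi⟩ := mem_zpowers_iff.1 (hgen (q y))
      have h2 : orderOf (q y) ∣ orderOf (q c') :=
        orderOf_dvd_of_mem_zpowers (mem_zpowers_iff.2 ⟨i, hi⟩)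
      rw [hqo] at h2
      rwa [pow_succ' 2 (n + 2)]
    obtain ⟨j, hj, hje⟩ := (Nat.dvd_prime_pow Nat.prime_two).1 h1
    rw [hje]
    apply Nat.pow_dvd_pow
    by_contra hlt
    apply hy
    obtain ⟨i, hi⟩ := mem_zpowers_iff.1 (hgen (q y))
    have h2 : q y ^ (2 ^ (n + 1)) = 1 := orderOf_dvd_iff_pow_eq_one.1
      (hje ▸ Nat.pow_dvd_pow 2 (by omega : j ≤ n + 1))
    rw [← hi, ← zpow_natCast, ← zpow_mul, ← orderOf_dvd_iff_zpow_eq_one, hqo] at h2
    have h4 : (4 : ℤ) ∣ i := by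
      have h3 : ((4 * 2 ^ (n + 1) : ℕ) : ℤ) ∣ i * (2 ^ (n + 1) : ℕ) := by
        rwa [show 4 * 2 ^ (n + 1) = 2 * 2 ^ (n + 2) by ring]
      push_cast at h3
      exact (mul_dvd_mul_iff_right (pow_ne_zero _ (by norm_num : (2 : ℤ) ≠ 0))).1 h3
    show ν (q y) = 1
    rw [← hi, map_zpow, hνc]
    exact orderOf_dvd_iff_zpow_eq_one.1
      ((Int.natCast_dvd_natCast.2 (orderOf_dvd_of_pow_eq_one hI4)).trans h4)
  have hcardD : Nat.card D = 2 ^ (n + 2) := by rw [hDd, Nat.card_zpowers, hd]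
  refine ⟨μ, fun y hy => hcardD ▸ (hkey y hy).trans (orderOf_map_dvd q y), ⟨c', ?_⟩, ?_, ?_⟩
  · intro h
    have : ((ν (q c') * ν (q c') : ℂˣ) : ℂ) = 1 := congrArg Units.val h
    rw [hνc, Units.val_mul, Units.val_mk0, Complex.I_mul_I] at this
    norm_num at this
  · intro t y hy htin
    have h1 := congrArg q htin
    rw [map_mul, map_mul, map_inv, map_inv] at h1
    have h2 : q t * q y * (q t)⁻¹ = q y := by
      obtain ⟨i, hi⟩ := mem_zpowers_iff.1 (hgen (q t))
      obtain ⟨j, hj⟩ := mem_zpowers_iff.1 (hgen (q y))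
      rw [← hi, ← hj, ← zpow_neg, ← zpow_add, ← zpow_add, show i + j + -i = j by ring]
    rw [h2] at h1
    have h3 : orderOf (q y) ∣ 2 := orderOf_dvd_iff_pow_eq_one.2 (by
      rw [sq]; nth_rewrite 1 [h1]; rw [inv_mul_cancel])
    have h4 : 2 ^ (n + 2) ≤ 2 := Nat.le_of_dvd (by norm_num) ((hkey y hy).trans h3)
    have h5 : 2 ^ 2 ≤ 2 ^ (n + 2) := Nat.pow_le_pow_right (by norm_num) (by omega)
    omega
  · intro g y hgy hgN hgC
    obtain ⟨K, hKodd, hKC, hNK, hsup, hsupC, hidx⟩ := S0842.result S n e D hD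
    -- `g = h * x` with `h` in `C(D)`
    set N := normalizer (D : Set G) with hN
    have hgx : g * x⁻¹ ∈ centralizer (D : Set G) := by
      have := (Subgroup.mul_mem_iff_of_index_two hidx (a := ⟨g, hgN⟩) (b := (⟨x, hSN hxS⟩ : N)⁻¹)).2
      exact this ⟨fun h => absurd h hgC, fun h => absurd (inv_mem_iff.1 h) hxC⟩
    have hxinv : ∀ (z : centralizer (D : Set G)) (hz : x * (z : G) * x⁻¹ ∈ centralizer (D : Set G)),
        μ ⟨_, hz⟩ = (μ z)⁻¹ := by
      intro z hz
      let φ : centralizer (D : Set G) →* centralizer (D : Set G) :=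
        MonoidHom.mk' (fun z => ⟨x * z * x⁻¹, inv_conj_mem_centralizer (hSN hxS) z.2⟩)
          (fun a b => Subtype.ext (by simp [mul_assoc]))
      suffices h : ∀ w, μ (φ w) * μ w = 1 from eq_inv_of_mul_eq_one_left (h z)
      intro w
      have hφK : ∀ k ∈ K₀, φ k ∈ K₀ := by
        intro k hk
        rw [Fusion.mem_pResidual_iff_of_hasNormalPComplement hcomp] at hk ⊢
        have e1 : orderOf (φ k) = orderOf k := by
          rw [← Subgroup.orderOf_coe, ← Subgroup.orderOf_coe k]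
          exact MulEquiv.orderOf_eq (MulAut.conj x) (k : G)
        rwa [e1]
      obtain ⟨i, hi⟩ := mem_zpowers_iff.1 (hgen (q w))
      have hk : (c' ^ i)⁻¹ * w ∈ K₀ := by
        refine (QuotientGroup.eq_one_iff _).1 ?_
        show q ((c' ^ i)⁻¹ * w) = 1
        rw [map_mul, map_inv, map_zpow, hi, inv_mul_cancel]
      have hw : w = c' ^ i * ((c' ^ i)⁻¹ * w) := by group
      have hμK : ∀ k ∈ K₀, μ k = 1 := fun k hk => by
        show ν (q k) = 1
        rw [show q k = 1 from (QuotientGroup.eq_one_iff k).2 hk, map_one]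
      have hxc : φ c' = c'⁻¹ := by
        haveI : NeZero (2 ^ (n + 2)) := ⟨by positivity⟩
        exact Subtype.ext (by
          show x * (c' : G) * x⁻¹ = (c' : G)⁻¹
          rw [show (c' : G) = c from hc'c]
          exact quat_conj_inv S n e hD hSC hc hxS hxC)
      rw [hw, map_mul φ, map_mul μ, map_mul μ, hμK _ hk, hμK _ (hφK _ hk), mul_one, mul_one,
        map_zpow, hxc, inv_zpow, map_inv, inv_mul_cancel]
    set h : centralizer (D : Set G) := ⟨g * x⁻¹, hgx⟩
    have hz : x * (y : G) * x⁻¹ ∈ centralizer (D : Set G) := inv_conj_mem_centralizer (hSN hxS) y.2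
    have e1 : (⟨g * (y : G) * g⁻¹, hgy⟩ : centralizer (D : Set G)) = h * ⟨_, hz⟩ * h⁻¹ :=
      Subtype.ext (by simp [h]; group)
    rw [e1, map_mul, map_mul, map_inv, hxinv y hz, mul_comm (μ h), mul_inv_cancel_right]

end Main

section Chars

variable {G : Type u} [Group G] [Fintype G] (S : Sylow 2 G) (n : ℕ)

/-- The characters `χ₁, χ₂` of Gorenstein 12.1.1. -/
theorem bs_chars (e : (S : Subgroup G) ≃* QuaternionGroup (2 ^ (n + 2))) :
    ∃ χ₁ χ₂ : G → ℂ, Cfsg.IsIrrCharacter G χ₁ ∧ Cfsg.IsIrrCharacter G χ₂ ∧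
      χ₁ ≠ (fun _ => 1) ∧ χ₂ ≠ (fun _ => 1) ∧ χ₁ 1 = χ₂ 1 + 1 ∧
      (∀ g : G, ¬ 4 ∣ orderOf g → χ₁ g - χ₂ g = 1) ∧
      (∀ a b : G, orderOf a = 2 → orderOf b = 2 → χ₁ (a * b) - χ₂ (a * b) = 1) := by
  classical
  set D := ⁅(S : Subgroup G), (S : Subgroup G)⁆ with hD
  obtain ⟨c, d, x, hDd, hd, hc, hSC, hxS, hxC, hSN⟩ := quat_derived S n e hD
  set C := centralizer (D : Set G) with hC
  set N := normalizer (D : Set G) with hN
  obtain ⟨μ, hμX, ⟨y₀, hy₀⟩, hμinv, hμconj⟩ : ∃ μ : C →* ℂˣ,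
      (∀ y, μ y ≠ 1 → Nat.card D ∣ orderOf y) ∧
      (∃ y, μ y * μ y ≠ 1) ∧
      (∀ t y : C, μ y ≠ 1 → t * y * t⁻¹ ≠ y⁻¹) ∧
      (∀ (g : G) (y : C) (hgy : g * (y : G) * g⁻¹ ∈ C),
        g ∈ N → g ∉ C → μ ⟨_, hgy⟩ = (μ y)⁻¹) := exists_quarter_char S n e hD
  obtain ⟨hX1, hX2, -⟩ : (∀ y : G, y ∈ C → Nat.card D ∣ orderOf y → D ≤ Subgroup.zpowers y) ∧
      (∀ g y : G, y ∈ C → Nat.card D ∣ orderOf y → g * y * g⁻¹ ∈ C → g ∈ N) ∧ _ :=
    S0843.result S n e D hD
  obtain ⟨K, hK⟩ := S0842.result S n e D hD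
  have hidx : (C.subgroupOf N).index = 2 := hK.2.2.2.2.2
  have hCN : C ≤ N := Subgroup.centralizer_le_normalizer _
  haveI : Fintype C := Fintype.ofFinite C
  let l : C → ℂ := fun y => (μ y : ℂ)
  let l' : C → ℂ := fun y => ((μ⁻¹ : C →* ℂˣ) y : ℂ)
  let one : C → ℂ := fun _ => 1
  have hl : Cfsg.IsIrrCharacter C l := CharInduce.isIrrCharacter_hom μ
  have hl' : Cfsg.IsIrrCharacter C l' := CharInduce.isIrrCharacter_hom μ⁻¹
  have h1 : Cfsg.IsIrrCharacter C one := CharBasic.isIrrCharacter_one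
  have hne1 : one ≠ l := fun h => hy₀ (by
    have : (1 : ℂ) = (μ y₀ : ℂ) := congrFun h y₀
    rw [show μ y₀ = 1 from Units.ext this.symm, mul_one])
  have hne1' : one ≠ l' := fun h => hy₀ (by
    have h' : (1 : ℂ) = (((μ y₀)⁻¹ : ℂˣ) : ℂ) := congrFun h y₀
    have : μ y₀ = 1 := inv_eq_one.1 (Units.ext h'.symm)
    rw [this, mul_one])
  have hne2 : l ≠ l' := fun h => hy₀ (by
    have h' : (μ y₀ : ℂ) = (((μ y₀)⁻¹ : ℂˣ) : ℂ) := congrFun h y₀
    nth_rewrite 1 [show μ y₀ = (μ y₀)⁻¹ from Units.ext h']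
    rw [inv_mul_cancel])
  let β : C → ℂ := one - l
  let ψ : G → ℂ := Cfsg.indFun C β
  have hβX : ∀ y : C, β y ≠ 0 → μ y ≠ 1 := fun y hy h => hy (by simp [β, one, l, h])
  have hψ0 : ∀ g : G, (∀ x : G, ∀ hxg : x⁻¹ * g * x ∈ C, μ ⟨_, hxg⟩ = 1) → ψ g = 0 := by
    intro g hg
    show Cfsg.indFun C β g = 0
    rw [CharInduce.indFun_apply]
    refine mul_eq_zero_of_right _ (Finset.sum_eq_zero fun z _ => ?_)
    by_cases hz : z⁻¹ * g * z ∈ C
    · rw [CharInduce.extendByZero_of_mem _ hz]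
      simp [β, one, l, hg z hz]
    · exact CharInduce.extendByZero_of_not_mem _ hz
  have hcardD : Nat.card D = 2 ^ (n + 2) := by rw [hDd, Nat.card_zpowers, hd]
  have h4D : 4 ∣ Nat.card D := hcardD ▸ ⟨2 ^ n, by ring⟩
  have hord : ∀ z g : G, orderOf (z * g * z⁻¹) = orderOf g := fun z g =>
    MulEquiv.orderOf_eq (MulAut.conj z) g
  have hvan4 : ∀ g : G, ¬ 4 ∣ orderOf g → ψ g = 0 := fun g hg => hψ0 g fun z hz => by
    by_contra hne
    have h := hμX ⟨_, hz⟩ hne
    rw [Subgroup.orderOf_mk, show z⁻¹ * g * z = z⁻¹ * g * z⁻¹⁻¹ by rw [inv_inv], hord] at h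
    exact hg (h4D.trans h)
  have hvan2 : ∀ a b : G, orderOf a = 2 → orderOf b = 2 → ψ (a * b) = 0 := fun a b ha hb =>
    hψ0 _ fun z hz => by
      by_contra hne
      obtain ⟨a', ha'⟩ : ∃ a', a' = z⁻¹ * a * z := ⟨_, rfl⟩
      obtain ⟨b', hb'⟩ : ∃ b', b' = z⁻¹ * b * z := ⟨_, rfl⟩
      have hao : orderOf a' = 2 := by rw [ha', show z⁻¹ * a * z = z⁻¹ * a * z⁻¹⁻¹ by rw [inv_inv], hord, ha]
      have ha2 : a' * a' = 1 := by rw [← sq, orderOf_dvd_iff_pow_eq_one.1 hao.dvd]
      have hb2 : b' * b' = 1 := by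
        have : orderOf b' = 2 := by rw [hb', show z⁻¹ * b * z = z⁻¹ * b * z⁻¹⁻¹ by rw [inv_inv], hord, hb]
        rw [← sq, orderOf_dvd_iff_pow_eq_one.1 this.dvd]
      have hy : z⁻¹ * (a * b) * z = a' * b' := by rw [ha', hb']; group
      have hinv : a' * (z⁻¹ * (a * b) * z) * a'⁻¹ = (z⁻¹ * (a * b) * z)⁻¹ := by
        rw [hy, mul_inv_rev, inv_eq_of_mul_eq_one_left ha2, inv_eq_of_mul_eq_one_left hb2, ← mul_assoc,
          ha2, one_mul]
      have haN : a' ∈ N := hX2 a' _ hz (by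
        have := hμX ⟨_, hz⟩ hne
        rwa [Subgroup.orderOf_mk] at this) (by rw [hinv]; exact inv_mem hz)
      exact hμinv ⟨a', invol_mem_centralizer S n e hD hao haN⟩ ⟨_, hz⟩ hne (Subtype.ext hinv)
  -- generalised character of norm three
  have hβgen : Cfsg.IsGeneralizedCharacter C β :=
    ⟨one, l, CharBasic.IsIrr.isCharacter h1, CharBasic.IsIrr.isCharacter hl, rfl⟩
  have hψgen : Cfsg.IsGeneralizedCharacter G ψ := CharInduce.IsGen.ind C hβgen
  have hψcl : Cfsg.IsClassFunction G ψ := CharInduce.isClassFunction_indFun C β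
  have hψ1 : ψ 1 = 0 := hvan4 1 (by norm_num)
  have hres : ∀ y : C, β y ≠ 0 → ψ y = ((one - l) + (one - l')) y := by
    intro y hy
    have hyμ := hβX y hy
    set a := (1 : ℂ) - (μ y : ℂ) with hadef
    set b := (1 : ℂ) - (((μ y)⁻¹ : ℂˣ) : ℂ) with hbdef
    have hf : ∀ z : G, Cfsg.extendByZero C β (z⁻¹ * y * z) =
        (if z ∈ N then b else 0) + (if z ∈ C then a - b else 0) := by
      intro z
      by_cases hzN : z ∈ N
      · have hzC' : z⁻¹ * (y : G) * z ∈ C := by
          have := inv_conj_mem_centralizer (inv_mem hzN : z⁻¹ ∈ N) y.2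
          rwa [inv_inv] at this
        rw [CharInduce.extendByZero_of_mem _ hzC', if_pos hzN]
        by_cases hzC : z ∈ C
        · rw [if_pos hzC, add_sub_cancel]
          have : (⟨z⁻¹ * (y : G) * z, hzC'⟩ : C) = (⟨z, hzC⟩ : C)⁻¹ * y * ⟨z, hzC⟩ := rfl
          simp only [β, one, l, Pi.sub_apply, this, map_mul, map_inv, hadef,
            inv_mul_cancel_comm]
        · rw [if_neg hzC, add_zero]
          have hm : z⁻¹ * (y : G) * z⁻¹⁻¹ ∈ C := by rwa [inv_inv]
          have h' := hμconj z⁻¹ y hm (inv_mem hzN) (fun h => hzC (inv_mem_iff.1 h))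
          have e1 : (⟨z⁻¹ * (y : G) * z, hzC'⟩ : C) = ⟨_, hm⟩ := Subtype.ext (by simp only [inv_inv])
          show (1 : ℂ) - (μ _ : ℂ) = b
          rw [e1, h']
      · rw [if_neg hzN, if_neg (fun h => hzN (hCN h)), add_zero]
        by_cases hzC' : z⁻¹ * (y : G) * z ∈ C
        · exfalso
          refine hzN (inv_mem_iff.1 (hX2 z⁻¹ y y.2 ?_ (by rwa [inv_inv])))
          have := hμX y hyμ
          rwa [← Subgroup.orderOf_coe] at this
        · exact CharInduce.extendByZero_of_not_mem _ hzC'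
    have hcnt : ∀ H : Subgroup G, (Finset.univ.filter fun z => z ∈ H).card = Nat.card H := fun H => by
      rw [← Fintype.card_subtype, Nat.card_eq_fintype_card]
    have hNC : Nat.card N = 2 * Nat.card C := by
      have h := Subgroup.relIndex_mul_relIndex (⊥ : Subgroup G) C N bot_le hCN
      rw [Subgroup.relIndex_bot_left, Subgroup.relIndex_bot_left, show C.relIndex N = 2 from hidx] at h
      omega
    show Cfsg.indFun C β y = _
    rw [CharInduce.indFun_apply, Finset.sum_congr rfl fun z _ => hf z, Finset.sum_add_distrib,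
      Finset.sum_ite, Finset.sum_ite, Finset.sum_const_zero, Finset.sum_const_zero, add_zero, add_zero,
      Finset.sum_const, Finset.sum_const, hcnt, hcnt, hNC, nsmul_eq_mul, nsmul_eq_mul]
    have := CharInduce.card_ne_zero_complex C
    simp only [Pi.add_apply, Pi.sub_apply, one, l, l', MonoidHom.inv_apply, hadef, hbdef]
    push_cast
    field_simp
    ring
  have hnorm : Cfsg.classInner ψ ψ = 3 := by
    show Cfsg.classInner (Cfsg.indFun C β) ψ = 3
    rw [CharInduce.classInner_indFun_left C β ψ hψcl]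
    have e : Cfsg.classInner β (fun y : C => ψ y) = Cfsg.classInner β ((one - l) + (one - l')) := by
      simp only [Cfsg.classInner]
      congr 1
      refine Finset.sum_congr rfl fun y _ => ?_
      by_cases hy : β y = 0
      · rw [hy, zero_mul, zero_mul]
      · rw [hres y hy]
    rw [e]
    show Cfsg.classInner (one - l) _ = 3
    simp only [classInner_add_right, classInner_sub_left, classInner_sub_right,
      classInner_irr h1 h1, classInner_irr h1 hl, classInner_irr hl h1, classInner_irr hl hl,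
      classInner_irr h1 hl', classInner_irr hl hl', hne1, hne1.symm, hne1', hne2, if_true, if_false]
    norm_num
  let tr : G → ℂ := fun _ => 1
  have htr : Cfsg.IsIrrCharacter G tr := CharBasic.isIrrCharacter_one
  have hψtr : Cfsg.classInner ψ tr = 1 := by
    show Cfsg.classInner (Cfsg.indFun C β) tr = 1
    rw [CharInduce.classInner_indFun_left C β tr (CharBasic.IsIrr.isClassFunction htr)]
    show Cfsg.classInner (one - l) one = 1
    simp only [classInner_sub_left, classInner_irr h1 h1, classInner_irr hl h1, hne1.symm, if_true,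
      if_false]
    norm_num
  have htrψ : Cfsg.classInner tr ψ = 1 := by
    rw [← CharInduce.conj_classInner, hψtr, map_one]
  obtain ⟨a, b, hab⟩ := exists_pair_of_norm_two (θ := ψ - tr)
    (CharInduce.IsGen.sub hψgen (CharInduce.IsGen.of_char (CharBasic.IsIrr.isCharacter htr)))
    (by simp [hψ1, tr]) (by
      simp only [classInner_sub_left, classInner_sub_right, hnorm, hψtr, htrψ,
        classInner_irr htr htr, if_true]
      norm_num)
  have hrel : ∀ g, (b : G → ℂ) g - (a : G → ℂ) g = 1 - ψ g := fun g => by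
    have := congrFun hab g
    simp only [Pi.sub_apply, tr] at this
    linear_combination this
  have hzero : Cfsg.classInner ((a : G → ℂ) - (b : G → ℂ)) tr = 0 := by
    rw [← hab, classInner_sub_left, hψtr, classInner_irr htr htr, if_pos rfl, sub_self]
  have hb1 : (b : G → ℂ) ≠ tr := by
    intro hb
    rw [classInner_sub_left, classInner_irr a.2 htr, classInner_irr b.2 htr, if_pos hb] at hzero
    have ha : (a : G → ℂ) = tr := by
      by_contra h
      rw [if_neg h] at hzero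
      norm_num at hzero
    have h0 := hrel 1
    rw [hψ1, ha, hb] at h0
    norm_num at h0
  have ha1 : (a : G → ℂ) ≠ tr := by
    intro ha
    rw [classInner_sub_left, classInner_irr a.2 htr, classInner_irr b.2 htr, if_pos ha, if_neg hb1]
      at hzero
    norm_num at hzero
  refine ⟨b, a, b.2, a.2, hb1, ha1, ?_, fun g hg => by rw [hrel, hvan4 g hg, sub_zero],
    fun u v hu hv => by rw [hrel, hvan2 u v hu hv, sub_zero]⟩
  have := hrel 1
  rw [hψ1] at this
  linear_combination this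

/-- The larger character has `u` in its kernel for an involution `u`. -/
theorem bs_normal (e : (S : Subgroup G) ≃* QuaternionGroup (2 ^ (n + 2))) :
    ∃ M : Subgroup G, M.Normal ∧ Even (Nat.card M) ∧ ¬ commutator G ≤ M := by
  classical
  obtain ⟨χ₁, χ₂, h₁, h₂, -, -, hdeg, h4, hpair⟩ := bs_chars S n e
  have hS2 : 2 ∣ Nat.card G := by
    refine dvd_trans ?_ (card_subgroup_dvd_card (S : Subgroup G))
    haveI : NeZero (2 ^ (n + 2)) := ⟨by positivity⟩
    rw [Nat.card_congr e.toEquiv, Nat.card_eq_fintype_card, QuaternionGroup.card]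
    exact dvd_mul_of_dvd_left (by norm_num) _
  obtain ⟨u, hu⟩ := exists_prime_orderOf_dvd_card' (G := G) 2 hS2
  have hu1 := h4 u (by rw [hu]; norm_num)
  have hconj : ∀ g : G, orderOf (g * u * g⁻¹) = 2 := fun g =>
    (MulEquiv.orderOf_eq (MulAut.conj g) u).trans hu
  have hsum : (∑ g : G, ∑ h : G, χ₁ (g * u * g⁻¹ * (h * u * h⁻¹))) -
      (∑ g : G, ∑ h : G, χ₂ (g * u * g⁻¹ * (h * u * h⁻¹))) = (Nat.card G : ℂ) ^ 2 := by
    simp only [← Finset.sum_sub_distrib, hpair _ _ (hconj _) (hconj _), Finset.sum_const,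
      Finset.card_univ, nsmul_eq_mul, mul_one, Nat.card_eq_fintype_card, sq]
  have e1 := sum_conj_pair_mul h₁ u
  have e2 := sum_conj_pair_mul h₂ u
  have hN : (Nat.card G : ℂ) ≠ 0 := CharInduce.card_ne_zero_complex G
  have hsq : ((Nat.card G : ℂ) * (χ₂ u - χ₂ 1)) ^ 2 = 0 := by
    have eu : χ₁ u = χ₂ u + 1 := by linear_combination hu1
    rw [eu, hdeg] at e1
    linear_combination χ₂ 1 * e1 - (χ₂ 1 + 1) * e2 - χ₂ 1 * (χ₂ 1 + 1) * hsum
  have hu2 : χ₂ u = χ₂ 1 :=
    sub_eq_zero.1 ((mul_eq_zero.1 ((pow_eq_zero_iff (two_ne_zero)).1 hsq)).resolve_left hN)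
  obtain ⟨M, hMn, hM, -⟩ := CharBasic.IsChar.exists_kernel (CharBasic.IsIrr.isCharacter h₁)
  refine ⟨M, hMn, ?_, fun hle => ?_⟩
  · have huM : u ∈ M := (hM u).2 (by linear_combination hu1 + hu2 - hdeg)
    exact even_iff_two_dvd.2 (hu ▸ M.orderOf_dvd_natCard huM)
  · obtain ⟨φ, -, hφ, hφirr⟩ := CharInduce.IsChar.exists_deflate (CharBasic.IsIrr.isCharacter h₁) M
      (fun z hz => (hM z).1 hz)
    have hcomm : ∀ p q : G ⧸ M, p * q = q * p := by
      intro p q
      obtain ⟨p, rfl⟩ := QuotientGroup.mk'_surjective M p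
      obtain ⟨q, rfl⟩ := QuotientGroup.mk'_surjective M q
      rw [← commutatorElement_eq_one_iff_mul_comm, ← map_commutatorElement]
      exact (QuotientGroup.eq_one_iff _).2 (hle (Subgroup.commutator_mem_commutator (mem_top p) (mem_top q)))
    have hd1 := CharInduce.IsIrr.degree_one_of_comm hcomm (hφirr h₁)
    have hχ1 : χ₁ 1 = 1 := by rw [hφ 1, QuotientGroup.mk_one, hd1]
    exact CharBasic.IsIrr.one_ne_zero h₂ (by linear_combination hχ1 - hdeg)

end Chars

section Involutions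

variable {G : Type u} [Group G] [Finite G] (S : Sylow 2 G) (n : ℕ)

/-- a generalised quaternion group has at most one involution -/
theorem quat_unique_invol {n : ℕ} {p q : QuaternionGroup (2 ^ (n + 2))} (hp : orderOf p = 2)
    (hq : orderOf q = 2) : p = q := by
  haveI : NeZero (2 ^ (n + 2)) := ⟨by positivity⟩
  have key : ∀ {r : QuaternionGroup (2 ^ (n + 2))}, orderOf r = 2 →
      r ∈ zpowers (QuaternionGroup.a 1 : QuaternionGroup (2 ^ (n + 2))) := by
    intro r hr
    rcases r with i | i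
    · refine ⟨(i.val : ℤ), ?_⟩
      show QuaternionGroup.a 1 ^ (i.val : ℤ) = _
      rw [zpow_natCast, QuaternionGroup.a_one_pow, ZMod.natCast_zmod_val]
    · rw [QuaternionGroup.orderOf_xa] at hr; norm_num at hr
  have h := H41.eq_of_card_eq_of_le_cyclic
    (inferInstance : IsCyclic (zpowers (QuaternionGroup.a 1 : QuaternionGroup (2 ^ (n + 2)))))
    (zpowers_le.2 (key hp)) (zpowers_le.2 (key hq)) (by rw [Nat.card_zpowers, Nat.card_zpowers, hp, hq])
  have hp2 : p ∈ zpowers q := h ▸ mem_zpowers p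
  obtain ⟨k, hk⟩ := mem_zpowers_iff.1 hp2
  have hq2 : q ^ (2 : ℤ) = 1 := by rw [zpow_ofNat, orderOf_dvd_iff_pow_eq_one.1 hq.dvd]
  rcases Int.even_or_odd k with ⟨j, hj⟩ | ⟨j, hj⟩
  · rw [hj, ← two_mul, zpow_mul, hq2, one_zpow] at hk
    rw [← hk, orderOf_one] at hp
    norm_num at hp
  · rw [hj, zpow_add, zpow_mul, hq2, one_zpow, one_mul, zpow_one] at hk
    exact hk.symm

/-- every involution is conjugate to the one of `S` -/
theorem invol_conj (e : (S : Subgroup G) ≃* QuaternionGroup (2 ^ (n + 2))) {u v : G}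
    (hu : orderOf u = 2) (hv : orderOf v = 2) : IsConj u v := by
  haveI : Fact (Nat.Prime 2) := ⟨Nat.prime_two⟩
  have key : ∀ w : G, orderOf w = 2 → ∃ g : G, g * w * g⁻¹ ∈ (S : Subgroup G) := by
    intro w hw
    have h2 : IsPGroup 2 (zpowers w) :=
      IsPGroup.of_card (n := 1) (by rw [Nat.card_zpowers, hw, pow_one])
    obtain ⟨P, hP⟩ := h2.exists_le_sylow
    obtain ⟨g, hg⟩ := MulAction.exists_smul_eq G P S
    refine ⟨g, ?_⟩
    rw [← hg, Sylow.coe_subgroup_smul]
    exact ⟨_, hP (mem_zpowers _), rfl⟩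
  obtain ⟨g, hg⟩ := key u hu
  obtain ⟨h, hh⟩ := key v hv
  have ho : ∀ z w : G, orderOf (z * w * z⁻¹) = orderOf w := fun z w =>
    MulEquiv.orderOf_eq (MulAut.conj z) w
  have heq : e ⟨_, hg⟩ = e ⟨_, hh⟩ := quat_unique_invol
    (by rw [MulEquiv.orderOf_eq, Subgroup.orderOf_mk, ho, hu])
    (by rw [MulEquiv.orderOf_eq, Subgroup.orderOf_mk, ho, hv])
  have h' : g * u * g⁻¹ = h * v * h⁻¹ := congrArg Subtype.val (e.injective heq)
  exact (isConj_iff.2 ⟨g, rfl⟩ : IsConj u (g * u * g⁻¹)).trans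
    (h' ▸ (isConj_iff.2 ⟨h, rfl⟩ : IsConj v (h * v * h⁻¹)).symm)

/-- the subgroup generated by the involutions meets `S` in a cyclic group -/
theorem invol_closure_inf_cyclic (e : (S : Subgroup G) ≃* QuaternionGroup (2 ^ (n + 2))) :
    IsCyclic ((S : Subgroup G) ⊓ Subgroup.closure {g : G | orderOf g = 2} : Subgroup G) := by
  classical
  set L := Subgroup.closure {g : G | orderOf g = 2} with hL
  set G₁ := L ⊔ (S : Subgroup G) with hG₁
  have hSG₁ : (S : Subgroup G) ≤ G₁ := le_sup_right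
  haveI : Fintype G₁ := Fintype.ofFinite _
  have e₁ : ((S.subtype hSG₁ : Sylow 2 G₁) : Subgroup G₁) ≃* QuaternionGroup (2 ^ (n + 2)) :=
    (Subgroup.subgroupOfEquivOfLe hSG₁).trans e
  obtain ⟨M, hMn, hMev, hMc⟩ := bs_normal (S.subtype hSG₁) n e₁
  obtain ⟨w, hw⟩ := exists_prime_orderOf_dvd_card' (G := M) 2 (even_iff_two_dvd.1 hMev)
  have hwo : orderOf (w : G₁) = 2 := by rw [Subgroup.orderOf_coe, hw]
  have hinvM : ∀ t : G₁, orderOf t = 2 → t ∈ M := fun t ht => by
    obtain ⟨g, hg⟩ := isConj_iff.1 (invol_conj (S.subtype hSG₁) n e₁ hwo ht)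
    exact hg ▸ hMn.conj_mem _ w.2 g
  have hLM : L ≤ M.map G₁.subtype := by
    refine (Subgroup.closure_le _).2 fun t ht => ?_
    have htG : t ∈ G₁ := le_sup_left (a := L) (Subgroup.subset_closure ht)
    exact ⟨⟨t, htG⟩, hinvM _ (by rw [Subgroup.orderOf_mk]; exact ht), rfl⟩
  by_contra hnc
  apply hMc
  haveI := hMn
  -- `D ≤ M`
  obtain ⟨c, d, x, hDd, hd, hc, hSC, hxS, hxC, -⟩ := quat_derived S n e rfl
  obtain ⟨s, hs, hsC⟩ : ∃ s, s ∈ (S : Subgroup G) ⊓ L ∧
      s ∉ centralizer ((⁅(S : Subgroup G), (S : Subgroup G)⁆ : Subgroup G) : Set G) := by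
    by_contra hcon
    push Not at hcon
    apply hnc
    have hle : (S : Subgroup G) ⊓ L ≤ zpowers c := hSC ▸ fun s hs => ⟨hs.1, hcon s hs⟩
    exact isCyclic_of_injective (Subgroup.inclusion hle) (Subgroup.inclusion_injective hle)
  have hci : s * c * s⁻¹ = c⁻¹ := quat_conj_inv S n e rfl hSC hc hs.1 hsC
  have hcS : c ∈ (S : Subgroup G) := (hSC ▸ mem_zpowers c : c ∈ (S : Subgroup G) ⊓ _).1
  set s₁ : G₁ := ⟨s, hSG₁ hs.1⟩
  set c₁ : G₁ := ⟨c, hSG₁ hcS⟩
  have hsM : s₁ ∈ M := by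
    obtain ⟨z, hz, hzs⟩ := Subgroup.mem_map.1 (hLM hs.2)
    rwa [show s₁ = z from Subtype.ext hzs.symm]
  have hc2 : c₁ * c₁ ∈ M := by
    have h1 : s₁ * (c₁ * s₁⁻¹ * c₁⁻¹) ∈ M := mul_mem hsM (hMn.conj_mem _ (inv_mem hsM) c₁)
    have : s₁ * (c₁ * s₁⁻¹ * c₁⁻¹) = (c₁ * c₁)⁻¹ := Subtype.ext (by
      show s * (c * s⁻¹ * c⁻¹) = (c * c)⁻¹
      rw [mul_inv_rev, ← mul_assoc s, ← mul_assoc s, hci])
    exact inv_mem_iff.1 (this ▸ h1)
  have hdD : ∀ y ∈ ⁅(S : Subgroup G), (S : Subgroup G)⁆, y ∈ zpowers (c * c) := by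
    intro y hy
    have hdc : d ∈ zpowers c := hSC ▸ (⟨Subgroup.commutator_le_self _ (hDd ▸ mem_zpowers d),
      by show d ∈ centralizer _; rw [hDd, mem_centralizer_zpowers_iff]⟩ : d ∈ (S : Subgroup G) ⊓ _)
    have hcc : zpowers (c * c) ≤ zpowers c := zpowers_le.2 (mul_mem (mem_zpowers c) (mem_zpowers c))
    have h2o : orderOf (c * c) = 2 ^ (n + 2) := by
      rw [← sq, orderOf_pow, hc, Nat.gcd_eq_right (dvd_mul_right 2 _)]
      omega
    rw [H41.eq_of_card_eq_of_le_cyclic (inferInstance : IsCyclic (zpowers c)) hcc (zpowers_le.2 hdc)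
      (by rw [Nat.card_zpowers, Nat.card_zpowers, h2o, hd]), ← hDd]
    exact hy
  -- the quotient is an image of `S`
  intro z hz
  refine (?_ : commutator G₁ ≤ M) hz
  set q := QuotientGroup.mk' M
  have hsurj : ∀ g : G₁, ∃ t : G₁, (t : G) ∈ (S : Subgroup G) ∧ q g = q t := by
    intro g
    have hle : G₁ ≤ ((S : Subgroup G).subgroupOf G₁ ⊔ M).map G₁.subtype := by
      rw [Subgroup.map_sup, Subgroup.subgroupOf_map_subtype, inf_eq_left.2 hSG₁]
      exact sup_le (hLM.trans le_sup_right) le_sup_left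
    obtain ⟨g', hg', hgg⟩ := Subgroup.mem_map.1 (hle g.2)
    obtain rfl : g' = g := Subtype.ext hgg
    obtain ⟨t, ht, m, hm, rfl⟩ := Subgroup.mem_sup_of_normal_right.1 hg'
    exact ⟨t, ht, by rw [map_mul, show q m = 1 from (QuotientGroup.eq_one_iff m).2 hm, mul_one]⟩
  rw [_root_.commutator_def, Subgroup.commutator_le]
  intro g₁ _ g₂ _
  obtain ⟨t₁, ht₁, e1⟩ := hsurj g₁
  obtain ⟨t₂, ht₂, e2⟩ := hsurj g₂
  refine (QuotientGroup.eq_one_iff _).1 ?_
  show q _ = 1
  rw [map_commutatorElement, e1, e2, ← map_commutatorElement]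
  refine (QuotientGroup.eq_one_iff _).2 ?_
  obtain ⟨k, hk⟩ := mem_zpowers_iff.1 (hdD _ (Subgroup.commutator_mem_commutator ht₁ ht₂))
  have : ⁅t₁, t₂⁆ = (c₁ * c₁) ^ k := Subtype.ext (by
    rw [Subgroup.coe_zpow]
    show _ = (c * c) ^ k
    rw [hk]
    rfl)
  rw [this]
  exact zpow_mem hc2 k

/-- the subgroup generated by involutions has cyclic Sylow 2-subgroups -/
theorem invol_closure_sylow_cyclic (e : (S : Subgroup G) ≃* QuaternionGroup (2 ^ (n + 2)))
    (Q : Sylow 2 (Subgroup.closure {g : G | orderOf g = 2})) : IsCyclic Q := by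
  haveI : Fact (Nat.Prime 2) := ⟨Nat.prime_two⟩
  haveI hn : (Subgroup.closure {g : G | orderOf g = 2}).Normal := normal_closure_orderOf_two
  obtain ⟨T, hT⟩ := H41.exists_sylow_map_eq_inf S (Subgroup.closure {g : G | orderOf g = 2})
  haveI := invol_closure_inf_cyclic S n e
  have h1 : IsCyclic ((T : Subgroup (Subgroup.closure {g : G | orderOf g = 2})).map
      (Subgroup.closure {g : G | orderOf g = 2}).subtype) := by rw [hT]; infer_instance
  have h2 := (MulEquiv.isCyclic (Subgroup.equivMapOfInjective _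
    (Subgroup.closure {g : G | orderOf g = 2}).subtype Subtype.val_injective)).2 h1
  exact (MulEquiv.isCyclic (Sylow.equiv Q T)).2 h2

/-- Brauer-Suzuki for Sylow 2-subgroups generalised quaternion of order at least 16. -/
theorem brauer_suzuki (e : (S : Subgroup G) ≃* QuaternionGroup (2 ^ (n + 2)))
    (hO : ∀ N : Subgroup G, N.Normal → Odd (Nat.card N) → N = ⊥) :
    Nat.card (Subgroup.center G) = 2 := by
  classical
  haveI : Fact (Nat.Prime 2) := ⟨Nat.prime_two⟩
  set L := Subgroup.closure {g : G | orderOf g = 2} with hL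
  haveI hn : L.Normal := normal_closure_orderOf_two
  obtain ⟨T, hT⟩ := H41.exists_sylow_map_eq_inf S L
  have hcyc : IsCyclic (T : Subgroup L) := invol_closure_sylow_cyclic S n e T
  have hS2 : 2 ∣ Nat.card G := by
    refine dvd_trans ?_ (card_subgroup_dvd_card (S : Subgroup G))
    haveI : NeZero (2 ^ (n + 2)) := ⟨by positivity⟩
    rw [Nat.card_congr e.toEquiv, Nat.card_eq_fintype_card, QuaternionGroup.card]
    exact dvd_mul_of_dvd_left (by norm_num) _
  obtain ⟨u, hu⟩ := exists_prime_orderOf_dvd_card' (G := G) 2 hS2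
  have huL : u ∈ L := Subgroup.subset_closure hu
  have heven : 2 ∣ Nat.card L := hu ▸ L.orderOf_dvd_natCard huL
  have hcomp : Cfsg.HasNormalPComplement 2 L :=
    ⟨T, _, inferInstance, IsCyclic.isComplement' ((Nat.minFac_eq_two_iff _).2 heven) hcyc⟩
  set K := Cfsg.pResidual 2 L
  have hKbot : K.map L.subtype = ⊥ := by
    refine hO _ ⟨fun y hy g => ?_⟩ ?_
    · obtain ⟨z, hz, rfl⟩ := Subgroup.mem_map.1 hy
      refine ⟨⟨g * z * g⁻¹, hn.conj_mem _ z.2 g⟩, ?_, rfl⟩
      rw [SetLike.mem_coe] at *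
      rw [Fusion.mem_pResidual_iff_of_hasNormalPComplement hcomp] at hz ⊢
      have e1 : orderOf (g * (z : G) * g⁻¹) = orderOf (z : G) := MulEquiv.orderOf_eq (MulAut.conj g) (z : G)
      rwa [Subgroup.orderOf_mk, e1, Subgroup.orderOf_coe]
    · rw [Nat.card_congr (K.equivMapOfInjective L.subtype Subtype.val_injective).symm.toEquiv,
        Nat.odd_iff]
      have : ¬ 2 ∣ Nat.card K :=
        Fusion.not_dvd_card_of_isComplement' T (Fusion.isComplement'_pResidual hcomp T)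
      omega
  have hK : K = ⊥ := (Subgroup.map_eq_bot_iff_of_injective _ Subtype.val_injective).1 hKbot
  have hTtop : (T : Subgroup L) = ⊤ := by
    have := (Fusion.isComplement'_pResidual hcomp T).sup_eq_top
    rwa [show Cfsg.pResidual 2 L = ⊥ from hK, bot_sup_eq] at this
  have hLcyc : IsCyclic L := by
    haveI := hcyc
    haveI : IsCyclic (⊤ : Subgroup L) := hTtop ▸ hcyc
    exact (MulEquiv.isCyclic Subgroup.topEquiv).1 inferInstance
  have huniq : ∀ v : G, orderOf v = 2 → v = u := by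
    intro v hv
    have h := H41.eq_of_card_eq_of_le_cyclic hLcyc (zpowers_le.2 (Subgroup.subset_closure hv : v ∈ L))
      (zpowers_le.2 huL) (by rw [Nat.card_zpowers, Nat.card_zpowers, hv, hu])
    obtain ⟨k, hk⟩ := mem_zpowers_iff.1 (h ▸ mem_zpowers v)
    have hu2 : u ^ (2 : ℤ) = 1 := by rw [zpow_ofNat, orderOf_dvd_iff_pow_eq_one.1 hu.dvd]
    rcases Int.even_or_odd k with ⟨j, hj⟩ | ⟨j, hj⟩
    · rw [hj, ← two_mul, zpow_mul, hu2, one_zpow] at hk
      rw [← hk, orderOf_one] at hv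
      norm_num at hv
    · rw [hj, zpow_add, zpow_mul, hu2, one_zpow, one_mul, zpow_one] at hk
      exact hk.symm
  have huZ : u ∈ Subgroup.center G := Subgroup.mem_center_iff.2 fun g => by
    have := huniq (g * u * g⁻¹) ((MulEquiv.orderOf_eq (MulAut.conj g) u).trans hu)
    calc g * u = g * u * g⁻¹ * g := by group
      _ = u * g := by rw [this]
  -- central elements square to one
  have hsq : ∀ z ∈ Subgroup.center G, z * z = 1 := by
    intro z hz
    have hodd : ∀ Z : Subgroup G, Z ≤ Subgroup.center G → Odd (Nat.card Z) → Z = ⊥ := fun Z hZ ho =>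
      hO Z ⟨fun y hy g => by rw [Subgroup.mem_center_iff.1 (hZ hy) g, mul_inv_cancel_right]; exact hy⟩ ho
    have hp2 : IsPGroup 2 (zpowers z) := by
      obtain ⟨k, m, hm, hkm⟩ := Nat.exists_eq_pow_mul_and_not_dvd (orderOf_pos z).ne' 2 (by norm_num)
      have h1 : orderOf (z ^ 2 ^ k) = m := by
        rw [orderOf_pow_of_dvd (by positivity) (hkm ▸ dvd_mul_right _ _), hkm,
          Nat.mul_div_cancel_left _ (by positivity)]
      have hb := hodd (zpowers (z ^ 2 ^ k)) (zpowers_le.2 (pow_mem hz _))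
        (by rw [Nat.card_zpowers, h1, Nat.odd_iff]; omega)
      rw [Subgroup.zpowers_eq_bot] at hb
      rw [hb, orderOf_one] at h1
      exact IsPGroup.of_card (n := k) (by rw [Nat.card_zpowers, hkm, ← h1, mul_one])
    obtain ⟨P, hP⟩ := hp2.exists_le_sylow
    obtain ⟨g, hg⟩ := MulAction.exists_smul_eq G P S
    have hzS : z ∈ (S : Subgroup G) := by
      have : g * z * g⁻¹ ∈ (S : Subgroup G) := by
        rw [← hg, Sylow.coe_subgroup_smul]; exact ⟨_, hP (mem_zpowers _), rfl⟩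
      rwa [Subgroup.mem_center_iff.1 hz g, mul_inv_cancel_right] at this
    obtain ⟨c, d, x, hDd, hd, hc, hSC, hxS, hxC, -⟩ := quat_derived S n e rfl
    have hzc : z ∈ zpowers c := hSC ▸ (⟨hzS, Subgroup.mem_centralizer_iff.2 fun h _ =>
      Subgroup.mem_center_iff.1 hz h⟩ : z ∈ (S : Subgroup G) ⊓ _)
    obtain ⟨k, hk⟩ := mem_zpowers_iff.1 hzc
    have h1 : x * z * x⁻¹ = z⁻¹ := by
      rw [← hk, conj_zpow.symm, quat_conj_inv S n e rfl hSC hc hxS hxC, inv_zpow]
    rw [Subgroup.mem_center_iff.1 hz x, mul_inv_cancel_right] at h1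
    nth_rewrite 1 [h1]
    rw [inv_mul_cancel]
  have hcen : Subgroup.center G = zpowers u := by
    refine le_antisymm (fun z hz => ?_) (zpowers_le.2 huZ)
    by_cases h1 : z = 1
    · rw [h1]; exact one_mem _
    · rw [huniq z (orderOf_eq_prime (by rw [sq, hsq z hz]) h1)]; exact mem_zpowers u
  rw [hcen, Nat.card_zpowers, hu]

end Involutions

end Cfsg.Agent.H34
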