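import Cfsg.Agent.H81.GaloisSum
import Mathlib.NumberTheory.LegendreSymbol.AddCharacter

/-!
The values of a character on a subgroup of prime order, through the eigenvalue multiplicities.
-/

set_option autoImplicit false

open scoped ComplexConjugate

namespace Cfsg.Agent.H34.CyclicValues

/-- On `⟨u⟩` of prime order a character is given by multiplicities, invariant under the powers
to which `u` is conjugate. -/
theorem exists_mult {G : Type*} [Group G] [Finite G] {χ : G → ℂ} (hχ : Cfsg.IsCharacter G χ)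
    {u : G} {p : ℕ} [hp : Fact p.Prime] (hu : orderOf u = p) :
    ∃ m : ZMod p → ℕ,
      (∀ k : ℕ, ¬ p ∣ k → IsConj u (u ^ k) → ∀ j : ZMod p, m ((k : ZMod p) * j) = m j) ∧
      χ 1 = ((∑ j, m j : ℕ) : ℂ) ∧
      ((p * m 0 : ℕ) : ℂ) = ∑ i ∈ Finset.range p, χ (u ^ i) ∧
      ((p * ∑ j, m j ^ 2 : ℕ) : ℝ) = ∑ i ∈ Finset.range p, ‖χ (u ^ i)‖ ^ 2 := by
  classical
  obtain ⟨N, ζ, e, hζ, hval⟩ := H81.exists_exponents hχ u
  rw [hu] at hζ
  set ψ : AddChar (ZMod p) ℂ := AddChar.zmodChar p hζ.pow_eq_one with hψ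
  have hprim : ψ.IsPrimitive := AddChar.zmodChar_primitive_of_primitive_root p hζ
  have horth : ∀ b : ZMod p, ∑ x : ZMod p, ψ (x * b) = if b = 0 then (p : ℂ) else 0 := fun b => by
    rw [AddChar.sum_mulShift b hprim]
    split_ifs <;> simp
  have hneg : ∀ a : ZMod p, ψ (-a) = conj (ψ a) := fun a => by
    rw [AddChar.map_neg_eq_inv, hψ, AddChar.zmodChar_apply, Complex.inv_def]
    have h1 : ‖ζ ^ a.val‖ = 1 := by
      rw [norm_pow, hζ.norm'_eq_one hp.out.ne_zero, one_pow]
    rw [Complex.normSq_eq_norm_sq, h1]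
    simp
  set m : ZMod p → ℕ := fun j => (Finset.univ.filter fun l : Fin N => (e l : ZMod p) = j).card
    with hm
  let F : ZMod p → ℂ := fun i => χ (u ^ i.val)
  have hF : ∀ i, F i = ∑ j, (m j : ℂ) * ψ (i * j) := by
    intro i
    show χ (u ^ i.val) = _
    rw [hval, ← Finset.sum_fiberwise Finset.univ (fun l : Fin N => (e l : ZMod p))]
    refine Finset.sum_congr rfl fun j _ => ?_
    rw [Finset.sum_congr rfl (g := fun _ => ψ (i * j)) fun l hl => ?_, Finset.sum_const,
      nsmul_eq_mul]
    rw [← (Finset.mem_filter.1 hl).2, ← pow_mul,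
      show i * (e l : ZMod p) = ((i.val * e l : ℕ) : ZMod p) by simp, hψ, AddChar.zmodChar_apply']
  have hinv : ∀ j0, ∑ i, F i * ψ (-(i * j0)) = (p : ℂ) * m j0 := by
    intro j0
    calc ∑ i, F i * ψ (-(i * j0)) = ∑ i, ∑ j, (m j : ℂ) * ψ (i * (j - j0)) := by
          refine Finset.sum_congr rfl fun i _ => ?_
          rw [hF, Finset.sum_mul]
          refine Finset.sum_congr rfl fun j _ => ?_
          rw [mul_assoc, ← AddChar.map_add_eq_mul, mul_sub, sub_eq_add_neg]
      _ = _ := by
          rw [Finset.sum_comm]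
          simp only [← Finset.mul_sum, horth, sub_eq_zero, mul_ite, mul_zero, Finset.sum_ite_eq',
            Finset.mem_univ, if_true]
          ring
  have hrange : ∀ {M : Type} [AddCommMonoid M] (f : ℕ → M),
      ∑ i ∈ Finset.range p, f i = ∑ i : ZMod p, f i.val := by
    intro M _ f
    refine Finset.sum_nbij' (fun i : ℕ => (i : ZMod p)) ZMod.val (fun _ _ => Finset.mem_univ _)
      (fun a _ => Finset.mem_range.2 (ZMod.val_lt a)) (fun i hi => ZMod.val_cast_of_lt
        (Finset.mem_range.1 hi)) (fun a _ => ZMod.natCast_zmod_val a) fun i hi => ?_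
    rw [ZMod.val_cast_of_lt (Finset.mem_range.1 hi)]
  refine ⟨m, fun k hk hc j0 => ?_, ?_, ?_, ?_⟩
  · have hk0 : (k : ZMod p) ≠ 0 := fun h => hk ((ZMod.natCast_eq_zero_iff _ _).1 h)
    obtain ⟨c, hc⟩ := isConj_iff.1 hc
    have hFk : ∀ i, F ((k : ZMod p) * i) = F i := fun i => by
      show χ (u ^ ((k : ZMod p) * i).val) = χ (u ^ i.val)
      have h1 : u ^ ((k : ZMod p) * i).val = c * u ^ i.val * c⁻¹ := by
        rw [← conj_pow, hc, ← pow_mul, pow_eq_pow_iff_modEq, hu, ← ZMod.natCast_eq_natCast_iff,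
          ZMod.natCast_zmod_val, Nat.cast_mul, ZMod.natCast_zmod_val]
      rw [h1]
      exact CharBasic.IsChar.isClassFunction hχ _ _
    have h2 : (p : ℂ) * m ((k : ZMod p) * j0) = (p : ℂ) * m j0 := by
      rw [← hinv, ← hinv]
      refine Fintype.sum_bijective ((k : ZMod p) * ·) (mulLeft_bijective₀ _ hk0) _ _ fun i => ?_
      rw [hFk, show ((k : ZMod p) * i) * j0 = i * ((k : ZMod p) * j0) by ring]
    exact_mod_cast mul_left_cancel₀ (Nat.cast_ne_zero.2 hp.out.ne_zero) h2
  · have h := hF 0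
    simpa [F] using h
  · rw [hrange]
    have h := hinv 0
    simp only [mul_zero, neg_zero, AddChar.map_zero_eq_one, mul_one] at h
    push_cast
    exact h.symm
  · rw [hrange]
    have h : ∑ i, F i * conj (F i) = ((p * ∑ j, m j ^ 2 : ℕ) : ℂ) := by
      calc ∑ i, F i * conj (F i) = ∑ i, ∑ j, (m j : ℂ) * (F i * ψ (-(i * j))) := by
            refine Finset.sum_congr rfl fun i _ => ?_
            conv_lhs => rhs; rw [hF, map_sum]
            rw [Finset.mul_sum]
            refine Finset.sum_congr rfl fun j _ => ?_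
            rw [map_mul, Complex.conj_natCast, hneg]
            ring
        _ = _ := by
            rw [Finset.sum_comm]
            simp only [← Finset.mul_sum, hinv]
            push_cast
            rw [Finset.mul_sum]
            exact Finset.sum_congr rfl fun j _ => by ring
    simp only [Complex.mul_conj'] at h
    exact_mod_cast h.symm

end Cfsg.Agent.H34.CyclicValues
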