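import Mathlib
import Cfsg.Agent.CharBasic.Kernel
import Cfsg.Agent.CharBasic.Complete
import Cfsg.Agent.CharInduce.Ops

/-!
Characters of a group `N` with a normal subgroup `K` such that no element outside `K` commutes
with a nontrivial element of `K`: the characters not trivial on `K` vanish off `K`, and class
functions whose coefficients on them are proportional to the degree are constant on `K` minus 1.
-/

set_option autoImplicit false

namespace Cfsg.Agent.H34

open scoped ComplexConjugate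
open Cfsg.Agent.CharBasic Cfsg.Agent.CharInduce

universe u

variable {N : Type u} [Group N] [Fintype N]

/-- no element outside `K` commutes with a nontrivial element of `K` -/
def FreeOutside (K : Subgroup N) : Prop := ∀ x, x ∉ K → ∀ k ∈ K, x * k = k * x → k = 1

/-- `χ` is not constant on `K` -/
def NotTrivialOn (K : Subgroup N) (χ : N → ℂ) : Prop := ∃ k ∈ K, χ k ≠ χ 1

variable {K : Subgroup N} [K.Normal]

theorem vanish_off (hfree : FreeOutside K) {χ : N → ℂ} (hχ : Cfsg.IsIrrCharacter N χ)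
    (hK : NotTrivialOn K χ) {x : N} (hx : x ∉ K) : χ x = 0 := by
  classical
  set q := QuotientGroup.mk' K
  have hsurj := QuotientGroup.mk'_surjective K
  let infl : Cfsg.IrrCharacter (N ⧸ K) → Cfsg.IrrCharacter N := fun η =>
    ⟨fun y => (η : N ⧸ K → ℂ) (q y), CharInduce.IsIrr.comp η.2 q hsurj⟩
  have hinj : Function.Injective infl := fun a b h => Subtype.ext (funext fun z => by
    obtain ⟨y, rfl⟩ := hsurj z
    exact congrFun (congrArg Subtype.val h) y)
  let f : Cfsg.IrrCharacter N → ℝ := fun ψ => ‖(ψ : N → ℂ) x‖ ^ 2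
  have htot : ∑ ψ : Cfsg.IrrCharacter N, f ψ =
      (Nat.card (Subgroup.centralizer ({x} : Set N)) : ℝ) := by
    have e := second_orthogonality_self (G := N) x
    simp only [Complex.mul_conj'] at e
    exact_mod_cast e
  have hquot : ∑ η : Cfsg.IrrCharacter (N ⧸ K), f (infl η) =
      (Nat.card (Subgroup.centralizer ({q x} : Set (N ⧸ K))) : ℝ) := by
    have e := second_orthogonality_self (G := N ⧸ K) (q x)
    simp only [Complex.mul_conj'] at e
    exact_mod_cast e
  have hle : Nat.card (Subgroup.centralizer ({x} : Set N)) ≤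
      Nat.card (Subgroup.centralizer ({q x} : Set (N ⧸ K))) := by
    refine Nat.card_le_card_of_injective (fun y => (⟨q y.1, ?_⟩ : Subgroup.centralizer ({q x} : Set (N ⧸ K)))) ?_
    · rw [Subgroup.mem_centralizer_singleton_iff, ← map_mul, ← map_mul,
        Subgroup.mem_centralizer_singleton_iff.1 y.2]
    · intro a b h
      have h' : q (a.1 : N) = q b.1 := congrArg Subtype.val h
      have hk : (a.1 : N)⁻¹ * b.1 ∈ K := QuotientGroup.eq.1 h'
      have hc : Commute ((a.1 : N)⁻¹ * b.1) x :=
        (Commute.inv_left (Subgroup.mem_centralizer_singleton_iff.1 a.2)).mul_left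
          (Subgroup.mem_centralizer_singleton_iff.1 b.2)
      exact Subtype.ext (inv_mul_eq_one.1 (hfree x hx _ hk hc.symm.eq))
  let s : Finset (Cfsg.IrrCharacter N) := Finset.univ.image infl
  have hs : ∑ ψ ∈ s, f ψ = ∑ η : Cfsg.IrrCharacter (N ⧸ K), f (infl η) :=
    Finset.sum_image (hinj.injOn)
  have hχs : (⟨χ, hχ⟩ : Cfsg.IrrCharacter N) ∉ s := by
    intro h
    obtain ⟨η, -, hη⟩ := Finset.mem_image.1 h
    obtain ⟨k, hk, hne⟩ := hK
    apply hne
    have e : ∀ y, χ y = (η : N ⧸ K → ℂ) (q y) := fun y =>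
      (congrFun (congrArg Subtype.val hη) y).symm
    rw [e, e, map_one, show q k = 1 from (QuotientGroup.eq_one_iff k).2 hk]
  have hrest : f ⟨χ, hχ⟩ + ∑ ψ ∈ s, f ψ ≤ ∑ ψ : Cfsg.IrrCharacter N, f ψ := by
    rw [← Finset.sum_insert hχs]
    exact Finset.sum_le_sum_of_subset_of_nonneg (Finset.subset_univ _) fun ψ _ _ => sq_nonneg _
  have h0 : f ⟨χ, hχ⟩ = 0 := by
    refine le_antisymm ?_ (sq_nonneg _)
    have : (Nat.card (Subgroup.centralizer ({x} : Set N)) : ℝ) ≤
        (Nat.card (Subgroup.centralizer ({q x} : Set (N ⧸ K))) : ℝ) := by exact_mod_cast hle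
    linarith
  simpa [f] using h0

theorem sum_eq_zero_of_notTrivial {χ : N → ℂ} (hχ : Cfsg.IsIrrCharacter N χ)
    (hK : NotTrivialOn K χ) : ∑ y : N, χ y = 0 := by
  classical
  have h := classInner_irr hχ (isIrrCharacter_one (G := N))
  have hne : χ ≠ fun _ => 1 := by
    rintro rfl
    obtain ⟨k, -, hk⟩ := hK
    exact hk rfl
  rw [if_neg hne, classInner_def] at h
  simpa [Nat.card_pos.ne'] using h

theorem apply_eq_one_of_trivial {χ : Cfsg.IrrCharacter N} (h : ¬ NotTrivialOn K (χ : N → ℂ))
    {k : N} (hk : k ∈ K) : (χ : N → ℂ) k = (χ : N → ℂ) 1 := by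
  by_contra hc
  exact h ⟨k, hk, hc⟩

/-- the degrees of the characters trivial on `K` have squares summing to the index -/
theorem sum_sq_trivial (hfree : FreeOutside K) [DecidablePred fun χ : Cfsg.IrrCharacter N =>
      NotTrivialOn K (χ : N → ℂ)] :
    ∑ χ ∈ Finset.univ.filter (fun χ : Cfsg.IrrCharacter N => ¬ NotTrivialOn K (χ : N → ℂ)),
      (χ : N → ℂ) 1 ^ 2 = (K.index : ℂ) := by
  classical
  let g : N → ℂ := fun y => if y ∈ K then (K.index : ℂ) else 0
  have hg : Cfsg.IsClassFunction N g := fun a b => by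
    simp only [g]
    have : b * a * b⁻¹ ∈ K ↔ a ∈ K := ⟨fun h => by
      simpa [mul_assoc] using (inferInstance : K.Normal).conj_mem _ h b⁻¹,
      fun h => (inferInstance : K.Normal).conj_mem _ h b⟩
    simp only [this]
  have hcoef : ∀ χ : Cfsg.IrrCharacter N, Cfsg.classInner g (χ : N → ℂ) =
      if NotTrivialOn K (χ : N → ℂ) then 0 else (χ : N → ℂ) 1 := by
    intro χ
    simp only [classInner_def, g, ite_mul, zero_mul]
    rw [← Finset.sum_filter]
    split_ifs with h
    · have h0 : ∑ y ∈ Finset.univ.filter (fun y => y ∈ K), (χ : N → ℂ) y = 0 := by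
        rw [Finset.sum_filter]
        refine (Finset.sum_congr rfl fun y _ => ?_).trans (sum_eq_zero_of_notTrivial χ.2 h)
        split_ifs with hy
        · rfl
        · rw [vanish_off hfree χ.2 h hy]
      rw [← Finset.mul_sum, ← map_sum, h0, map_zero, mul_zero, mul_zero]
    · obtain ⟨n, -, hn⟩ := IsIrr.exists_degree χ.2
      have : ∀ y ∈ Finset.univ.filter (fun y => y ∈ K),
          (K.index : ℂ) * conj ((χ : N → ℂ) y) = (K.index : ℂ) * (χ : N → ℂ) 1 := fun y hy => by
        rw [apply_eq_one_of_trivial h (Finset.mem_filter.1 hy).2, hn, Complex.conj_natCast]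
      rw [Finset.sum_congr rfl this, Finset.sum_const, ← Fintype.card_subtype, nsmul_eq_mul,
        ← Nat.card_eq_fintype_card, ← mul_assoc (Nat.card {y // y ∈ K} : ℂ), ← Nat.cast_mul,
        show Nat.card {y // y ∈ K} * K.index = Nat.card N from K.card_mul_index, ← mul_assoc,
        inv_mul_cancel₀ (Nat.cast_ne_zero.2 Nat.card_pos.ne'), one_mul]
  have h1 := congrFun (classFunction_expansion hg) 1
  simp only [hcoef, Finset.sum_apply, Pi.smul_apply, smul_eq_mul, ite_mul, zero_mul] at h1
  rw [Finset.sum_filter]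
  rw [show g 1 = (K.index : ℂ) from if_pos K.one_mem] at h1
  rw [h1]
  refine Finset.sum_congr rfl fun χ _ => ?_
  split_ifs <;> ring

/-- class functions with coefficients proportional to degrees are constant on `K` minus 1 -/
theorem const_on_kernel (hfree : FreeOutside K) {f : N → ℂ} (hf : Cfsg.IsClassFunction N f)
    {μ : ℂ} (hμ : ∀ χ : Cfsg.IrrCharacter N, NotTrivialOn K (χ : N → ℂ) →
      Cfsg.classInner f (χ : N → ℂ) = μ * (χ : N → ℂ) 1) :
    ∃ c : ℂ, ∀ k ∈ K, k ≠ 1 → f k = c := by
  classical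
  refine ⟨∑ χ : Cfsg.IrrCharacter N, if NotTrivialOn K (χ : N → ℂ) then 0 else
    (Cfsg.classInner f (χ : N → ℂ) - μ * (χ : N → ℂ) 1) * (χ : N → ℂ) 1, fun k hk hk1 => ?_⟩
  have h0 : ∑ χ : Cfsg.IrrCharacter N, μ * ((χ : N → ℂ) 1 * (χ : N → ℂ) k) = 0 := by
    rw [← Finset.mul_sum, sum_degree_mul_apply k, if_neg hk1, mul_zero]
  have h1 := congrFun (classFunction_expansion hf) k
  simp only [Finset.sum_apply, Pi.smul_apply, smul_eq_mul] at h1
  have h2 : f k = ∑ χ : Cfsg.IrrCharacter N, (Cfsg.classInner f (χ : N → ℂ) * (χ : N → ℂ) k -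
      μ * ((χ : N → ℂ) 1 * (χ : N → ℂ) k)) := by
    rw [Finset.sum_sub_distrib, h0, sub_zero, h1]
  rw [h2]
  refine Finset.sum_congr rfl fun χ _ => ?_
  split_ifs with h
  · rw [hμ χ h]; ring
  · rw [apply_eq_one_of_trivial h hk]; ring

/-- two different characters cannot both fail to be trivial on `K` if one is constant on `K` minus 1 -/
theorem not_constant (hfree : FreeOutside K) {χ ξ : N → ℂ} (hχ : Cfsg.IsIrrCharacter N χ)
    (hξ : Cfsg.IsIrrCharacter N ξ) (hχK : NotTrivialOn K χ) (hξK : NotTrivialOn K ξ) (hne : χ ≠ ξ)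
    {v : ℂ} (hv : ∀ k ∈ K, k ≠ 1 → χ k = v) : False := by
  classical
  have e : ∀ y : N, χ y = (if y ∈ K then v else 0) + if y = 1 then χ 1 - v else 0 := by
    intro y
    by_cases hy : y = 1
    · subst hy; simp [K.one_mem]
    · by_cases hyK : y ∈ K
      · simp [hy, hyK, hv y hyK hy]
      · simp [hy, hyK, vanish_off hfree hχ hχK hyK]
  have hsum : ∀ ψ : N → ℂ, Cfsg.IsIrrCharacter N ψ → NotTrivialOn K ψ →
      ∑ y : N, χ y * conj (ψ y) = (χ 1 - v) * conj (ψ 1) := by
    intro ψ hψ hψK
    have h0 : ∑ y : N, (if y ∈ K then v else 0) * conj (ψ y) = 0 := by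
      have : ∀ y : N, (if y ∈ K then v else 0) * conj (ψ y) = v * conj (ψ y) := by
        intro y
        split_ifs with hy
        · rfl
        · rw [vanish_off hfree hψ hψK hy, map_zero, mul_zero, mul_zero]
      rw [Finset.sum_congr rfl fun y _ => this y, ← Finset.mul_sum, ← map_sum,
        sum_eq_zero_of_notTrivial hψ hψK, map_zero, mul_zero]
    rw [Finset.sum_congr rfl fun y _ => show χ y * conj (ψ y) = _ by rw [e y, add_mul],
      Finset.sum_add_distrib, h0, zero_add]
    rw [Finset.sum_eq_single 1]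
    · rw [if_pos rfl]
    · intro y _ hy; rw [if_neg hy, zero_mul]
    · intro h; exact absurd (Finset.mem_univ 1) h
  have h1 := classInner_irr hχ hξ
  have h2 := classInner_irr hχ hχ
  rw [if_neg hne, classInner_def, hsum ξ hξ hξK, mul_eq_zero] at h1
  rw [if_pos rfl, classInner_def, hsum χ hχ hχK] at h2
  rcases h1 with h1 | h1
  · exact absurd h1 (inv_ne_zero (Nat.cast_ne_zero.2 Nat.card_pos.ne'))
  · rcases mul_eq_zero.1 h1 with h | h
    · rw [h, zero_mul, mul_zero] at h2; exact zero_ne_one h2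
    · exact IsIrr.one_ne_zero hξ (by simpa using h)

end Cfsg.Agent.H34
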