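import Mathlib
import Cfsg.Prelude.Def_Blocks
import Cfsg.Agent.H34.RelativeM
import Cfsg.Agent.CharInduce.Gallagher
import Cfsg.Agent.H77.FittingClass
import Cfsg.Agent.CharBasic.Virtual

/-!
Broline-Garrison: an irreducible character whose kernel is not inside the Fitting subgroup is
dominated by one of larger degree and smaller kernel; hence nilpotent length ≤ number of degrees.
-/

set_option autoImplicit false

namespace Cfsg.Agent.H34

open scoped ComplexConjugate
open Cfsg.Agent.CharBasic Cfsg.Agent.CharInduce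

universe u

variable {G : Type u} [Group G]

theorem eq_natCast_of_re_eq {z : ℂ} {n : ℕ} (h1 : ‖z‖ ≤ n) (h2 : z.re = n) : z = (n : ℂ) := by
  refine Complex.ext (by simpa using h2) ?_
  have e1 : Complex.normSq z = ‖z‖ ^ 2 := Complex.normSq_eq_norm_sq z
  rw [Complex.normSq_apply] at e1
  have e2 : ‖z‖ ^ 2 ≤ (n : ℝ) ^ 2 := pow_le_pow_left₀ (norm_nonneg z) h1 2
  have e3 : z.im * z.im ≤ 0 := by rw [h2] at e1; nlinarith
  have e4 : 0 ≤ z.im * z.im := mul_self_nonneg _
  simpa using (mul_self_eq_zero.1 (le_antisymm e3 e4))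

theorem charDegree_eq {χ : G → ℂ} {n : ℕ} (h : χ 1 = n) : Cfsg.charDegree χ = n := by
  simp [Cfsg.charDegree, h]

/-- restriction to a subgroup covering `G` modulo the kernel stays irreducible -/
theorem res_irr_of_sup_eq_top [Fintype G] {χ : G → ℂ} (hχ : Cfsg.IsIrrCharacter G χ)
    (L M : Subgroup G) [L.Normal] (hL : ∀ l ∈ L, χ l = χ 1) (h : L ⊔ M = ⊤) :
    Cfsg.IsIrrCharacter M (fun x : M => χ x) := by
  obtain ⟨ψ, -, hψ, hψi⟩ := CharInduce.IsChar.exists_deflate (IsIrr.isCharacter hχ) L hL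
  have hsurj : Function.Surjective ((QuotientGroup.mk' L).comp M.subtype) := by
    intro q
    obtain ⟨g, rfl⟩ := QuotientGroup.mk'_surjective L q
    have hg : g ∈ L ⊔ M := by rw [h]; exact Subgroup.mem_top g
    obtain ⟨l, hl, m, hm, rfl⟩ := Subgroup.mem_sup_of_normal_left.1 hg
    refine ⟨⟨m, hm⟩, ?_⟩
    rw [map_mul, show QuotientGroup.mk' L l = 1 from (QuotientGroup.eq_one_iff l).2 hl, one_mul]
    rfl
  have e : (fun x : M => χ x) = fun x => ψ (((QuotientGroup.mk' L).comp M.subtype) x) :=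
    funext fun x => hψ (x : G)
  rw [e]
  exact CharInduce.IsIrr.comp (hψi hχ) _ hsurj

/-- the central step -/
theorem mem_normalCore_of_apply_ne_zero [Fintype G] {χ : G → ℂ} (hχ : Cfsg.IsIrrCharacter G χ)
    (K M : Subgroup G) [K.Normal] (hK : ∀ g, g ∈ K ↔ χ g = χ 1) (hM : IsCoatom M)
    (hKM : K ⊔ M = ⊤)
    (hno : ¬ ∃ ψ : Cfsg.IrrCharacter G, Cfsg.charDegree χ < Cfsg.charDegree (ψ : G → ℂ) ∧
      ∃ L : Subgroup G, (∀ g, g ∈ L ↔ (ψ : G → ℂ) g = (ψ : G → ℂ) 1) ∧ L < K)
    {x : G} (hx : x ∈ M) (hne : χ x ≠ 0) : x ∈ M.normalCore := by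
  classical
  haveI : Fintype M := Fintype.ofFinite _
  obtain ⟨d, -, hd⟩ := IsIrr.exists_degree hχ
  have hMirr := res_irr_of_sup_eq_top hχ K M (fun l hl => (hK l).1 hl) hKM
  set χM : M → ℂ := fun y => χ y with hχM
  obtain ⟨m, hm, hθ⟩ := IsChar.exists_nat_mult (CharInduce.IsChar.ind M (IsIrr.isCharacter hMirr))
  have key : ∀ ψ : Cfsg.IrrCharacter G, m ψ ≠ 0 → ∀ y : M, (ψ : G → ℂ) y = χ y := by
    intro ψ hψ0
    have hψ := ψ.2
    have h1 : Cfsg.classInner χM (fun y : M => (ψ : G → ℂ) y) ≠ 0 := by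
      rw [← classInner_indFun_left M χM _ (IsIrr.isClassFunction hψ), hm ψ]
      exact_mod_cast hψ0
    have h2 : Cfsg.classInner (fun y : M => (ψ : G → ℂ) y) χM ≠ 0 := by
      intro h
      apply h1
      rw [← classInner_conj_symm, h, map_zero]
    obtain ⟨r, hr, hre⟩ := IsChar.exists_eq_add
      (CharInduce.IsChar.res (IsIrr.isCharacter hψ) M) hMirr h2
    obtain ⟨e, -, he⟩ := IsIrr.exists_degree hψ
    obtain ⟨k, hk⟩ := IsChar.exists_degree hr
    have hre1 := congrFun hre 1
    have hek : e = d + k := by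
      simp only [Pi.add_apply, hχM, OneMemClass.coe_one, he, hd, hk] at hre1
      exact_mod_cast hre1
    rcases Nat.eq_zero_or_pos k with hk0 | hkpos
    · subst hk0
      intro y
      have := congrFun hre y
      rw [CharInduce.IsChar.eq_zero_of_one_eq_zero hr (by rw [hk, Nat.cast_zero])] at this
      simpa using this
    exfalso
    obtain ⟨L, hLn, hL, -⟩ := CharBasic.IsChar.exists_kernel (IsIrr.isCharacter hψ)
    haveI := hLn
    by_cases hLM : L ⊔ M = ⊤
    · have hirr := res_irr_of_sup_eq_top hψ L M (fun l hl => (hL l).1 hl) hLM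
      rw [classInner_irr hirr hMirr] at h2
      by_cases he' : (fun y : M => (ψ : G → ℂ) y) = χM
      · have h3 := congrFun he' 1
        simp only [hχM, OneMemClass.coe_one, he, hd, Nat.cast_inj] at h3
        omega
      · rw [if_neg he'] at h2
        exact h2 rfl
    have hLle : L ≤ M := by
      have : L ⊔ M = M := ((hM.le_iff.1 le_sup_right).resolve_left hLM)
      exact le_sup_left.trans this.le
    apply hno
    refine ⟨ψ, ?_, L, hL, lt_of_le_of_ne ?_ ?_⟩
    · rw [charDegree_eq hd, charDegree_eq he]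
      omega
    · intro l hl
      rw [hK]
      have h3 := congrFun hre ⟨l, hLle hl⟩
      simp only [Pi.add_apply, hχM, (hL l).1 hl, he] at h3
      have n1 : ‖χ l‖ ≤ d := by
        simpa [hd] using CharBasic.IsChar.norm_le (IsIrr.isCharacter hχ) l
      have n2 : ‖r ⟨l, hLle hl⟩‖ ≤ k := by
        simpa [hk] using CharBasic.IsChar.norm_le hr ⟨l, hLle hl⟩
      have h4 := congrArg Complex.re h3
      simp only [Complex.natCast_re, Complex.add_re, hek, Nat.cast_add] at h4
      have r1 := (Complex.re_le_norm (χ l)).trans n1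
      have r2 := (Complex.re_le_norm (r ⟨l, hLle hl⟩)).trans n2
      rw [hd]
      exact eq_natCast_of_re_eq n1 (by linarith)
    · intro h
      subst h
      exact hM.1 (hKM.symm.trans (sup_eq_right.2 hLle)).symm
  -- the values of the induced character on `M`
  set S : ℂ := ∑ ψ : Cfsg.IrrCharacter G, (m ψ : ℂ) with hS
  have hval : ∀ y : M, Cfsg.indFun M χM (y : G) = S * χ y := by
    intro y
    rw [hθ, Finset.sum_apply, hS, Finset.sum_mul]
    refine Finset.sum_congr rfl fun ψ _ => ?_
    rcases Nat.eq_zero_or_pos (m ψ) with h | h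
    · simp [h]
    · simp [key ψ h.ne' y]
  have hSi : S = (M.index : ℂ) := by
    have h := hval 1
    rw [OneMemClass.coe_one, CharInduce.indFun_one] at h
    exact (mul_right_cancel₀ (IsIrr.one_ne_zero hχ) (by simpa [hχM] using h)).symm
  have h5 := hval ⟨x, hx⟩
  rw [hSi, CharInduce.indFun_apply] at h5
  have hcl := IsIrr.isClassFunction hχ
  have hterm : ∀ g : G, Cfsg.extendByZero M χM (g⁻¹ * x * g) =
      if g⁻¹ * x * g ∈ M then χ x else 0 := by
    intro g
    by_cases hg : g⁻¹ * x * g ∈ M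
    · rw [if_pos hg, CharInduce.extendByZero_of_mem _ hg]
      show χ (g⁻¹ * x * g) = χ x
      conv_rhs => rw [← hcl x g⁻¹]
      group
    · rw [if_neg hg, CharInduce.extendByZero_of_not_mem _ hg]
  simp only [hterm, ← Finset.sum_filter, Finset.sum_const, nsmul_eq_mul] at h5
  have hM0 := card_ne_zero_complex M
  have h6 : ((Finset.univ.filter fun g : G => g⁻¹ * x * g ∈ M).card : ℂ) = (Nat.card G : ℂ) := by
    rw [← M.card_mul_index, Nat.cast_mul]
    field_simp at h5
    linear_combination h5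
  have h7 : (Finset.univ.filter fun g : G => g⁻¹ * x * g ∈ M) = Finset.univ :=
    Finset.eq_univ_of_card _ (by rw [← Nat.card_eq_fintype_card]; exact_mod_cast h6)
  intro g
  have h8 := (Finset.mem_filter.1 (h7.ge (Finset.mem_univ g⁻¹))).2
  simpa using h8

/-- a normal subgroup inside `M ≥ N(Q)` cannot contain the Sylow subgroup `Q` of `U` -/
theorem not_le_of_sylow [Finite G] {p : ℕ} [Fact p.Prime] {U : Subgroup G} (P : Sylow p U)
    {M D : Subgroup G} [D.Normal] (hM : M ≠ ⊤)
    (hN : Subgroup.normalizer (((P : Subgroup U).map U.subtype : Subgroup G) : Set G) ≤ M)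
    (hDU : D ≤ U) (hDM : D ≤ M) : ¬ (P : Subgroup U).map U.subtype ≤ D := by
  intro hQ
  set Q := (P : Subgroup U).map U.subtype with hQdef
  have hQp : IsPGroup p Q := P.isPGroup'.map _
  let R : Sylow p D :=
    { toSubgroup := Q.subgroupOf D
      isPGroup' := hQp.comap_subtype
      is_maximal' := by
        intro T hT hle
        refine le_antisymm ?_ hle
        intro y hy
        show (y : G) ∈ Q
        have hT' : IsPGroup p ((T.map D.subtype).subgroupOf U) := (hT.map _).comap_subtype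
        have h1 : (P : Subgroup U) ≤ (T.map D.subtype).subgroupOf U := by
          intro z hz
          have hzQ : (z : G) ∈ Q := ⟨z, hz, rfl⟩
          exact ⟨⟨z, hQ hzQ⟩, hle hzQ, rfl⟩
        have h2 := P.is_maximal' hT' h1
        refine ⟨⟨(y : G), hDU y.2⟩, ?_, rfl⟩
        show (⟨(y : G), hDU y.2⟩ : U) ∈ (P : Subgroup U)
        rw [← h2]
        exact ⟨y, hy, rfl⟩ }
  have hF := Sylow.normalizer_sup_eq_top R
  have hmap : (R : Subgroup D).map D.subtype = Q := by
    show (Q.subgroupOf D).map D.subtype = Q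
    rw [Subgroup.subgroupOf_map_subtype, inf_eq_left.2 hQ]
  rw [hmap] at hF
  exact hM (top_le_iff.1 (hF ▸ sup_le hN hDM))

theorem exists_sylow_not_normal [Finite G] (U : Subgroup G) [U.Normal]
    (hU : ¬ U ≤ Cfsg.fittingSubgroup G) :
    ∃ (p : ℕ) (_ : Fact p.Prime) (P : Sylow p U), ¬ ((P : Subgroup U).map U.subtype).Normal := by
  by_contra hcon
  push Not at hcon
  apply hU
  refine le_sSup ⟨inferInstance, ?_⟩
  refine ((Group.isNilpotent_of_finite_tfae (G := U)).out 0 3).mpr ?_
  intro p hp P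
  have h := (hcon p hp P).comap U.subtype
  rwa [Subgroup.comap_map_eq_self_of_injective Subtype.val_injective] at h

theorem exists_coatom_normalizer [Finite G] {Q : Subgroup G} (hQ : ¬ Q.Normal) :
    ∃ M : Subgroup G, IsCoatom M ∧ Subgroup.normalizer (Q : Set G) ≤ M := by
  rcases eq_top_or_exists_le_coatom (Subgroup.normalizer (Q : Set G)) with h | h
  · exact absurd (Subgroup.normalizer_eq_top_iff.1 h) hQ
  · exact h

/-- Broline-Garrison -/
theorem exists_larger_degree [Fintype G] {χ : G → ℂ} (hχ : Cfsg.IsIrrCharacter G χ) (K : Subgroup G)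
    [K.Normal] (hK : ∀ g, g ∈ K ↔ χ g = χ 1)
    (h : ¬ K ≤ Cfsg.fittingSubgroup G ∨
      (K = Cfsg.fittingSubgroup G ∧ Group.IsSolvable (G ⧸ K) ∧ K ≠ ⊤)) :
    ∃ ψ : Cfsg.IrrCharacter G, Cfsg.charDegree χ < Cfsg.charDegree (ψ : G → ℂ) ∧
      ∃ L : Subgroup G, (∀ g, g ∈ L ↔ (ψ : G → ℂ) g = (ψ : G → ℂ) 1) ∧ L < K := by
  classical
  by_contra hno
  rcases h with h | ⟨hKF, hsolv, hKtop⟩
  · obtain ⟨p, hp, P, hP⟩ := exists_sylow_not_normal K h
    obtain ⟨M, hM, hN⟩ := exists_coatom_normalizer hP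
    have hKM : K ⊔ M = ⊤ := by
      rw [eq_top_iff, ← Sylow.normalizer_sup_eq_top P, sup_comm]
      exact sup_le_sup_left hN K
    refine not_le_of_sylow P (D := K ⊓ M.normalCore) hM.1 hN inf_le_left
      (inf_le_right.trans M.normalCore_le) ?_
    intro x hx
    have hxK : x ∈ K := Subgroup.map_subtype_le _ hx
    refine ⟨hxK, mem_normalCore_of_apply_ne_zero hχ K M hK hM hKM hno
      (hN (Subgroup.le_normalizer hx)) ?_⟩
    rw [(hK x).1 hxK]
    exact IsIrr.one_ne_zero hχ
  · haveI := hsolv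
    obtain ⟨U, hU⟩ := (Set.toFinite {U : Subgroup G | U.Normal ∧ K < U}).exists_minimal
      ⟨⊤, inferInstance, lt_top_iff_ne_top.2 hKtop⟩
    obtain ⟨hUn, hKU⟩ := hU.prop
    haveI := hUn
    obtain ⟨L, hLn, hKL, hLU, -, hab⟩ := exists_chief_below K hUn hKU
    have hLK : L = K := by
      rcases hKL.lt_or_eq with h | h
      · exact absurd (hU.le_of_le ⟨hLn, h⟩ hLU.le) hLU.not_ge
      · exact h.symm
    subst hLK
    have hUF : ¬ U ≤ Cfsg.fittingSubgroup G := by rw [← hKF]; exact hKU.not_ge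
    obtain ⟨p, hp, P, hP⟩ := exists_sylow_not_normal U hUF
    set Q := (P : Subgroup U).map U.subtype with hQdef
    have hQU : Q ≤ U := Subgroup.map_subtype_le _
    have hQp : IsPGroup p Q := P.isPGroup'.map _
    haveI hT : (L ⊔ Q).Normal := by
      have hQconj : ∀ g : G, ∀ q ∈ Q, g * q * g⁻¹ ∈ L ⊔ Q := by
        intro g q hq
        have hR : IsPGroup p ((Q.map (MulAut.conj g).toMonoidHom).subgroupOf U) :=
          (hQp.map _).comap_subtype
        obtain ⟨P', hP'⟩ := hR.exists_le_sylow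
        obtain ⟨u, rfl⟩ := MulAction.exists_smul_eq U P P'
        have hgU : g * q * g⁻¹ ∈ U := hUn.conj_mem q (hQU hq) g
        have h1 : (⟨g * q * g⁻¹, hgU⟩ : U) ∈ (u • P : Sylow p U) :=
          hP' ⟨q, hq, rfl⟩
        change _ ∈ ((u • P : Sylow p U) : Subgroup U) at h1
        rw [Sylow.coe_subgroup_smul, Subgroup.mem_pointwise_smul_iff_inv_smul_mem,
          ← map_inv, MulAut.smul_def, MulAut.conj_apply] at h1
        have h2 : ((u⁻¹ * ⟨g * q * g⁻¹, hgU⟩ * u⁻¹⁻¹ : U) : G) ∈ Q := ⟨_, h1, rfl⟩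
        simp only [Subgroup.coe_mul, InvMemClass.coe_inv, inv_inv] at h2
        set r := (u : G)⁻¹ * (g * q * g⁻¹) * (u : G) with hr
        have h3 : (u : G) * r * (u : G)⁻¹ * r⁻¹ ∈ L :=
          hab (Subgroup.commutator_mem_commutator u.2 (hQU h2))
        have h4 : g * q * g⁻¹ = ((u : G) * r * (u : G)⁻¹ * r⁻¹) * r := by rw [hr]; group
        rw [h4]
        exact mul_mem (Subgroup.mem_sup_left h3) (Subgroup.mem_sup_right h2)
      constructor
      intro n hn g
      obtain ⟨l, hl, q, hq, rfl⟩ := Subgroup.mem_sup_of_normal_left.1 hn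
      rw [show g * (l * q) * g⁻¹ = (g * l * g⁻¹) * (g * q * g⁻¹) by group]
      exact mul_mem (Subgroup.mem_sup_left (hLn.conj_mem l hl g)) (hQconj g q hq)
    have hLQ : L ⊔ Q = U := by
      rcases (le_sup_left : L ≤ L ⊔ Q).lt_or_eq with h | h
      · exact le_antisymm (sup_le hKU.le hQU) (hU.le_of_le ⟨hT, h⟩ (sup_le hKU.le hQU))
      · exfalso
        apply hP
        have hQL : Q ≤ L := le_sup_right.trans h.ge
        haveI : Group.IsNilpotent L := by
          rw [hKF]; exact H77.fitting_normal_nilpotent.2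
        obtain ⟨S, hS⟩ := (hQp.comap_subtype (K := L)).exists_le_sylow
        haveI : Finite (Sylow p L) := inferInstance
        haveI hSn : (S : Subgroup L).Normal := by
          have h := (Group.isNilpotent_of_finite_tfae (G := L)).out 0 3
          exact h.mp ‹_› p hp S
        haveI : (S : Subgroup L).Characteristic := Sylow.characteristic_of_normal S hSn
        haveI : ((S : Subgroup L).map L.subtype).Normal := inferInstance
        have e : (S : Subgroup L).map L.subtype = Q := by
          refine le_antisymm ?_ ?_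
          · have hSU : (S : Subgroup L).map L.subtype ≤ U := (Subgroup.map_subtype_le _).trans hKU.le
            have hS' : IsPGroup p (((S : Subgroup L).map L.subtype).subgroupOf U) :=
              (S.isPGroup'.map _).comap_subtype
            have h1 : (P : Subgroup U) ≤ ((S : Subgroup L).map L.subtype).subgroupOf U := by
              intro z hz
              have hzQ : (z : G) ∈ Q := ⟨z, hz, rfl⟩
              exact ⟨⟨z, hQL hzQ⟩, hS hzQ, rfl⟩
            have h2 := P.is_maximal' hS' h1
            intro y hy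
            refine ⟨⟨y, hSU hy⟩, ?_, rfl⟩
            show (⟨y, hSU hy⟩ : U) ∈ (P : Subgroup U)
            rw [← h2]
            exact hy
          · intro y hy
            exact ⟨⟨y, hQL hy⟩, hS hy, rfl⟩
        exact e ▸ inferInstance
    obtain ⟨M, hM, hN⟩ := exists_coatom_normalizer hP
    have hKM : L ⊔ M = ⊤ := by
      rw [eq_top_iff, ← Sylow.normalizer_sup_eq_top P]
      refine sup_le (hN.trans le_sup_right) ?_
      rw [← hLQ]
      exact sup_le_sup_left (Subgroup.le_normalizer.trans hN) L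
    have hcore : U ⊓ M.normalCore ≤ L := by
      rcases (le_sup_left : L ≤ L ⊔ (U ⊓ M.normalCore)).lt_or_eq with h | h
      · exfalso
        have hUle : U ≤ L ⊔ (U ⊓ M.normalCore) :=
          hU.le_of_le ⟨inferInstance, h⟩ (sup_le hKU.le inf_le_left)
        refine not_le_of_sylow P (D := U ⊓ M.normalCore) hM.1 hN inf_le_left
          (inf_le_right.trans M.normalCore_le) ?_
        intro y hy
        obtain ⟨l, hl, n, hn, hln⟩ := Subgroup.mem_sup_of_normal_left.1 (hUle (hQU hy))
        have hyM : y ∈ M := hN (Subgroup.le_normalizer hy)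
        have hlM : l ∈ M := by
          have : l = y * n⁻¹ := by rw [← hln]; group
          rw [this]
          exact mul_mem hyM (inv_mem (M.normalCore_le hn.2))
        have hlc : l ∈ M.normalCore := mem_normalCore_of_apply_ne_zero hχ L M hK hM hKM hno hlM
          (by rw [(hK l).1 hl]; exact IsIrr.one_ne_zero hχ)
        rw [← hln]
        exact ⟨mul_mem (hKU.le hl) hn.1, mul_mem hlc hn.2⟩
      · exact le_sup_right.trans h.ge
    obtain ⟨K', -, hK'iff, hK'inv⟩ := CharBasic.IsChar.exists_kernel (IsIrr.isCharacter hχ)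
    have hvalU : ∀ y ∈ U, χ y = if y ∈ L then χ 1 else 0 := by
      intro y hy
      by_cases hyL : y ∈ L
      · rw [if_pos hyL, (hK y).1 hyL]
      rw [if_neg hyL]
      have : y ∈ L ⊔ M := by rw [hKM]; exact Subgroup.mem_top y
      obtain ⟨l, hl, n, hn, rfl⟩ := Subgroup.mem_sup_of_normal_left.1 this
      have hnU : n ∈ U := (Subgroup.mul_mem_cancel_left U (hKU.le hl)).1 hy
      have e : χ (l * n) = χ n := by
        rw [show l * n = n * (n⁻¹ * l * n) by group]
        refine hK'inv n _ ((hK'iff _).2 ((hK _).1 ?_))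
        simpa using hLn.conj_mem l hl n⁻¹
      rw [e]
      by_contra hne
      exact hyL (mul_mem hl (hcore ⟨hnU, mem_normalCore_of_apply_ne_zero hχ L M hK hM hKM hno hn hne⟩))
    haveI : Fintype U := Fintype.ofFinite _
    have hc : Cfsg.classInner (fun y : U => χ y) (fun _ => 1) ≠ 0 := by
      rw [classInner_def]
      simp only [map_one, mul_one]
      rw [Finset.sum_congr rfl fun y _ => hvalU y.1 y.2, ← Finset.sum_filter, Finset.sum_const,
        nsmul_eq_mul]
      refine mul_ne_zero (inv_ne_zero (by exact_mod_cast Nat.card_pos.ne')) (mul_ne_zero ?_ (IsIrr.one_ne_zero hχ))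
      rw [Nat.cast_ne_zero, ← Nat.pos_iff_ne_zero, Finset.card_pos]
      exact ⟨1, Finset.mem_filter.2 ⟨Finset.mem_univ _, L.one_mem⟩⟩
    exact hKU.not_ge fun y hy => (hK y).2 ((constituent_one_iff U hχ).1 hc y hy)

/-- a series of length `n` with nilpotent factors -/
def HasNilSeries (G : Type u) [Group G] (n : ℕ) : Prop :=
  ∃ N : Fin (n + 1) → Subgroup G, N 0 = ⊥ ∧ N (Fin.last n) = ⊤ ∧ Monotone N ∧
    (∀ i, (N i).Normal) ∧ ∀ i : Fin n, ∀ h : (N i.castSucc).subgroupOf (N i.succ) |>.Normal,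
      Group.IsNilpotent (↥(N i.succ) ⧸ (N i.castSucc).subgroupOf (N i.succ))

theorem hasNilSeries_of_nilpotent [Group.IsNilpotent G] (n : ℕ) : HasNilSeries G (n + 1) := by
  refine ⟨Fin.cons ⊥ (fun _ => ⊤), rfl, ?_, ?_, ?_, fun i h => inferInstance⟩
  · rw [← Fin.succ_last, Fin.cons_succ]
  · refine Fin.monotone_iff_le_succ.2 fun i => ?_
    rw [Fin.cons_succ]
    exact le_top
  · intro i
    induction i using Fin.cases with
    | zero => rw [Fin.cons_zero]; infer_instance
    | succ j => rw [Fin.cons_succ]; infer_instance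

theorem hasNilSeries_extend {F : Subgroup G} [F.Normal] (hF : Group.IsNilpotent F) {n : ℕ}
    (h : HasNilSeries (G ⧸ F) n) : HasNilSeries G (n + 1) := by
  obtain ⟨N, h0, hlast, hmono, hnorm, hnil⟩ := h
  set q := QuotientGroup.mk' F with hq
  refine ⟨Fin.cons ⊥ (fun j => (N j).comap q), rfl, ?_, ?_, ?_, ?_⟩
  · rw [← Fin.succ_last, Fin.cons_succ, hlast, Subgroup.comap_top]
  · refine Fin.monotone_iff_le_succ.2 fun i => ?_
    induction i using Fin.cases with
    | zero => rw [Fin.castSucc_zero, Fin.cons_zero]; exact bot_le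
    | succ j =>
      rw [← Fin.succ_castSucc, Fin.cons_succ, Fin.cons_succ]
      exact Subgroup.comap_mono (hmono (Fin.castSucc_le_succ j))
  · intro i
    induction i using Fin.cases with
    | zero => rw [Fin.cons_zero]; infer_instance
    | succ j => rw [Fin.cons_succ]; exact (hnorm j).comap q
  · intro i
    induction i using Fin.cases with
    | zero =>
      rw [Fin.cons_succ, Fin.castSucc_zero, Fin.cons_zero, h0]
      intro _
      haveI : Group.IsNilpotent (Subgroup.comap q (⊥ : Subgroup (G ⧸ F))) := by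
        rw [MonoidHom.comap_bot, hq, QuotientGroup.ker_mk']; exact hF
      infer_instance
    | succ j =>
      rw [Fin.cons_succ, ← Fin.succ_castSucc, Fin.cons_succ]
      intro _
      haveI : ((N j.castSucc).subgroupOf (N j.succ)).Normal := (hnorm j.castSucc).comap _
      haveI := hnil j inferInstance
      let g : ↥((N j.succ).comap q) →* ↥(N j.succ) ⧸ (N j.castSucc).subgroupOf (N j.succ) :=
        (QuotientGroup.mk' _).comp (q.subgroupComap (N j.succ))
      have hg : MonoidHom.ker g = ((N j.castSucc).comap q).subgroupOf ((N j.succ).comap q) := by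
        ext x
        rw [MonoidHom.mem_ker]
        exact QuotientGroup.eq_one_iff _
      haveI : Group.IsNilpotent (↥((N j.succ).comap q) ⧸ MonoidHom.ker g) :=
        Group.nilpotent_of_mulEquiv (QuotientGroup.quotientKerEquivRange g).symm
      exact Group.nilpotent_of_mulEquiv (QuotientGroup.quotientMulEquivOfEq hg)

theorem finite_degrees [Finite G] :
    {d : ℕ | ∃ χ : Cfsg.IrrCharacter G, Cfsg.charDegree (χ : G → ℂ) = d}.Finite := by
  classical
  haveI : Fintype G := Fintype.ofFinite _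
  exact Set.finite_range fun χ : Cfsg.IrrCharacter G => Cfsg.charDegree (χ : G → ℂ)

/-- nilpotent length is bounded by the number of character degrees -/
theorem hasNilSeries_of_degrees (k : ℕ) : ∀ (G : Type u) [Group G] [Finite G], Group.IsSolvable G →
    Nat.card G = k → ∀ n : ℕ,
    {d : ℕ | ∃ χ : Cfsg.IrrCharacter G, Cfsg.charDegree (χ : G → ℂ) = d}.ncard ≤ n →
    HasNilSeries G n := by
  induction k using Nat.strong_induction_on with
  | _ k ih =>
    intro G _ _ hsolv hk n hn
    haveI := hsolv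
    haveI : Fintype G := Fintype.ofFinite _
    have hpos : 0 < {d : ℕ | ∃ χ : Cfsg.IrrCharacter G, Cfsg.charDegree (χ : G → ℂ) = d}.ncard :=
      (Set.ncard_pos finite_degrees).2 ⟨_, ⟨fun _ => 1, isIrrCharacter_one⟩, rfl⟩
    obtain ⟨n, rfl⟩ : ∃ n', n = n' + 1 := ⟨n - 1, by omega⟩
    by_cases hnilp : Group.IsNilpotent G
    · exact hasNilSeries_of_nilpotent n
    set F := Cfsg.fittingSubgroup G with hFdef
    obtain ⟨hFn, hFnil⟩ := (H77.fitting_normal_nilpotent : F.Normal ∧ Group.IsNilpotent F)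
    haveI := hFn
    haveI : Fintype (G ⧸ F) := Fintype.ofFinite _
    have hFtop : F ≠ ⊤ := fun h => hnilp (by
      haveI : Group.IsNilpotent (⊤ : Subgroup G) := h ▸ hFnil
      exact Group.nilpotent_of_mulEquiv Subgroup.topEquiv)
    have hFbot : F ≠ ⊥ := by
      intro hF0
      haveI : Nontrivial G := by
        by_contra h
        rw [not_nontrivial_iff_subsingleton] at h
        exact hnilp inferInstance
      obtain ⟨U, hU⟩ := (Set.toFinite {U : Subgroup G | U.Normal ∧ ⊥ < U}).exists_minimal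
        ⟨⊤, inferInstance, bot_lt_top⟩
      obtain ⟨hUn, hbU⟩ := hU.prop
      haveI : Group.IsSolvable (G ⧸ (⊥ : Subgroup G)) :=
        Group.isSolvable_of_surjective (f := QuotientGroup.mk' ⊥) (QuotientGroup.mk'_surjective _)
      obtain ⟨L, hLn, -, hLU, -, hab⟩ := exists_chief_below ⊥ hUn hbU
      have hL : L = ⊥ := by
        by_contra h
        exact hLU.not_ge (hU.le_of_le ⟨hLn, bot_lt_iff_ne_bot.2 h⟩ hLU.le)
      subst hL
      have hnilU : Group.IsNilpotent U := by
        letI : CommGroup U :=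
          { (inferInstance : Group U) with
            mul_comm := fun a b => by
              rw [← commutatorElement_eq_one_iff_mul_comm]
              exact Subtype.ext (Subgroup.mem_bot.1 (hab (Subgroup.commutator_mem_commutator a.2 b.2))) }
        infer_instance
      exact hbU.not_ge ((le_sSup ⟨hUn, hnilU⟩ : U ≤ F).trans hF0.le)
    set D' := {d : ℕ | ∃ χ : Cfsg.IrrCharacter (G ⧸ F), Cfsg.charDegree (χ : G ⧸ F → ℂ) = d} with hD'
    have hinfl : ∀ χ : Cfsg.IrrCharacter (G ⧸ F),
        Cfsg.IsIrrCharacter G (fun g => (χ : G ⧸ F → ℂ) (QuotientGroup.mk' F g)) := fun χ =>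
      CharInduce.IsIrr.comp χ.2 _ (QuotientGroup.mk'_surjective F)
    have hsub : D' ⊆ {d : ℕ | ∃ χ : Cfsg.IrrCharacter G, Cfsg.charDegree (χ : G → ℂ) = d} := by
      rintro d ⟨χ, rfl⟩
      exact ⟨⟨_, hinfl χ⟩, by simp [Cfsg.charDegree]⟩
    obtain ⟨d, ⟨χ, hχd⟩, hdmax⟩ := Set.exists_max_image D' id (finite_degrees (G := G ⧸ F))
      ⟨_, ⟨fun _ => 1, isIrrCharacter_one⟩, rfl⟩
    have hχ' := hinfl χ
    obtain ⟨K, hKn, hKiff, -⟩ := CharBasic.IsChar.exists_kernel (IsIrr.isCharacter hχ')
    haveI := hKn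
    have hFK : F ≤ K := fun x hx => by
      rw [hKiff]
      simp [(QuotientGroup.eq_one_iff x).2 hx]
    have hcase : ¬ K ≤ F ∨ (K = F ∧ Group.IsSolvable (G ⧸ K) ∧ K ≠ ⊤) := by
      by_cases h : K ≤ F
      · have hKF := le_antisymm h hFK
        exact Or.inr ⟨hKF,
          Group.isSolvable_of_surjective (f := QuotientGroup.mk' K) (QuotientGroup.mk'_surjective K),
          hKF ▸ hFtop⟩
      · exact Or.inl h
    obtain ⟨ψ, hψ, -⟩ := exists_larger_degree hχ' K hKiff hcase
    have hlt : D'.ncard < {d : ℕ | ∃ χ : Cfsg.IrrCharacter G, Cfsg.charDegree (χ : G → ℂ) = d}.ncard := by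
      refine Set.ncard_lt_ncard ⟨hsub, fun h => ?_⟩ finite_degrees
      have h1 : Cfsg.charDegree (ψ : G → ℂ) ≤ d := hdmax _ (h ⟨ψ, rfl⟩)
      have h2 : Cfsg.charDegree (fun g => (χ : G ⧸ F → ℂ) (QuotientGroup.mk' F g)) = d := by
        rw [← hχd]; simp [Cfsg.charDegree]
      omega
    refine hasNilSeries_extend hFnil (ih (Nat.card (G ⧸ F)) ?_ (G ⧸ F) ?_ rfl n
      (show D'.ncard ≤ n by omega))
    · rw [← hk, ← Subgroup.index_eq_card, ← F.card_mul_index]
      have h1 : 1 < Nat.card F := (Subgroup.one_lt_card_iff_ne_bot F).2 hFbot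
      have h2 : 0 < F.index := Nat.pos_of_ne_zero Subgroup.index_ne_zero_of_finite
      nlinarith
    · exact Group.isSolvable_of_surjective (f := QuotientGroup.mk' F) (QuotientGroup.mk'_surjective F)

end Cfsg.Agent.H34
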