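import Cfsg.Agent.CharBasic.Orth

/-!
The part of the norm of a character lying on the generators of the conjugates of cyclic
subgroups.
-/

set_option autoImplicit false
set_option linter.unusedSectionVars false

namespace Cfsg.Agent.H34.GenBudget

variable {G : Type*} [Group G] [Fintype G]

open scoped Classical in
/-- The elements generating a conjugate of `⟨u⟩`. -/
noncomputable def gens (u : G) : Finset G :=
  Finset.univ.filter fun g => ∃ c : G, Subgroup.zpowers g = Subgroup.zpowers (c * u * c⁻¹)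

/-- The exponents of the generators of `⟨u⟩`. -/
def unitsOf (n : ℕ) : Finset ℕ := (Finset.range n).filter fun k => Nat.Coprime k n

theorem orderOf_eq_of_mem_gens {u g : G} (h : g ∈ gens u) : orderOf g = orderOf u := by
  classical
  obtain ⟨c, hc⟩ := (Finset.mem_filter.1 h).2
  have := congrArg (fun H : Subgroup G => Nat.card H) hc
  simp only [Nat.card_zpowers] at this
  rw [this, ← MulAut.conj_apply, MulEquiv.orderOf_eq]

theorem zpowers_conj (c u : G) :
    Subgroup.zpowers (c * u * c⁻¹) =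
      (Subgroup.zpowers u).map (MulAut.conj c).toMonoidHom :=
  (MonoidHom.map_zpowers (MulAut.conj c).toMonoidHom u).symm

theorem zpowers_pow_of_coprime {u : G} {k : ℕ} (hk : Nat.Coprime k (orderOf u)) :
    Subgroup.zpowers (u ^ k) = Subgroup.zpowers u :=
  Subgroup.eq_of_le_of_card_ge (Subgroup.zpowers_le.2 (Subgroup.npow_mem_zpowers u k))
    (by rw [Nat.card_zpowers, Nat.card_zpowers, hk.symm.orderOf_pow])

theorem exists_unit {u v : G} (h : Subgroup.zpowers v = Subgroup.zpowers u) :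
    ∃ k ∈ unitsOf (orderOf u), u ^ k = v := by
  classical
  have hv : v ∈ Subgroup.zpowers u := h ▸ Subgroup.mem_zpowers v
  rw [mem_zpowers_iff_mem_range_orderOf, Finset.mem_image] at hv
  obtain ⟨k, hk, rfl⟩ := hv
  refine ⟨k, Finset.mem_filter.2 ⟨hk, ?_⟩, rfl⟩
  have ho : orderOf (u ^ k) = orderOf u := by rw [← Nat.card_zpowers, h, Nat.card_zpowers]
  rw [orderOf_pow, Nat.div_eq_self] at ho
  rcases ho with ho | ho
  · exact absurd ho (orderOf_pos u).ne'
  · rwa [Nat.coprime_comm, Nat.coprime_iff_gcd_eq_one]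

/-- Double counting over the generators. -/
theorem card_normalizer_mul_sum {R : Type*} [CommSemiring R] (u : G) (f : G → R)
    (hf : ∀ g c, f (c * g * c⁻¹) = f g) :
    (Nat.card (Subgroup.normalizer (Subgroup.zpowers u : Set G)) : R) * ∑ g ∈ gens u, f g =
      (Nat.card G : R) * ∑ k ∈ unitsOf (orderOf u), f (u ^ k) := by
  classical
  set N := Subgroup.normalizer (Subgroup.zpowers u : Set G) with hN
  set A := (Finset.univ : Finset G) ×ˢ unitsOf (orderOf u) with hA
  let φ : G × ℕ → G := fun ck => ck.1 * u ^ ck.2 * ck.1⁻¹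
  have hmem : ∀ ck ∈ A, φ ck ∈ gens u := by
    rintro ⟨c, k⟩ hck
    refine Finset.mem_filter.2 ⟨Finset.mem_univ _, c, ?_⟩
    show Subgroup.zpowers (c * u ^ k * c⁻¹) = _
    rw [zpowers_conj, zpowers_conj,
      zpowers_pow_of_coprime (Finset.mem_filter.1 (Finset.mem_product.1 hck).2).2]
  have hfib : ∀ g ∈ gens u, (A.filter fun ck => φ ck = g).card = Nat.card N := by
    intro g hg
    obtain ⟨c0, hc0⟩ := (Finset.mem_filter.1 hg).2
    have hv : ∀ n : N, Subgroup.zpowers ((c0 * n)⁻¹ * g * (c0 * n)) = Subgroup.zpowers u := by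
      intro n
      have h1 := zpowers_conj (c0 * n)⁻¹ g
      rw [inv_inv] at h1
      rw [h1, hc0, zpowers_conj, Subgroup.map_map]
      have h2 : (MulAut.conj ((c0 * n)⁻¹)).toMonoidHom.comp (MulAut.conj c0).toMonoidHom =
          (MulAut.conj (n : G)⁻¹).toMonoidHom := by
        ext x
        simp [mul_assoc]
      rw [h2]
      ext x
      rw [Subgroup.mem_map]
      constructor
      · rintro ⟨w, hw, rfl⟩
        exact (Subgroup.mem_normalizer_iff.1 (N.inv_mem n.2) w).1 hw
      · intro hx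
        refine ⟨(n : G) * x * (n : G)⁻¹, (Subgroup.mem_normalizer_iff.1 n.2 x).1 hx, ?_⟩
        simp [mul_assoc]
    choose k hk hk' using fun n : N => exists_unit (hv n)
    rw [Nat.card_eq_fintype_card, ← Finset.card_univ]
    refine (Finset.card_bij (fun (n : N) _ => (c0 * (n : G), k n)) (fun n _ => ?_)
      (fun a _ b _ h => Subtype.ext (mul_left_cancel (congrArg Prod.fst h))) ?_).symm
    · refine Finset.mem_filter.2 ⟨Finset.mem_product.2 ⟨Finset.mem_univ _, hk n⟩, ?_⟩
      show c0 * (n : G) * u ^ k n * (c0 * (n : G))⁻¹ = g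
      rw [hk' n]; group
    · rintro ⟨c, i⟩ hci
      obtain ⟨hci, he⟩ := Finset.mem_filter.1 hci
      have hi := (Finset.mem_product.1 hci).2
      have hn : c0⁻¹ * c ∈ N := by
        have h1 : Subgroup.zpowers (c * u * c⁻¹) = Subgroup.zpowers (c0 * u * c0⁻¹) := by
          rw [← hc0, ← he, zpowers_conj, zpowers_conj,
            zpowers_pow_of_coprime (Finset.mem_filter.1 hi).2]
        rw [zpowers_conj, zpowers_conj] at h1
        have h2 := congrArg (Subgroup.map (MulAut.conj c0⁻¹).toMonoidHom) h1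
        rw [Subgroup.map_map, Subgroup.map_map] at h2
        have h3 : (MulAut.conj c0⁻¹).toMonoidHom.comp (MulAut.conj c).toMonoidHom =
            (MulAut.conj (c0⁻¹ * c)).toMonoidHom := by ext x; simp [mul_assoc]
        have h4 : (MulAut.conj c0⁻¹).toMonoidHom.comp (MulAut.conj c0).toMonoidHom =
            MonoidHom.id G := by ext x; simp [mul_assoc]
        rw [h3, h4, Subgroup.map_id] at h2
        refine Subgroup.mem_normalizer_iff.2 fun x => ?_
        conv_rhs => rw [← h2]
        rw [Subgroup.mem_map]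
        exact ⟨fun hx => ⟨x, hx, rfl⟩, fun ⟨w, hw, hwx⟩ => by
          have : w = x := (MulAut.conj (c0⁻¹ * c)).injective hwx
          exact this ▸ hw⟩
      refine ⟨⟨_, hn⟩, Finset.mem_univ _, Prod.ext (mul_inv_cancel_left _ _) ?_⟩
      refine pow_injOn_Iio_orderOf (Finset.mem_range.1 (Finset.mem_filter.1 (hk _)).1)
        (Finset.mem_range.1 (Finset.mem_filter.1 hi).1) ?_
      show u ^ k ⟨_, hn⟩ = u ^ i
      rw [hk' ⟨_, hn⟩, ← he]
      show (c0 * (c0⁻¹ * c))⁻¹ * (c * u ^ i * c⁻¹) * (c0 * (c0⁻¹ * c)) = u ^ i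
      group
  calc (Nat.card N : R) * ∑ g ∈ gens u, f g
      = ∑ g ∈ gens u, ∑ _ck ∈ A.filter (fun ck => φ ck = g), f g := by
        rw [Finset.mul_sum]
        refine Finset.sum_congr rfl fun g hg => ?_
        rw [Finset.sum_const, hfib g hg, nsmul_eq_mul]
    _ = ∑ g ∈ gens u, ∑ ck ∈ A.filter (fun ck => φ ck = g), f (φ ck) :=
        Finset.sum_congr rfl fun g _ => Finset.sum_congr rfl fun ck hck => by
          rw [(Finset.mem_filter.1 hck).2]
    _ = ∑ ck ∈ A, f (φ ck) := Finset.sum_fiberwise_of_maps_to hmem _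
    _ = _ := by
        rw [hA, Finset.sum_product]
        simp only [φ, hf, Finset.sum_const, Finset.card_univ, nsmul_eq_mul,
          Nat.card_eq_fintype_card]

/-- The lower bound given by a bound on the normaliser. -/
theorem mul_le_of_card_normalizer_le {χ : G → ℂ} (hχ : Cfsg.IsClassFunction G χ) (u : G)
    {B : ℕ} (hB : Nat.card (Subgroup.normalizer (Subgroup.zpowers u : Set G)) ≤ B) {L : ℝ}
    (hL : L ≤ ∑ k ∈ unitsOf (orderOf u), ‖χ (u ^ k)‖ ^ 2) :
    (Nat.card G : ℝ) * L ≤ (B : ℝ) * ∑ g ∈ gens u, ‖χ g‖ ^ 2 := by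
  have h := card_normalizer_mul_sum (R := ℝ) u (fun g => ‖χ g‖ ^ 2) fun g c => by
    show ‖χ (c * g * c⁻¹)‖ ^ 2 = _
    rw [hχ g c]
  calc (Nat.card G : ℝ) * L ≤ (Nat.card G : ℝ) * ∑ k ∈ unitsOf (orderOf u), ‖χ (u ^ k)‖ ^ 2 :=
        mul_le_mul_of_nonneg_left hL (Nat.cast_nonneg _)
    _ = (Nat.card (Subgroup.normalizer (Subgroup.zpowers u : Set G)) : ℝ) *
          ∑ g ∈ gens u, ‖χ g‖ ^ 2 := h.symm
    _ ≤ _ := mul_le_mul_of_nonneg_right (Nat.cast_le.2 hB)
          (Finset.sum_nonneg fun _ _ => sq_nonneg _)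

theorem sum_norm_sq_eq {χ : G → ℂ} (hχ : Cfsg.IsIrrCharacter G χ) :
    ∑ g : G, ‖χ g‖ ^ 2 = (Nat.card G : ℝ) := by
  have h := CharBasic.classInner_self_eq χ
  rw [CharBasic.classInner_irr_self hχ, ← Complex.ofReal_one, Complex.ofReal_inj,
    eq_inv_mul_iff_mul_eq₀ (Nat.cast_ne_zero.2 Nat.card_pos.ne'), mul_one] at h
  exact h.symm

/-- Generators of different orders are different. -/
theorem disjoint_gens {u v : G} (h : orderOf u ≠ orderOf v) : Disjoint (gens u) (gens v) :=
  Finset.disjoint_left.2 fun _ hu hv =>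
    h ((orderOf_eq_of_mem_gens hu).symm.trans (orderOf_eq_of_mem_gens hv))

/-- The identity and the generators of subgroups of different orders share the norm. -/
theorem sq_add_sum_le {χ : G → ℂ} (hχ : Cfsg.IsIrrCharacter G χ) {ι : Type*} (s : Finset ι)
    (u : ι → G) (hinj : ∀ i ∈ s, ∀ j ∈ s, orderOf (u i) = orderOf (u j) → i = j)
    (h1 : ∀ i ∈ s, orderOf (u i) ≠ 1) :
    ‖χ 1‖ ^ 2 + ∑ i ∈ s, ∑ g ∈ gens (u i), ‖χ g‖ ^ 2 ≤ (Nat.card G : ℝ) := by
  classical
  have hd : (s : Set ι).PairwiseDisjoint fun i => gens (u i) := fun i hi j hj hne =>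
    disjoint_gens fun e => hne (hinj i hi j hj e)
  rw [← Finset.sum_biUnion hd, ← Finset.sum_insert (f := fun g => ‖χ g‖ ^ 2) ?_,
    ← sum_norm_sq_eq hχ]
  · exact Finset.sum_le_sum_of_subset_of_nonneg (Finset.subset_univ _) fun _ _ _ => sq_nonneg _
  · simp only [Finset.mem_biUnion, not_exists, not_and]
    intro i hi h
    exact h1 i hi (by rw [← orderOf_eq_of_mem_gens h, orderOf_one])

end Cfsg.Agent.H34.GenBudget
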