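import Cfsg.Agent.Linear.TwoTorus
import Cfsg.Agent.H34.SelfCentV4

/-! Four-groups of `PSL_2(q)`, `q` odd, via anticommuting pairs of square roots of `-1` in `SL_2(q)`. -/

set_option autoImplicit false

namespace Cfsg.Agent.H34

open Matrix

variable {F : Type*} [Field F]

local notation "M2" => Matrix (Fin 2) (Fin 2) F
local notation "S2" => Matrix.SpecialLinearGroup (Fin 2) F
local notation "P2" => Matrix.ProjectiveSpecialLinearGroup (Fin 2) F

/-- an anticommuting pair of square roots of `-1` -/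
def IsPair (x y : S2) : Prop := x * x = -1 ∧ y * y = -1 ∧ x * y = -(y * x)

theorem trace_zero_of_sq (h2 : (2 : F) ≠ 0) {g : S2} (hg : g * g = -1) :
    (g : M2).trace = 0 ∧ (g : M2).trace ^ 2 ≠ 4 := by
  have h : (g : M2) * (g : M2) = -1 := by simpa using congrArg (fun x : S2 => (x : M2)) hg
  rw [Linear.SL_sq_eq, sub_eq_neg_self] at h
  have h0 : (g : M2).trace = 0 := by
    rcases smul_eq_zero.mp h with h | h
    · exact h
    · rw [h, Matrix.trace_zero]
  refine ⟨h0, ?_⟩
  rw [h0]
  intro e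
  apply h2
  have : (2 : F) * 2 = 0 := by linear_combination -e
  exact mul_self_eq_zero.mp this

theorem neg_ne_self (h2 : (2 : F) ≠ 0) (g : S2) : -g ≠ g := by
  intro h
  have hg := g.2
  have hm : -(g : M2) = (g : M2) := by simpa using congrArg (fun x : S2 => (x : M2)) h
  have : (g : M2) = 0 := by
    ext i j
    have := congrFun (congrFun hm i) j
    simp only [Matrix.neg_apply] at this
    have h' : (2 : F) * (g : M2) i j = 0 := by linear_combination -this
    exact (mul_eq_zero.mp h').resolve_left h2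
  rw [this, Matrix.det_zero] at hg
  exact zero_ne_one hg

theorem sl_inv_eq_neg {g : S2} (hg : g * g = -1) : g⁻¹ = -g :=
  inv_eq_of_mul_eq_one_right (by rw [mul_neg, hg, neg_neg])

theorem sl_inv_neg (g : S2) : (-g)⁻¹ = -g⁻¹ :=
  inv_eq_of_mul_eq_one_right (by rw [neg_mul_neg, mul_inv_cancel])

theorem card_isConj {G : Type*} [Group G] (g : G) :
    Nat.card {x : G // IsConj g x} = (Subgroup.centralizer ({g} : Set G)).index := by
  have h1 : (MulAction.stabilizer (ConjAct G) g).index =
      (Subgroup.centralizer ({g} : Set G)).index := by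
    rw [← Subgroup.index_map_equiv (Subgroup.centralizer ({g} : Set G))
      (ConjAct.toConjAct (G := G))]
    congr 1
    ext x
    obtain ⟨y, rfl⟩ := (ConjAct.toConjAct (G := G)).surjective x
    simp [MulAction.mem_stabilizer_iff, ConjAct.toConjAct_smul,
      Subgroup.mem_centralizer_singleton_iff, mul_inv_eq_iff_eq_mul]
  rw [← h1, MulAction.index_stabilizer, ← Nat.card_coe_set_eq]
  refine Nat.card_congr (Equiv.subtypeEquivRight fun x => ?_)
  show IsConj g x ↔ x ∈ MulAction.orbit (ConjAct G) g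
  rw [ConjAct.mem_orbit_conjAct, isConj_comm]

theorem IsPair.symm {x y : S2} (h : IsPair x y) : IsPair y x :=
  ⟨h.2.1, h.1, by rw [h.2.2, neg_neg]⟩

theorem IsPair.inverts {x y : S2} (h : IsPair x y) : y * x * y⁻¹ = x⁻¹ := by
  rw [sl_inv_eq_neg h.1, mul_inv_eq_iff_eq_mul, neg_mul, h.2.2, neg_neg]

theorem IsPair.conj {x y : S2} (h : IsPair x y) (g : S2) : IsPair (g * x * g⁻¹) (g * y * g⁻¹) := by
  obtain ⟨hx, hy, hxy⟩ := h
  have e : ∀ a b : S2, g * a * g⁻¹ * (g * b * g⁻¹) = g * (a * b) * g⁻¹ := fun a b => by group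
  refine ⟨?_, ?_, ?_⟩
  · rw [e, hx, mul_neg, neg_mul, mul_one, mul_inv_cancel]
  · rw [e, hy, mul_neg, neg_mul, mul_one, mul_inv_cancel]
  · rw [e, e, hxy, mul_neg, neg_mul]

theorem IsPair.prod {x y : S2} (h : IsPair x y) : IsPair x (x * y) := by
  obtain ⟨hx, hy, hxy⟩ := h
  refine ⟨hx, ?_, ?_⟩
  · calc x * y * (x * y) = x * (y * x) * y := by simp only [mul_assoc]
      _ = x * -(x * y) * y := by rw [hxy, neg_neg]
      _ = -(x * x * (y * y)) := by simp only [mul_assoc, mul_neg, neg_mul]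
      _ = -1 := by rw [hx, hy, neg_mul_neg, one_mul]
  · rw [mul_assoc x y x, show y * x = -(x * y) by rw [hxy, neg_neg], mul_neg, neg_neg]

/-- An element commuting with both members of a pair is `±1`. -/
theorem IsPair.eq_one_or_neg_one (h2 : (2 : F) ≠ 0) {x y : S2} (h : IsPair x y) {g : S2}
    (hgx : g * x = x * g) (hgy : g * y = y * g) : g = 1 ∨ g = -1 := by
  obtain ⟨t0, t4⟩ := trace_zero_of_sq h2 h.1
  by_contra hns
  have hg : g ∈ Subgroup.centralizer ({x} : Set S2) := Subgroup.mem_centralizer_singleton_iff.mpr hgx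
  have hgns : ¬ Linear.IsScalarTwo (g : M2) := fun e => hns (Linear.isScalarTwo_SL_iff.mp e)
  have he := Linear.centralizer_eq_of_mem (Linear.not_isScalarTwo_of_trace t4) hg hgns
  have hy : y ∈ Subgroup.centralizer ({x} : Set S2) :=
    he ▸ Subgroup.mem_centralizer_singleton_iff.mpr hgy.symm
  exact Linear.inverter_not_mem t4 h.inverts hy

/-- The pairs with first member `x` correspond to the centralizer of `x`. -/
theorem card_pairs [Fintype F] (hodd : Odd (Fintype.card F)) :
    Nat.card {p : S2 × S2 // IsPair p.1 p.2} = Nat.card S2 := by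
  classical
  have h2 := Linear.two_ne_zero_of_odd_card hodd
  have h00 : ((!![0, 1; -1, 0] : M2)).det = 1 := by simp [Matrix.det_fin_two]
  let x0 : S2 := ⟨!![0, 1; -1, 0], h00⟩
  have hx0 : x0 * x0 = -1 := by
    refine Subtype.ext ?_
    rw [Matrix.SpecialLinearGroup.coe_mul, Matrix.SpecialLinearGroup.coe_neg, Matrix.SpecialLinearGroup.coe_one]
    show (!![0, 1; -1, 0] : M2) * !![0, 1; -1, 0] = -1
    ext i j
    fin_cases i <;> fin_cases j <;> simp
  let X := {x : S2 // x * x = -1}
  let e : {p : S2 × S2 // IsPair p.1 p.2} ≃ Σ x : X, {y : S2 // IsPair x.1 y} :=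
    { toFun := fun p => ⟨⟨p.1.1, p.2.1⟩, p.1.2, p.2⟩
      invFun := fun s => ⟨(s.1.1, s.2.1), s.2.2⟩
      left_inv := fun p => rfl
      right_inv := fun s => rfl }
  obtain ⟨u0, u4⟩ := trace_zero_of_sq h2 hx0
  have hconj : ∀ x : X, IsConj x0 x.1 := fun x => by
    obtain ⟨t0, t4⟩ := trace_zero_of_sq h2 x.2
    exact Linear.isConj_of_trace_eq (Linear.not_isScalarTwo_of_trace u4)
      (Linear.not_isScalarTwo_of_trace t4) (u0.trans t0.symm) (Or.inr u4)
  have hfib : ∀ x : X, Nat.card {y : S2 // IsPair x.1 y} = Nat.card (Subgroup.centralizer ({x0} : Set S2)) := by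
    intro x
    obtain ⟨t0, t4⟩ := trace_zero_of_sq h2 x.2
    obtain ⟨h, hh⟩ := Linear.exists_inverter t4
    obtain ⟨c, hc⟩ := isConj_iff.mp (hconj x)
    have key : ∀ y : S2, IsPair x.1 y ↔ y * h⁻¹ ∈ Subgroup.centralizer ({x.1} : Set S2) := by
      intro y
      rw [Subgroup.mem_centralizer_singleton_iff]
      constructor
      · intro hy
        have e1 := hy.inverts
        have e2 : h⁻¹ * x.1 * h = x.1⁻¹ := by
          have := congrArg (·⁻¹) hh
          calc h⁻¹ * x.1 * h = (h⁻¹ * x.1⁻¹ * h)⁻¹ := by group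
            _ = (h⁻¹ * (h * x.1 * h⁻¹) * h)⁻¹ := by rw [hh]
            _ = x.1⁻¹ := by group
        calc y * h⁻¹ * x.1 = y * (h⁻¹ * x.1 * h) * h⁻¹ := by group
          _ = (y * x.1 * y⁻¹)⁻¹ * y * h⁻¹ := by rw [e2]; group
          _ = x.1 * (y * h⁻¹) := by rw [e1]; group
      · intro hy
        have e1 : y * x.1 * y⁻¹ = x.1⁻¹ := by
          calc y * x.1 * y⁻¹ = (y * h⁻¹) * (h * x.1 * h⁻¹) * (y * h⁻¹)⁻¹ := by group
            _ = ((y * h⁻¹) * x.1 * (y * h⁻¹)⁻¹)⁻¹ := by rw [hh]; group
            _ = x.1⁻¹ := by rw [hy, mul_inv_cancel_right]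
        refine ⟨x.2, Linear.inverter_sq t4 e1, ?_⟩
        rw [sl_inv_eq_neg x.2, mul_inv_eq_iff_eq_mul, neg_mul] at e1
        rw [e1, neg_neg]
    let e1 : {y : S2 // IsPair x.1 y} ≃ Subgroup.centralizer ({x.1} : Set S2) :=
      { toFun := fun y => ⟨y.1 * h⁻¹, (key _).mp y.2⟩
        invFun := fun z => ⟨z.1 * h, (key _).mpr (by rw [mul_inv_cancel_right]; exact z.2)⟩
        left_inv := fun y => Subtype.ext (inv_mul_cancel_right y.1 h)
        right_inv := fun z => Subtype.ext (mul_inv_cancel_right z.1 h) }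
    rw [Nat.card_congr e1]
    have hmem : ∀ z : S2, z ∈ Subgroup.centralizer ({x0} : Set S2) ↔
        c * z * c⁻¹ ∈ Subgroup.centralizer ({x.1} : Set S2) := by
      intro z
      rw [Subgroup.mem_centralizer_singleton_iff, Subgroup.mem_centralizer_singleton_iff, ← hc,
        show c * z * c⁻¹ * (c * x0 * c⁻¹) = c * (z * x0) * c⁻¹ by group,
        show c * x0 * c⁻¹ * (c * z * c⁻¹) = c * (x0 * z) * c⁻¹ by group,
        mul_left_inj, mul_right_inj]
    exact Nat.card_congr ((MulAut.conj c).toEquiv.subtypeEquiv hmem).symm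
  haveI := Fintype.ofFinite X
  rw [Nat.card_congr e, Nat.card_sigma, Finset.sum_congr rfl (fun x _ => hfib x), Finset.sum_const,
    Finset.card_univ, smul_eq_mul, ← Nat.card_eq_fintype_card]
  have hXc : Nat.card X = (Subgroup.centralizer ({x0} : Set S2)).index := by
    rw [← card_isConj]
    refine Nat.card_congr (Equiv.subtypeEquivRight fun x => ⟨fun hx => hconj ⟨x, hx⟩, fun hx => ?_⟩)
    obtain ⟨c, rfl⟩ := isConj_iff.mp hx
    rw [show c * x0 * c⁻¹ * (c * x0 * c⁻¹) = c * (x0 * x0) * c⁻¹ by group, hx0, mul_neg, mul_one,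
      neg_mul, mul_inv_cancel]
  rw [hXc, mul_comm, Subgroup.card_mul_index]

/-- conjugacy of pairs -/
def PairRel (p q : S2 × S2) : Prop := ∃ g : S2, g * p.1 * g⁻¹ = q.1 ∧ g * p.2 * g⁻¹ = q.2

theorem PairRel.symm {p q : S2 × S2} (h : PairRel p q) : PairRel q p := by
  obtain ⟨g, h1, h2⟩ := h
  exact ⟨g⁻¹, by rw [← h1]; group, by rw [← h2]; group⟩

theorem PairRel.trans {p q r : S2 × S2} (h : PairRel p q) (h' : PairRel q r) : PairRel p r := by
  obtain ⟨g, h1, h2⟩ := h
  obtain ⟨g', h1', h2'⟩ := h'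
  exact ⟨g' * g, by rw [← h1', ← h1]; group, by rw [← h2', ← h2]; group⟩

theorem card_conj_preimage [Fintype F] (h2 : (2 : F) ≠ 0) {x y : S2} (h : IsPair x y)
    (s : Finset (S2 × S2)) (hs : ∀ q ∈ s, PairRel (x, y) q) :
    Nat.card {g : S2 // (g * x * g⁻¹, g * y * g⁻¹) ∈ s} = 2 * s.card := by
  classical
  rw [Nat.card_eq_fintype_card, Fintype.card_subtype,
    Finset.card_eq_sum_card_fiberwise (f := fun g : S2 => (g * x * g⁻¹, g * y * g⁻¹))
      (s := Finset.univ.filter fun g : S2 => (g * x * g⁻¹, g * y * g⁻¹) ∈ s) (t := s)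
      (fun g hg => by simpa using hg)]
  refine (Finset.sum_congr rfl (g := fun _ => 2) fun q hq => ?_).trans
    (by rw [Finset.sum_const, smul_eq_mul, mul_comm])
  obtain ⟨g₀, hg₀, hg₀'⟩ := hs q hq
  simp only at hg₀ hg₀'
  have : ({g ∈ ({g | (g * x * g⁻¹, g * y * g⁻¹) ∈ s} : Finset S2) | (g * x * g⁻¹, g * y * g⁻¹) = q}) =
      ({g₀, -g₀} : Finset S2) := by
    ext g
    simp only [Finset.mem_filter, Finset.mem_univ, true_and, Finset.mem_insert, Finset.mem_singleton]
    constructor
    · rintro ⟨-, hg⟩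
      have e1 : g * x * g⁻¹ = g₀ * x * g₀⁻¹ := (congrArg Prod.fst hg).trans hg₀.symm
      have e2 : g * y * g⁻¹ = g₀ * y * g₀⁻¹ := (congrArg Prod.snd hg).trans hg₀'.symm
      have key : ∀ z : S2, g * z * g⁻¹ = g₀ * z * g₀⁻¹ → g₀⁻¹ * g * z = z * (g₀⁻¹ * g) := fun z e => by
        calc g₀⁻¹ * g * z = g₀⁻¹ * (g * z * g⁻¹) * g := by group
          _ = z * (g₀⁻¹ * g) := by rw [e]; group
      rcases h.eq_one_or_neg_one h2 (key x e1) (key y e2) with e | e
      · left; rw [inv_mul_eq_iff_eq_mul.mp e, mul_one]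
      · right; rw [inv_mul_eq_iff_eq_mul.mp e, mul_neg, mul_one]
    · intro hg
      have : (g * x * g⁻¹, g * y * g⁻¹) = q := by
        refine Prod.ext ?_ ?_
        · rcases hg with rfl | rfl
          · exact hg₀
          · rw [← hg₀, sl_inv_neg]; simp
        · rcases hg with rfl | rfl
          · exact hg₀'
          · rw [← hg₀', sl_inv_neg]; simp
      exact ⟨this ▸ hq, this⟩
  rw [this, Finset.card_pair (neg_ne_self h2 g₀).symm]

/-- Of three pairs two are conjugate. -/
theorem two_classes [Fintype F] (hodd : Odd (Fintype.card F)) {p q r : S2 × S2}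
    (hp : IsPair p.1 p.2) (hq : IsPair q.1 q.2) (hr : IsPair r.1 r.2) :
    PairRel p q ∨ PairRel p r ∨ PairRel q r := by
  classical
  have h2 := Linear.two_ne_zero_of_odd_card hodd
  let orb : S2 × S2 → Finset (S2 × S2) := fun a => Finset.univ.filter (PairRel a)
  have hmem : ∀ a b, b ∈ orb a ↔ PairRel a b := fun a b => by simp [orb]
  have hsize : ∀ a : S2 × S2, IsPair a.1 a.2 → 2 * (orb a).card = Nat.card S2 := by
    intro a ha
    rw [← card_conj_preimage h2 ha (orb a) (fun b hb => (hmem a b).mp hb)]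
    exact Nat.card_congr (Equiv.subtypeUnivEquiv fun g => (hmem _ _).mpr ⟨g, rfl, rfl⟩)
  have hsub : ∀ a : S2 × S2, IsPair a.1 a.2 →
      orb a ⊆ Finset.univ.filter fun b => IsPair b.1 b.2 := by
    intro a ha b hb
    obtain ⟨g, h1, h2'⟩ := (hmem a b).mp hb
    simpa [← h1, ← h2'] using ha.conj g
  have hdisj : ∀ a b, ¬ PairRel a b → Disjoint (orb a) (orb b) := fun a b hab => by
    rw [Finset.disjoint_left]
    intro c hc hc'
    exact hab (((hmem a c).mp hc).trans ((hmem b c).mp hc').symm)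
  by_contra hcon
  push Not at hcon
  obtain ⟨hpq, hpr, hqr⟩ := hcon
  have := Finset.card_le_card (Finset.union_subset (Finset.union_subset (hsub p hp) (hsub q hq)) (hsub r hr))
  rw [Finset.card_union_of_disjoint (Finset.disjoint_union_left.mpr ⟨hdisj _ _ hpr, hdisj _ _ hqr⟩),
    Finset.card_union_of_disjoint (hdisj _ _ hpq)] at this
  have hall : (Finset.univ.filter fun b : S2 × S2 => IsPair b.1 b.2).card = Nat.card S2 := by
    rw [← card_pairs hodd, Nat.card_eq_fintype_card, Fintype.card_subtype]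
  rw [hall] at this
  have h1 := hsize p hp
  have h1' := hsize q hq
  have h1'' := hsize r hr
  have := Nat.card_pos (α := S2)
  omega

theorem exists_pair [Fintype F] (hodd : Odd (Fintype.card F)) : ∃ x y : S2, IsPair x y := by
  have := Nat.card_pos (α := S2)
  rw [← card_pairs hodd] at this
  obtain ⟨⟨p, hp⟩⟩ := (Nat.card_pos_iff.mp this).1
  exact ⟨_, _, hp⟩

theorem isSquare_two_iff_swap (h2 : (2 : F) ≠ 0) {x y : S2} (h : IsPair x y) :
    IsSquare (2 : F) ↔ PairRel (x, y) (y, x) := by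
  obtain ⟨hx, hy, hxy⟩ := h
  obtain ⟨tx, -⟩ := trace_zero_of_sq h2 hx
  obtain ⟨ty, -⟩ := trace_zero_of_sq h2 hy
  have mx : (x : M2) * (x : M2) = -1 := by simpa using congrArg (fun z : S2 => (z : M2)) hx
  have my : (y : M2) * (y : M2) = -1 := by simpa using congrArg (fun z : S2 => (z : M2)) hy
  have mxy : (x : M2) * (y : M2) = -((y : M2) * (x : M2)) := by
    simpa using congrArg (fun z : S2 => (z : M2)) hxy
  set s : M2 := (x : M2) + (y : M2) with hs
  have hss : s * s = (-2 : F) • (1 : M2) := by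
    rw [hs, add_mul, mul_add, mul_add, mx, my, mxy]; module
  constructor
  · rintro ⟨r, hr⟩
    have hr0 : r ≠ 0 := fun h => h2 (by rw [hr, h, mul_zero])
    have hdet : (r⁻¹ • s).det = 1 := by
      have e : (r⁻¹ • s) * (r⁻¹ • s) = -1 := by
        rw [Matrix.smul_mul, Matrix.mul_smul, smul_smul, hss, smul_smul, hr,
          show r⁻¹ * r⁻¹ * -(r * r) = -1 by field_simp, neg_smul, one_smul]
      have ht : (r⁻¹ • s).trace = 0 := by simp [hs, tx, ty]
      have e00 := congrFun (congrFun e 0) 0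
      simp only [Matrix.mul_apply, Fin.sum_univ_two, Matrix.neg_apply, Matrix.one_apply_eq] at e00
      rw [Matrix.trace_fin_two] at ht
      rw [Matrix.det_fin_two]
      linear_combination (r⁻¹ • s) 0 0 * ht - e00
    let g0 : S2 := ⟨r⁻¹ • s, hdet⟩
    have hcomm : ∀ (a b : S2), (s : M2) * (a : M2) = (b : M2) * s → g0 * a = b * g0 := fun a b e => by
      apply Subtype.ext
      show (r⁻¹ • s) * (a : M2) = (b : M2) * (r⁻¹ • s)
      rw [Matrix.smul_mul, Matrix.mul_smul, e]
    refine ⟨g0, mul_inv_eq_iff_eq_mul.mpr (hcomm x y ?_),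
      mul_inv_eq_iff_eq_mul.mpr (hcomm y x ?_)⟩
    · rw [hs, add_mul, mul_add, mx, my]; abel
    · rw [hs, add_mul, mul_add, mx, my]; abel
  · rintro ⟨g, h1, h1'⟩
    simp only at h1 h1'
    rw [mul_inv_eq_iff_eq_mul] at h1 h1'
    have hp : IsPair x y := ⟨hx, hy, hxy⟩
    have hg2 : g * g = 1 ∨ g * g = -1 := hp.eq_one_or_neg_one h2
      (by rw [mul_assoc, h1, ← mul_assoc, h1', mul_assoc])
      (by rw [mul_assoc, h1', ← mul_assoc, h1, mul_assoc])
    rcases hg2 with hg2 | hg2
    · exfalso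
      have hcomm : g * x = x * g := by
        rcases Linear.eq_one_or_neg_one_of_sq h2 hg2 with rfl | rfl <;> simp
      have hxy' : x = y := mul_right_cancel (hcomm.symm.trans h1)
      rw [hxy', hy] at hxy
      exact neg_ne_self h2 (-1) (by rw [← hxy])
    · obtain ⟨tg, tg4⟩ := trace_zero_of_sq h2 hg2
      have mg : (g : M2) * (g : M2) = -1 := by simpa using congrArg (fun z : S2 => (z : M2)) hg2
      have hgs : (g : M2) * s = s * (g : M2) := by
        have e1 : (g : M2) * (x : M2) = (y : M2) * (g : M2) := by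
          simpa using congrArg (fun z : S2 => (z : M2)) h1
        have e2 : (g : M2) * (y : M2) = (x : M2) * (g : M2) := by
          simpa using congrArg (fun z : S2 => (z : M2)) h1'
        rw [hs, mul_add, add_mul, e1, e2, add_comm]
      obtain ⟨a, b, hab⟩ := Linear.exists_of_commute (Linear.not_isScalarTwo_of_trace tg4) hgs.symm
      have ha : a = 0 := by
        have := congrArg Matrix.trace hab
        simp [hs, tx, ty, tg] at this
        exact this.resolve_right h2
      rw [ha, zero_smul, zero_add] at hab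
      rw [hab, Matrix.smul_mul, Matrix.mul_smul, mg, smul_smul] at hss
      refine ⟨b, ?_⟩
      have := congrFun (congrFun hss 0) 0
      simp at this
      linear_combination -this

theorem IsPair.rel_neg_right {x y : S2} (h : IsPair x y) : PairRel (x, y) (x, -y) := by
  refine ⟨x, by simp, ?_⟩
  rw [h.symm.inverts, sl_inv_eq_neg h.2.1]

theorem IsPair.rel_neg_left {x y : S2} (h : IsPair x y) : PairRel (x, y) (-x, y) := by
  refine ⟨y, ?_, by simp⟩
  rw [h.inverts, sl_inv_eq_neg h.1]

theorem IsPair.rel_prod (h2 : (2 : F) ≠ 0) (hsq : IsSquare (2 : F)) {x y : S2} (h : IsPair x y) :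
    PairRel (x, y) (x, x * y) := by
  obtain ⟨hx, hy, hxy⟩ := h
  obtain ⟨tx, -⟩ := trace_zero_of_sq h2 hx
  obtain ⟨r, hr⟩ := hsq
  have hr0 : r ≠ 0 := fun h => h2 (by rw [hr, h, mul_zero])
  have mx : (x : M2) * (x : M2) = -1 := by simpa using congrArg (fun z : S2 => (z : M2)) hx
  have mxy : (x : M2) * (y : M2) = -((y : M2) * (x : M2)) := by
    simpa using congrArg (fun z : S2 => (z : M2)) hxy
  have hdet : (r⁻¹ • ((1 : M2) + (x : M2))).det = 1 := by
    have hd := x.2
    rw [Matrix.det_fin_two] at hd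
    rw [Matrix.trace_fin_two] at tx
    rw [Matrix.det_smul, Fintype.card_fin, Matrix.det_fin_two]
    simp only [Matrix.add_apply, Matrix.one_apply_eq, ne_eq, zero_ne_one, not_false_eq_true,
      Matrix.one_apply_ne, one_ne_zero]
    field_simp
    linear_combination tx + hd + hr
  let g0 : S2 := ⟨r⁻¹ • ((1 : M2) + (x : M2)), hdet⟩
  have g0c : (g0 : M2) = r⁻¹ • ((1 : M2) + (x : M2)) := rfl
  refine ⟨g0, ?_, ?_⟩ <;> dsimp only <;> rw [mul_inv_eq_iff_eq_mul] <;>
    apply Subtype.ext <;>
    simp only [Matrix.SpecialLinearGroup.coe_mul, g0c, Matrix.smul_mul, Matrix.mul_smul] <;> congr 1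
  · simp [add_mul, mul_add]
  · rw [add_mul, one_mul, mul_add, mul_one, mul_assoc ((x : M2)) (y : M2) (x : M2),
      show (y : M2) * (x : M2) = -((x : M2) * (y : M2)) by rw [mxy, neg_neg], mul_neg,
      ← mul_assoc, mx, neg_mul, one_mul, neg_neg, add_comm]

section proj

local notation "π" => (QuotientGroup.mk : S2 → P2)

theorem proj_eq_iff {a b : S2} : π a = π b ↔ b = a ∨ b = -a := by
  rw [QuotientGroup.eq, Linear.mem_center_SL_two, inv_mul_eq_iff_eq_mul, inv_mul_eq_iff_eq_mul,
    mul_one, mul_neg, mul_one]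

theorem proj_neg (a : S2) : π (-a) = π a := proj_eq_iff.mpr (Or.inr (neg_neg a).symm)

theorem proj_ne_one (h2 : (2 : F) ≠ 0) {x : S2} (hx : x * x = -1) : π x ≠ 1 := by
  intro h
  rw [← QuotientGroup.mk_one, proj_eq_iff] at h
  have : x * x = 1 := by
    rcases h with h | h
    · rw [← h, one_mul]
    · rw [show x = -1 by rw [h, neg_neg], neg_mul_neg, one_mul]
  rw [this] at hx
  exact neg_ne_self h2 1 hx.symm

theorem proj_sq {x : S2} (hx : x * x = -1) : π x * π x = 1 := by
  rw [← QuotientGroup.mk_mul, hx, proj_neg, QuotientGroup.mk_one]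

theorem IsPair.proj_comm {x y : S2} (h : IsPair x y) : π x * π y = π y * π x := by
  rw [← QuotientGroup.mk_mul, ← QuotientGroup.mk_mul, h.2.2, proj_neg]

theorem IsPair.proj_ne (h2 : (2 : F) ≠ 0) {x y : S2} (h : IsPair x y) : π x ≠ π y := by
  intro e
  apply proj_ne_one h2 h.prod.2.1
  rw [QuotientGroup.mk_mul, ← e, proj_sq h.1]

theorem lift_involution (h2 : (2 : F) ≠ 0) {u : P2} (h1 : u ≠ 1) (hu : u * u = 1) {x : S2}
    (hx : π x = u) : x * x = -1 := by
  subst hx
  have hsq : x * x ∈ Subgroup.center S2 := by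
    rw [← QuotientGroup.eq_one_iff, QuotientGroup.mk_mul]; exact hu
  refine (Linear.mem_center_SL_two.mp hsq).resolve_left fun e => h1 ?_
  exact (QuotientGroup.eq_one_iff x).mpr
    (Linear.mem_center_SL_two.mpr (Linear.eq_one_or_neg_one_of_sq h2 e))

/-- Lifts of two commuting distinct involutions anticommute. -/
theorem isPair_of_proj (h2 : (2 : F) ≠ 0) {x y : S2} (hx1 : π x ≠ 1) (hy1 : π y ≠ 1)
    (hx : π x * π x = 1) (hy : π y * π y = 1) (hxy : π x * π y = π y * π x) (hne : π x ≠ π y) :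
    IsPair x y := by
  have hxx := lift_involution h2 hx1 hx rfl
  have hyy := lift_involution h2 hy1 hy rfl
  refine ⟨hxx, hyy, ?_⟩
  rw [← QuotientGroup.mk_mul, ← QuotientGroup.mk_mul] at hxy
  rcases proj_eq_iff.mp hxy with e | e
  · exfalso
    obtain ⟨tx, tx4⟩ := trace_zero_of_sq h2 hxx
    obtain ⟨ty, -⟩ := trace_zero_of_sq h2 hyy
    rcases Linear.eq_or_eq_inv_of_trace tx4 (Subgroup.mem_centralizer_singleton_iff.mpr e)
      (ty.trans tx.symm) with h | h
    · exact hne (by rw [h])
    · exact hne (by rw [h, sl_inv_eq_neg hxx, proj_neg])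
  · rw [e, neg_neg]

theorem klein_props (V : Subgroup P2) [IsKleinFour V] {u v : P2} (hu : u ∈ V) (hv : v ∈ V) :
    u * u = 1 ∧ u * v = v * u :=
  ⟨congrArg Subtype.val (IsKleinFour.mul_self (⟨u, hu⟩ : V)),
    congrArg Subtype.val (mul_comm_of_exponent_two IsKleinFour.exponent_two (⟨u, hu⟩ : V) ⟨v, hv⟩)⟩

open scoped Classical in
/-- The pairs over a four-group. -/
noncomputable def pairsOf [Fintype F] (V : Subgroup P2) : Finset (S2 × S2) :=
  Finset.univ.filter fun q => IsPair q.1 q.2 ∧ π q.1 ∈ V ∧ π q.2 ∈ V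

theorem mem_pairsOf [Fintype F] {V : Subgroup P2} {q : S2 × S2} :
    q ∈ pairsOf V ↔ IsPair q.1 q.2 ∧ π q.1 ∈ V ∧ π q.2 ∈ V := by
  simp [pairsOf]

theorem card_pairsOf [Fintype F] (h2 : (2 : F) ≠ 0) (V : Subgroup P2) [IsKleinFour V] :
    (pairsOf V).card = 24 := by
  classical
  let W : Finset P2 := Finset.univ.filter fun u => u ∈ V ∧ u ≠ 1
  have hW : W.card = 3 := by
    have h4 : (Finset.univ.filter fun u : P2 => u ∈ V).card = 4 := by
      rw [← Fintype.card_subtype, ← Nat.card_eq_fintype_card]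
      exact IsKleinFour.card_four (G := V)
    have : W = (Finset.univ.filter fun u : P2 => u ∈ V).erase 1 := by
      ext u; simp [W, and_comm]
    rw [this, Finset.card_erase_of_mem (by simp [one_mem V]), h4]
  rw [Finset.card_eq_sum_card_fiberwise (f := fun q : S2 × S2 => (π q.1, π q.2)) (t := W.offDiag)]
  · refine (Finset.sum_congr rfl (g := fun _ => 4) fun b hb => ?_).trans
      (by rw [Finset.sum_const, Finset.offDiag_card, hW, smul_eq_mul])
    simp only [W, Finset.mem_offDiag, Finset.mem_filter, Finset.mem_univ, true_and] at hb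
    obtain ⟨⟨hu, hu1⟩, ⟨hv, hv1⟩, huv⟩ := hb
    obtain ⟨x, hx⟩ := QuotientGroup.mk_surjective b.1
    obtain ⟨y, hy⟩ := QuotientGroup.mk_surjective b.2
    have hpair : ∀ a c : S2, π a = b.1 → π c = b.2 → IsPair a c := fun a c ha hc =>
      isPair_of_proj h2 (ha ▸ hu1) (hc ▸ hv1) (ha ▸ (klein_props V hu hu).1) (hc ▸ (klein_props V hv hv).1)
        (by rw [ha, hc]; exact (klein_props V hu hv).2) (by rw [ha, hc]; exact huv)
    have : ({q ∈ pairsOf V | (π q.1, π q.2) = b}) = ({x, -x} : Finset S2) ×ˢ ({y, -y} : Finset S2) := by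
      ext q
      simp only [Finset.mem_filter, mem_pairsOf, Finset.mem_product, Finset.mem_insert, Finset.mem_singleton]
      rw [Prod.ext_iff]
      constructor
      · rintro ⟨-, e1, e2⟩
        exact ⟨proj_eq_iff.mp (hx.trans e1.symm), proj_eq_iff.mp (hy.trans e2.symm)⟩
      · rintro ⟨e1, e2⟩
        have f1 : π q.1 = b.1 := (proj_eq_iff.mpr e1).symm.trans hx
        have f2 : π q.2 = b.2 := (proj_eq_iff.mpr e2).symm.trans hy
        exact ⟨⟨hpair _ _ f1 f2, f1 ▸ hu, f2 ▸ hv⟩, f1, f2⟩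
    rw [this, Finset.card_product, Finset.card_pair (neg_ne_self h2 x).symm,
      Finset.card_pair (neg_ne_self h2 y).symm]
  · intro q hq
    obtain ⟨hq, hq1, hq2⟩ := mem_pairsOf.mp hq
    simp only [W, Finset.mem_coe, Finset.mem_offDiag, Finset.mem_filter, Finset.mem_univ, true_and]
    exact ⟨⟨hq1, proj_ne_one h2 hq.1⟩, ⟨hq2, proj_ne_one h2 hq.2.1⟩, hq.proj_ne h2⟩

theorem klein_elems {V : Subgroup P2} [IsKleinFour V] {u v : P2} (hu : u ∈ V) (hv : v ∈ V)
    (hu1 : u ≠ 1) (hv1 : v ≠ 1) (huv : u ≠ v) {z : P2} (hz : z ∈ V) :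
    z = 1 ∨ z = u ∨ z = v ∨ z = u * v := by
  have hsub : ({1, u, v, u * v} : Set P2) ⊆ V := by
    intro a ha
    simp only [Set.mem_insert_iff, Set.mem_singleton_iff] at ha
    rcases ha with rfl | rfl | rfl | rfl
    exacts [one_mem V, hu, hv, mul_mem hu hv]
  have hu2 := (klein_props V hu hu).1
  have h1 : u * v ≠ 1 := fun e => huv ((inv_eq_of_mul_eq_one_right hu2).symm.trans (inv_eq_of_mul_eq_one_right e))
  have hcard : ({1, u, v, u * v} : Set P2).ncard = 4 := by
    rw [Set.ncard_insert_of_notMem (by simp [hu1.symm, hv1.symm, h1.symm]),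
      Set.ncard_insert_of_notMem (by simp [huv, hv1]), Set.ncard_pair (by simp [hu1])]
  have hfin : (V : Set P2).Finite := Nat.finite_of_card_ne_zero (α := V) (by simp)
  have hset : ({1, u, v, u * v} : Set P2) = V :=
    Set.eq_of_subset_of_ncard_le hsub
      (by rw [hcard, ← Nat.card_coe_set_eq]; exact (IsKleinFour.card_four (G := V)).le) hfin
  have : z ∈ ({1, u, v, u * v} : Set P2) := by rw [hset]; exact hz
  simpa using this

theorem klein_eq_of_pair {V W : Subgroup P2} [IsKleinFour V] [IsKleinFour W] (h2 : (2 : F) ≠ 0) {q : S2 × S2}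
    (hq : IsPair q.1 q.2) (hV : π q.1 ∈ V ∧ π q.2 ∈ V) (hW : π q.1 ∈ W ∧ π q.2 ∈ W) : V = W := by
  ext z
  constructor <;> intro hz
  · rcases klein_elems hV.1 hV.2 (proj_ne_one h2 hq.1) (proj_ne_one h2 hq.2.1) (hq.proj_ne h2) hz with
      rfl | rfl | rfl | rfl
    exacts [one_mem W, hW.1, hW.2, mul_mem hW.1 hW.2]
  · rcases klein_elems hW.1 hW.2 (proj_ne_one h2 hq.1) (proj_ne_one h2 hq.2.1) (hq.proj_ne h2) hz with
      rfl | rfl | rfl | rfl
    exacts [one_mem V, hV.1, hV.2, mul_mem hV.1 hV.2]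

/-- the four-group of a pair -/
theorem exists_klein (h2 : (2 : F) ≠ 0) {x y : S2} (h : IsPair x y) :
    ∃ V : Subgroup P2, IsKleinFour V ∧ π x ∈ V ∧ π y ∈ V := by
  have ux := proj_sq h.1
  have uy := proj_sq h.2.1
  have hc := h.proj_comm
  have hne := h.proj_ne h2
  have hx1 := proj_ne_one h2 h.1
  have hy1 := proj_ne_one h2 h.2.1
  set u := π x
  set v := π y
  have a1 : u * (u * v) = v := by rw [← mul_assoc, ux, one_mul]
  have a2 : u * v * u = v := by rw [hc, mul_assoc, ux, mul_one]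
  have a3 : u * v * v = u := by rw [mul_assoc, uy, mul_one]
  have a4 : v * (u * v) = u := by rw [hc, ← mul_assoc, uy, one_mul]
  have a5 : v * u = u * v := hc.symm
  have a6 : u * v * (u * v) = 1 := by rw [← mul_assoc, a2, uy]
  let V : Subgroup P2 :=
    { carrier := {1, u, v, u * v}
      one_mem' := Set.mem_insert _ _
      mul_mem' := by
        intro a b ha hb
        simp only [Set.mem_insert_iff, Set.mem_singleton_iff] at ha hb ⊢
        rcases ha with rfl | rfl | rfl | rfl <;> rcases hb with rfl | rfl | rfl | rfl <;>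
          simp [ux, uy, a1, a2, a3, a4, a5, a6]
      inv_mem' := by
        intro a ha
        simp only [Set.mem_insert_iff, Set.mem_singleton_iff] at ha ⊢
        rcases ha with rfl | rfl | rfl | rfl
        · simp
        · exact Or.inr (Or.inl (inv_eq_of_mul_eq_one_right ux))
        · exact Or.inr (Or.inr (Or.inl (inv_eq_of_mul_eq_one_right uy)))
        · exact Or.inr (Or.inr (Or.inr (inv_eq_of_mul_eq_one_right a6))) }
  have hmemu : u ∈ V := Set.mem_insert_of_mem _ (Set.mem_insert _ _)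
  have hmemv : v ∈ V := Set.mem_insert_of_mem _ (Set.mem_insert_of_mem _ (Set.mem_insert _ _))
  refine ⟨V, ⟨?_, ?_⟩, hmemu, hmemv⟩
  · show Nat.card ({1, u, v, u * v} : Set P2) = 4
    have h1 : u * v ≠ 1 := fun e => hne ((inv_eq_of_mul_eq_one_right ux).symm.trans (inv_eq_of_mul_eq_one_right e))
    rw [Nat.card_coe_set_eq, Set.ncard_insert_of_notMem (by simp [hx1.symm, hy1.symm, h1.symm]),
      Set.ncard_insert_of_notMem (by simp [hne, hy1]), Set.ncard_pair (by simp [hx1])]
  · have hd : Monoid.exponent V ∣ 2 := Monoid.exponent_dvd_of_forall_pow_eq_one fun a => by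
      refine Subtype.ext ?_
      show (a : P2) ^ 2 = 1
      rw [sq]
      have ha : (a : P2) ∈ ({1, u, v, u * v} : Set P2) := a.2
      simp only [Set.mem_insert_iff, Set.mem_singleton_iff] at ha
      rcases ha with e | e | e | e <;> rw [e]
      exacts [one_mul 1, ux, uy, a6]
    refine ((Nat.dvd_prime Nat.prime_two).mp hd).resolve_left fun e => hx1 ?_
    haveI := Monoid.exp_eq_one_iff.mp e
    exact congrArg Subtype.val (Subsingleton.elim (⟨u, hmemu⟩ : V) 1)

theorem exists_pair_of_klein [Fintype F] (h2 : (2 : F) ≠ 0) (V : Subgroup P2) [IsKleinFour V] :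
    ∃ q : S2 × S2, q ∈ pairsOf V := by
  have := card_pairsOf h2 V
  exact (Finset.card_pos.mp (by omega))

theorem card_klein [Fintype F] (hodd : Odd (Fintype.card F)) :
    Nat.card {V : Subgroup P2 // IsKleinFour V} * 24 = Nat.card S2 := by
  classical
  have h2 := Linear.two_ne_zero_of_odd_card hodd
  rw [← card_pairs hodd]
  haveI := Fintype.ofFinite {V : Subgroup P2 // IsKleinFour V}
  let f : (Σ V : {V : Subgroup P2 // IsKleinFour V}, {q // q ∈ pairsOf V.1}) → {p : S2 × S2 // IsPair p.1 p.2} :=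
    fun s => ⟨s.2.1, (mem_pairsOf.mp s.2.2).1⟩
  have hf : Function.Bijective f := by
    constructor
    · rintro ⟨⟨V, hV⟩, q, hq⟩ ⟨⟨W, hW⟩, q', hq'⟩ e
      have e' : q = q' := congrArg Subtype.val e
      subst e'
      obtain rfl : V = W := klein_eq_of_pair h2 (mem_pairsOf.mp hq).1 (mem_pairsOf.mp hq).2 (mem_pairsOf.mp hq').2
      rfl
    · rintro ⟨q, hq⟩
      obtain ⟨V, hV, h⟩ := exists_klein h2 hq
      exact ⟨⟨⟨V, hV⟩, q, mem_pairsOf.mpr ⟨hq, h⟩⟩, rfl⟩
  rw [← Nat.card_congr (Equiv.ofBijective f hf), Nat.card_sigma,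
    Finset.sum_congr rfl (fun V _ => ?_), Finset.sum_const, smul_eq_mul, Finset.card_univ,
    ← Nat.card_eq_fintype_card]
  haveI := V.2
  rw [Nat.card_eq_fintype_card, Fintype.card_coe, card_pairsOf h2]

theorem pairsOf_rel [Fintype F] (h2 : (2 : F) ≠ 0) (hsq : IsSquare (2 : F)) {V : Subgroup P2}
    [IsKleinFour V] {p q : S2 × S2} (hp : p ∈ pairsOf V) (hq : q ∈ pairsOf V) : PairRel p q := by
  obtain ⟨hp0, hpu, hpv⟩ := mem_pairsOf.mp hp
  obtain ⟨hq0, hqu, hqv⟩ := mem_pairsOf.mp hq
  obtain ⟨x, y⟩ := p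
  obtain ⟨a, b⟩ := q
  simp only at *
  have base : ∀ {a b : S2}, IsPair a b → ∀ {a' b' : S2}, π a = π a' → π b = π b' →
      PairRel (a, b) (a', b') := by
    intro a b hab a' b' ha hb
    rcases proj_eq_iff.mp ha with rfl | rfl <;> rcases proj_eq_iff.mp hb with rfl | rfl
    · exact ⟨1, by simp, by simp⟩
    · exact hab.rel_neg_right
    · exact hab.rel_neg_left
    · refine hab.rel_neg_left.trans (IsPair.rel_neg_right ?_)
      exact ⟨by simp [hab.1], hab.2.1, by simp [hab.2.2]⟩
  have hs : ∀ {a b : S2}, IsPair a b → PairRel (a, b) (b, a) := fun h => (isSquare_two_iff_swap h2 h).mp hsq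
  have hr : ∀ {a b : S2}, IsPair a b → PairRel (a, b) (a, a * b) := fun h => h.rel_prod h2 hsq
  have ha1 := proj_ne_one h2 hq0.1
  have hb1 := proj_ne_one h2 hq0.2.1
  have hab := hq0.proj_ne h2
  have el := fun {z : P2} (hz : z ∈ V) =>
    klein_elems hpu hpv (proj_ne_one h2 hp0.1) (proj_ne_one h2 hp0.2.1) (hp0.proj_ne h2) hz
  rw [← QuotientGroup.mk_mul] at el
  have hyx : π (y * x) = π (x * y) := by rw [hp0.2.2, proj_neg]
  rcases el hqu with ea | ea | ea | ea <;> rcases el hqv with eb | eb | eb | eb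
  all_goals first
    | exact absurd ea ha1
    | exact absurd eb hb1
    | exact absurd (ea.trans eb.symm) hab
    | exact base hp0 ea.symm eb.symm
    | exact (hr hp0).trans (base hp0.prod ea.symm eb.symm)
    | exact (hs hp0).trans (base hp0.symm ea.symm eb.symm)
    | exact ((hr hp0).trans (hs hp0.prod)).trans (base hp0.prod.symm ea.symm eb.symm)
    | exact ((hs hp0).trans (hr hp0.symm)).trans (base hp0.symm.prod ea.symm (hyx.trans eb.symm))
    | exact (((hs hp0).trans (hr hp0.symm)).trans (hs hp0.symm.prod)).trans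
        (base hp0.symm.prod.symm (hyx.trans ea.symm) eb.symm)

theorem pairsOf_conj [Fintype F] {V : Subgroup P2} {q : S2 × S2} (g : S2) :
    q ∈ pairsOf V →
      (g * q.1 * g⁻¹, g * q.2 * g⁻¹) ∈ pairsOf (V.map (MulAut.conj (π g)).toMonoidHom) := by
  intro hq
  obtain ⟨h, hu, hv⟩ := mem_pairsOf.mp hq
  refine mem_pairsOf.mpr ⟨h.conj g, ?_, ?_⟩
  · exact ⟨_, hu, rfl⟩
  · exact ⟨_, hv, rfl⟩

theorem isKleinFour_map (V : Subgroup P2) [hV : IsKleinFour V] (g : P2) :
    IsKleinFour (V.map (MulAut.conj g).toMonoidHom) := by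
  have e : V ≃* V.map (MulAut.conj g).toMonoidHom :=
    Subgroup.equivMapOfInjective V _ (MulAut.conj g).injective
  exact ⟨by rw [← Nat.card_congr e.toEquiv]; exact hV.card_four,
    by rw [← Monoid.exponent_eq_of_mulEquiv e]; exact hV.exponent_two⟩

theorem klein_conj_of_rel [Fintype F] (h2 : (2 : F) ≠ 0) {V W : Subgroup P2} [IsKleinFour V]
    [IsKleinFour W] {p q : S2 × S2} (hp : p ∈ pairsOf V) (hq : q ∈ pairsOf W) (h : PairRel p q) :
    ∃ g : P2, W = V.map (MulAut.conj g).toMonoidHom := by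
  obtain ⟨g, h1, h1'⟩ := h
  refine ⟨π g, ?_⟩
  haveI := isKleinFour_map V (π g)
  have := pairsOf_conj g hp
  rw [h1, h1'] at this
  exact klein_eq_of_pair h2 (mem_pairsOf.mp hq).1 (mem_pairsOf.mp hq).2 (mem_pairsOf.mp this).2

theorem rel_of_klein_conj [Fintype F] (h2 : (2 : F) ≠ 0) (hsq : IsSquare (2 : F)) {V W : Subgroup P2}
    [IsKleinFour V] [IsKleinFour W] {p q : S2 × S2} (hp : p ∈ pairsOf V) (hq : q ∈ pairsOf W)
    (h : ∃ g : P2, W = V.map (MulAut.conj g).toMonoidHom) : PairRel p q := by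
  obtain ⟨g, rfl⟩ := h
  obtain ⟨g, rfl⟩ := QuotientGroup.mk_surjective g
  exact (show PairRel p (g * p.1 * g⁻¹, g * p.2 * g⁻¹) from ⟨g, rfl, rfl⟩).trans
    (pairsOf_rel h2 hsq (pairsOf_conj g hp) hq)

theorem card_normalizer [Fintype F] (hodd : Odd (Fintype.card F)) (V : Subgroup P2) [IsKleinFour V] :
    (IsSquare (2 : F) → Nat.card (Subgroup.normalizer (V : Set P2)) = 24) ∧
    (¬ IsSquare (2 : F) → Nat.card (Subgroup.normalizer (V : Set P2)) = 12) := by
  classical
  have h2 := Linear.two_ne_zero_of_odd_card hodd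
  obtain ⟨p, hp⟩ := exists_pair_of_klein h2 V
  obtain ⟨hp0, hpu, hpv⟩ := mem_pairsOf.mp hp
  let T := (pairsOf V).filter (PairRel p)
  set N := Subgroup.normalizer (V : Set P2) with hN
  have hmem : ∀ g : S2, π g ∈ N ↔ (g * p.1 * g⁻¹, g * p.2 * g⁻¹) ∈ T := by
    intro g
    rw [Finset.mem_filter, mem_pairsOf]
    constructor
    · intro hg
      exact ⟨⟨hp0.conj g, (Subgroup.mem_normalizer_iff.mp hg _).mp hpu,
        (Subgroup.mem_normalizer_iff.mp hg _).mp hpv⟩, g, rfl, rfl⟩
    · rintro ⟨⟨h, hu, hv⟩, -⟩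
      haveI := isKleinFour_map V (π g)
      have heq : V.map (MulAut.conj (π g)).toMonoidHom = V :=
        klein_eq_of_pair h2 h (mem_pairsOf.mp (pairsOf_conj g hp)).2 ⟨hu, hv⟩
      rw [hN, Subgroup.mem_normalizer_iff]
      intro z
      constructor
      · intro hz
        rw [← heq]; exact ⟨z, hz, rfl⟩
      · intro hz
        rw [← heq] at hz
        obtain ⟨z', hz', e⟩ := hz
        have : z' = z := by
          have e' : π g * z' * (π g)⁻¹ = π g * z * (π g)⁻¹ := e
          simpa using e'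
        exact this ▸ hz'
  have hcount : 2 * Nat.card N = 2 * T.card := by
    rw [← card_conj_preimage h2 hp0 T (fun q hq => (Finset.mem_filter.mp hq).2),
      ← Nat.card_congr (Equiv.subtypeEquivRight hmem)]
    have hker : Nat.card (Subgroup.center S2) = 2 := by
      have e : (Subgroup.center S2 : Set S2) = {1, -1} := by
        ext a; simp [Linear.mem_center_SL_two]
      rw [show Nat.card (Subgroup.center S2) = Nat.card (Subgroup.center S2 : Set S2) from rfl, e,
        Nat.card_coe_set_eq, Set.ncard_pair (neg_ne_self h2 1).symm]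
    have hc := Subgroup.card_mul_index ((Subgroup.center S2).subgroupOf (N.comap (QuotientGroup.mk' (Subgroup.center S2))))
    have hle : Subgroup.center S2 ≤ N.comap (QuotientGroup.mk' (Subgroup.center S2)) := fun a ha =>
      Subgroup.mem_comap.mpr (by
        rw [QuotientGroup.mk'_apply, (QuotientGroup.eq_one_iff a).mpr ha]; exact one_mem N)
    have hidx : ((Subgroup.center S2).subgroupOf (N.comap (QuotientGroup.mk' (Subgroup.center S2)))).index =
        Nat.card N := by
      let f : N.comap (QuotientGroup.mk' (Subgroup.center S2)) →* N :=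
        MonoidHom.mk' (fun a => ⟨π a.1, a.2⟩) (fun a b => Subtype.ext (QuotientGroup.mk_mul _ a.1 b.1))
      have hfs : Function.Surjective f := fun ⟨b, hb⟩ => by
        obtain ⟨a, rfl⟩ := QuotientGroup.mk_surjective b
        exact ⟨⟨a, hb⟩, rfl⟩
      have hk : f.ker = (Subgroup.center S2).subgroupOf (N.comap (QuotientGroup.mk' (Subgroup.center S2))) := by
        ext a
        rw [MonoidHom.mem_ker, Subgroup.mem_subgroupOf, ← QuotientGroup.eq_one_iff]
        exact Subtype.ext_iff
      rw [← hk, Subgroup.index_ker, MonoidHom.range_eq_top.mpr hfs, Subgroup.card_top]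
    rw [Nat.card_congr (Subgroup.subgroupOfEquivOfLe hle).toEquiv, hker, hidx] at hc
    exact hc
  have hT : Nat.card N = T.card := by omega
  constructor
  · intro hsq
    rw [hT, show T = pairsOf V from Finset.filter_true_of_mem fun q hq => pairsOf_rel h2 hsq hp hq,
      card_pairsOf h2]
  · intro hns
    rw [hT]
    have hsw : ((pairsOf V).filter fun q => ¬ PairRel p q).card = T.card := by
      refine Finset.card_bij (fun q _ => (q.2, q.1)) ?_ ?_ ?_
      · intro q hq
        obtain ⟨hq', hnq⟩ := Finset.mem_filter.mp hq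
        obtain ⟨h, hu, hv⟩ := mem_pairsOf.mp hq'
        refine Finset.mem_filter.mpr ⟨mem_pairsOf.mpr ⟨h.symm, hv, hu⟩, ?_⟩
        rcases two_classes hodd (q := q) (r := (q.2, q.1)) hp0 h h.symm with r | r | r
        · exact absurd r hnq
        · exact r
        · exact absurd ((isSquare_two_iff_swap h2 h).mpr r) hns
      · intro a _ b _ e
        simp only [Prod.mk.injEq] at e
        exact Prod.ext e.2 e.1
      · intro q hq
        obtain ⟨hq', hrq⟩ := Finset.mem_filter.mp hq
        obtain ⟨h, hu, hv⟩ := mem_pairsOf.mp hq'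
        refine ⟨(q.2, q.1), Finset.mem_filter.mpr ⟨mem_pairsOf.mpr ⟨h.symm, hv, hu⟩, fun r => ?_⟩, rfl⟩
        exact hns ((isSquare_two_iff_swap h2 h).mpr (hrq.symm.trans r))
    have := Finset.card_filter_add_card_filter_not (s := pairsOf V) (PairRel p)
    rw [hsw, card_pairsOf h2] at this
    show T.card = 12
    have : T.card + T.card = 24 := this
    omega

theorem normalizer_equiv [Fintype F] (hodd : Odd (Fintype.card F)) (V : Subgroup P2) [IsKleinFour V] :
    (IsSquare (2 : F) → Nonempty (Subgroup.normalizer (V : Set P2) ≃* Equiv.Perm (Fin 4))) ∧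
    (¬ IsSquare (2 : F) → Nonempty (Subgroup.normalizer (V : Set P2) ≃* alternatingGroup (Fin 4))) := by
  have h2 := Linear.two_ne_zero_of_odd_card hodd
  set N := Subgroup.normalizer (V : Set P2)
  have hVN : V ≤ N := Subgroup.le_normalizer
  haveI : (V.subgroupOf N).Normal := Subgroup.normal_in_normalizer
  have hV : Nat.card (V.subgroupOf N) = 4 := by
    rw [Nat.card_congr (Subgroup.subgroupOfEquivOfLe hVN).toEquiv]; exact IsKleinFour.card_four
  have hC : ∀ g : N, (∀ v ∈ V.subgroupOf N, g * v = v * g) → g ∈ V.subgroupOf N := by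
    intro g hg
    rw [Subgroup.mem_subgroupOf]
    obtain ⟨⟨x, y⟩, hp⟩ := exists_pair_of_klein h2 V
    obtain ⟨hxy, hu, hv⟩ := mem_pairsOf.mp hp
    simp only at hxy hu hv
    obtain ⟨a, ha⟩ := QuotientGroup.mk_surjective g.1
    have ex : π (a * x) = π (x * a) := by
      rw [QuotientGroup.mk_mul, QuotientGroup.mk_mul, ha]
      exact congrArg Subtype.val (hg ⟨π x, hVN hu⟩ hu)
    have ey : π (a * y) = π (y * a) := by
      rw [QuotientGroup.mk_mul, QuotientGroup.mk_mul, ha]
      exact congrArg Subtype.val (hg ⟨π y, hVN hv⟩ hv)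
    rw [← ha]
    have hyx : y * x = -(x * y) := by rw [hxy.2.2, neg_neg]
    have one : ∀ b : S2, b * x = x * b → b * y = y * b → π b = 1 := fun b h1 h1' => by
      rcases hxy.eq_one_or_neg_one h2 h1 h1' with rfl | rfl
      · rfl
      · rw [proj_neg]; rfl
    rcases proj_eq_iff.mp ex with e1 | e1 <;> rcases proj_eq_iff.mp ey with e2 | e2
    · rw [one a e1.symm e2.symm]; exact one_mem V
    · -- commutes with `x`, anticommutes with `y`
      have := one (a * x) (by rw [← e1, mul_assoc, ← e1]) (by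
        rw [mul_assoc, hxy.2.2, mul_neg, ← mul_assoc, show a * y = -(y * a) by rw [e2, neg_neg], neg_mul,
          neg_neg, mul_assoc])
      rw [QuotientGroup.mk_mul] at this
      rw [eq_inv_of_mul_eq_one_left this]
      exact inv_mem hu
    · have := one (a * y) (by
        rw [mul_assoc, hyx, mul_neg, ← mul_assoc, show a * x = -(x * a) by rw [e1, neg_neg], neg_mul,
          neg_neg, mul_assoc]) (by rw [← e2, mul_assoc, ← e2])
      rw [QuotientGroup.mk_mul] at this
      rw [eq_inv_of_mul_eq_one_left this]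
      exact inv_mem hv
    · have hax : a * x = -(x * a) := by rw [e1, neg_neg]
      have hay : a * y = -(y * a) := by rw [e2, neg_neg]
      have ax' : x * a = -(a * x) := by rw [hax, neg_neg]
      have ay' : y * a = -(a * y) := by rw [hay, neg_neg]
      have := one (a * (x * y))
        (by
          calc a * (x * y) * x = a * (x * (y * x)) := by simp only [mul_assoc]
            _ = a * y := by rw [hyx, mul_neg, ← mul_assoc x x y, hxy.1, neg_one_mul, neg_neg]
            _ = x * a * x * y := by rw [ax', neg_mul, neg_mul, mul_assoc a x x, hxy.1, mul_neg, mul_one,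
              neg_mul, neg_neg]
            _ = x * (a * (x * y)) := by simp only [mul_assoc])
        (by
          calc a * (x * y) * y = a * x * (y * y) := by simp only [mul_assoc]
            _ = -(a * x) := by rw [hxy.2.1, mul_neg, mul_one]
            _ = -(a * (y * x) * y) := by
              rw [hyx, mul_neg, neg_mul, neg_neg, mul_assoc a, mul_assoc x y y, hxy.2.1, mul_neg, mul_one, mul_neg]
            _ = y * a * x * y := by rw [ay', neg_mul, neg_mul, mul_assoc a y x]
            _ = y * (a * (x * y)) := by simp only [mul_assoc])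
      rw [QuotientGroup.mk_mul] at this
      rw [eq_inv_of_mul_eq_one_left this, QuotientGroup.mk_mul]
      exact inv_mem (mul_mem hu hv)
  exact ⟨fun hs => equiv_perm_four _ hV hC ((card_normalizer hodd V).1 hs),
    fun hs => equiv_alt_four _ hV hC ((card_normalizer hodd V).2 hs)⟩

end proj

end Cfsg.Agent.H34
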