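import Cfsg.Agent.Cores.ThirdMain
import Cfsg.Agent.BlockBasic.SingleBlock
import Cfsg.Agent.H61.CharP
import Cfsg.Agent.H65.Constrained
import Cfsg.Agent.CharInduce.Ops

/-!
A criterion for a character outside the principal block to vanish on the non-trivial
`p`-elements: centralisers with a self-centralising normal `p`-subgroup have a single block.
-/

set_option autoImplicit false
set_option linter.style.haveILetI false

namespace Cfsg.Agent.H34.OneBlock

open BlockBasic CharBasic

universe u

variable {G : Type u} [Group G]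

/-- A group with `C(O_p) ≤ O_p` has a single `p`-block. -/
theorem mem_principalBlock [Finite G] {p : ℕ} [Fact p.Prime] {M : Ideal AlgInt}
    (hM : IsPModular p M)
    (h : Subgroup.centralizer (Cfsg.pCore p G : Set G) ≤ Cfsg.pCore p G) (χ : IrrCharacter G) :
    χ ∈ principalBlock M G := by
  classical
  cases nonempty_fintype G
  haveI : Fintype (⊥ : Subgroup G) := Fintype.ofFinite _
  have hc : IsPConstrained p G := H65.isPConstrained_of_centralizer_le h
  have hN : (⊥ : Subgroup G) = pPrimeCore p G :=
    (H65.pPrimeCore_eq_bot_of_centralizer_le h).symm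
  let θ : IrrCharacter (⊥ : Subgroup G) := trivialIrr
  obtain ⟨B, hB, hmem, -⟩ := single_block_over_pPrimeCore hM hc ⊥ hN (θ := θ)
    (fun d => Subtype.ext (funext fun n => by rw [H80.conjTwist_apply]; rfl))
  have hall : ∀ ψ : IrrCharacter G, ψ ∈ B := fun ψ => by
    rw [hmem, classInner_def]
    have h1 : Nat.card (⊥ : Subgroup G) = 1 := Subgroup.card_bot
    simp only [h1, Nat.cast_one, inv_one, one_mul, Finset.univ_unique, Finset.sum_singleton]
    simp only [θ, trivialIrr, map_one, mul_one]
    exact IsIrr.one_ne_zero ψ.2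
  exact isPBlock_sameBlock hM hB (hall trivialIrr) (hall χ)

/-- The centraliser of a `p`-element `u` inherits a self-centralising normal `p`-subgroup. -/
theorem centralizer_pCore_le [Finite G] {p : ℕ} [hp : Fact p.Prime] {u : G}
    (hu : IsPGroup p (Subgroup.zpowers u)) (E : Subgroup G) (hE : IsPGroup p E)
    (hN : Subgroup.centralizer ({u} : Set G) ≤ Subgroup.normalizer (E : Set G))
    (hC : ∀ c : G, Commute c u → (∀ e ∈ E, Commute c e) → c ∈ E) :
    Subgroup.centralizer (Cfsg.pCore p (Subgroup.centralizer ({u} : Set G)) :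
        Set (Subgroup.centralizer ({u} : Set G))) ≤
      Cfsg.pCore p (Subgroup.centralizer ({u} : Set G)) := by
  set L := Subgroup.centralizer ({u} : Set G) with hL
  have huL : ∀ g : L, Commute (g : G) u := fun g => Subgroup.mem_centralizer_singleton_iff.1 g.2
  haveI hn : (E.subgroupOf L).Normal := ⟨fun e he g =>
    (Subgroup.mem_normalizer_iff.1 (hN g.2) e).1 he⟩
  have hR : E.subgroupOf L ≤ Cfsg.pCore p L := H61.le_pCore hn hE.comap_subtype
  refine H61.le_pCore inferInstance (H61.isPGroup_of_forall_coprime fun c hc hco => ?_)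
  have hco' : (orderOf (c : G)).Coprime p := by rwa [Subgroup.orderOf_coe]
  have hzu : Subgroup.zpowers u ≤ Subgroup.normalizer (E : Set G) :=
    Subgroup.zpowers_le.2 (hN (Subgroup.mem_centralizer_singleton_iff.2 rfl))
  have hcE := H61.commute_of_commute_centralizer hE hu hzu hco' (hN c.2)
    (by rintro _ ⟨k, rfl⟩; exact (huL c).zpow_right k)
    (fun x hx hxu => by
      have hxL : x ∈ L := Subgroup.mem_centralizer_singleton_iff.2
        (hxu u (Subgroup.mem_zpowers u)).eq.symm
      exact (congrArg Subtype.val (hc ⟨x, hxL⟩ (hR hx))).symm)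
  exact Subtype.ext (H61.eq_one_of_mem_pGroup hE (hC c (huL c) hcE) hco')

/-- A character outside the principal block vanishes at a `p`-element whose centraliser has a
single block. -/
theorem apply_eq_zero [Finite G] {p : ℕ} [hp : Fact p.Prime] {M : Ideal AlgInt}
    (hM : IsPModular p M) {u : G} {e : ℕ} (hu : orderOf u = p ^ e)
    (hone : ∀ ψ : IrrCharacter (Subgroup.centralizer ({u} : Set G)),
      ψ ∈ principalBlock M (Subgroup.centralizer ({u} : Set G)))
    {χ : IrrCharacter G} (hχ : χ ∉ principalBlock M G) : (χ : G → ℂ) u = 0 := by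
  classical
  set L := Subgroup.centralizer ({u} : Set G) with hL
  haveI : Fintype L := Fintype.ofFinite _
  set θ : L → ℂ := fun c => (χ : G → ℂ) (u * (c : G)) with hθdef
  have hθ : IsClassFunction L θ := fun g k => by
    show (χ : G → ℂ) (u * ((k * g * k⁻¹ : L) : G)) = _
    have hk := Subgroup.mem_centralizer_singleton_iff.mp k.2
    rw [show u * ((k * g * k⁻¹ : L) : G) = (k : G) * (u * (g : G)) * (k : G)⁻¹ by
      push_cast; rw [← mul_assoc (k : G) u, hk]; group]
    exact IsIrr.isClassFunction χ.2 _ _
  have h2 := Cores.second_main hM hu (isPBlock_blockOf M χ) (self_mem_blockOf hM χ)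
    (b := principalBlock M L) (isPBlock_principalBlock M)
    (fun h => hχ ((Cores.third_main hM h).2 rfl ▸ self_mem_blockOf hM χ))
    1 (by rw [orderOf_one, Nat.dvd_one]; exact hp.out.ne_one)
  rw [blockPart, finsum_mem_eq_sum_ite, Subsingleton.elim (Fintype.ofFinite L) ‹Fintype L›] at h2
  simp only [hone, if_true] at h2
  have h3 : θ 1 = 0 := by
    rw [classFunction_expansion hθ]
    simpa using h2
  simpa [hθdef] using h3

/-- A character vanishing at the non-trivial `p`-elements has degree divisible by `|G|_p`. -/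
theorem pow_dvd_degree [Fintype G] {p : ℕ} [hp : Fact p.Prime] (χ : IrrCharacter G)
    (h : ∀ u : G, u ≠ 1 → (∃ k, orderOf u = p ^ k) → (χ : G → ℂ) u = 0) :
    ∃ k : ℕ, (χ : G → ℂ) 1 = ((p ^ (Nat.card G).factorization p * k : ℕ) : ℂ) := by
  classical
  obtain ⟨P⟩ : Nonempty (Sylow p G) := inferInstance
  haveI : Fintype (P : Subgroup G) := Fintype.ofFinite _
  obtain ⟨k, hk⟩ := classInner_isChar_nat
    (CharInduce.IsChar.res (IsIrr.isCharacter χ.2) (P : Subgroup G))
    (IsIrr.isCharacter (trivialIrr (G := (P : Subgroup G))).2)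
  refine ⟨k, ?_⟩
  rw [classInner_def, Finset.sum_eq_single 1] at hk
  · simp only [trivialIrr, map_one, mul_one, Subgroup.coe_one] at hk
    rw [P.card_eq_multiplicity, inv_mul_eq_iff_eq_mul₀
      (Nat.cast_ne_zero.2 (pow_ne_zero _ hp.out.ne_zero))] at hk
    rw [hk]
    push_cast
    ring
  · intro b _ hb
    obtain ⟨i, hi⟩ := IsPGroup.iff_orderOf.1 P.isPGroup' b
    rw [h (b : G) (fun e => hb (Subtype.ext e)) ⟨i, by rw [Subgroup.orderOf_coe, hi]⟩, zero_mul]
  · simp

end Cfsg.Agent.H34.OneBlock
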