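import Cfsg.Agent.H34.MathieuInvol
import Cfsg.Agent.H34.TwoLocalBlock

/-!
Characters outside the principal `2`-block vanish at `2`-elements whose involution fixes a point.
-/

set_option autoImplicit false

namespace Cfsg.Agent.H34.MathieuVanish

open Cfsg Cfsg.Agent.Golay Cfsg.Agent.H34.MathieuInvol
open scoped Pointwise

theorem apply_eq_zero_of_fixed {H : Subgroup (Equiv.Perm GolayPt)} (hH : H ≤ M24) {M : Ideal AlgInt}
    (hM : IsPModular 2 M) {χ : IrrCharacter H} (hχ : χ ∉ principalBlock M H) {u : H} {e : ℕ}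
    (hu : orderOf u = 2 ^ (e + 1)) {a : GolayPt}
    (ha : (((u ^ 2 ^ e : H) : Equiv.Perm GolayPt)) a = a)
    (hoct : octGrp (fixSet ((u ^ 2 ^ e : H) : Equiv.Perm GolayPt)) ≤ H) :
    (χ : H → ℂ) u = 0 := by
  haveI : Fact (Nat.Prime 2) := ⟨Nat.prime_two⟩
  set z : H := u ^ 2 ^ e with hz
  set σ : Equiv.Perm GolayPt := (z : Equiv.Perm GolayPt) with hσdef
  have hsq : z * z = 1 := by
    rw [hz, ← pow_add, ← two_mul, ← pow_succ', ← hu, pow_orderOf_eq_one]
  have hσsq : σ * σ = 1 := by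
    rw [hσdef, ← Subgroup.coe_mul, hsq]; rfl
  have hσne : σ ≠ 1 := by
    intro h
    have h1 : u ^ 2 ^ e = 1 := Subtype.ext h
    have h2 := orderOf_dvd_of_pow_eq_one h1
    rw [hu, Nat.pow_dvd_pow_iff_le_right (by norm_num)] at h2
    omega
  set o := fixSet σ
  have ho : o ∈ octads := fixSet_mem_octads (hH z.2) hσsq hσne ha
  have hE : IsPGroup 2 ((octGrp o).subgroupOf H) := fun x => ⟨1, Subtype.ext (Subtype.ext (by
    have h2 := (octad_fixing ho).2 _ x.2
    simpa [pow_two] using h2))⟩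
  have hpow : IsPGroup 2 (Subgroup.zpowers u) := IsPGroup.of_card
    (n := e + 1) (by rw [Nat.card_zpowers, hu])
  have hcomm : ∀ c : H, Commute c u → Commute (c : Equiv.Perm GolayPt) σ := fun c hc =>
    (hc.pow_right (2 ^ e)).map H.subtype
  have hstab : ∀ c : H, Commute c u → (c : Equiv.Perm GolayPt) • o = o := fun c hc => by
    have h := fixSet_conj (c : Equiv.Perm GolayPt) σ
    rw [(hcomm c hc).eq, mul_inv_cancel_right] at h
    exact h.symm
  refine OneBlock.apply_eq_zero hM hu (fun ψ => OneBlock.mem_principalBlock hM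
    (OneBlock.centralizer_pCore_le hpow ((octGrp o).subgroupOf H) hE ?_ ?_) ψ) hχ
  · intro c hc
    have hc' : Commute c u := Subgroup.mem_centralizer_singleton_iff.1 hc
    have key : ∀ (k : H), Commute k u → ∀ x ∈ (octGrp o).subgroupOf H,
        k * x * k⁻¹ ∈ (octGrp o).subgroupOf H := by
      intro k hk x hx
      rw [Subgroup.mem_subgroupOf, mem_octGrp] at hx ⊢
      refine ⟨hH (k * x * k⁻¹).2, fun p hp => ?_⟩
      have hp' : (k : Equiv.Perm GolayPt).symm p ∈ o := by
        rw [← mem_smul_finset_iff, hstab k hk]; exact hp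
      simp only [Subgroup.coe_mul, Subgroup.coe_inv, Equiv.Perm.mul_apply, Equiv.Perm.coe_inv,
        hx.2 _ hp', Equiv.apply_symm_apply]
    refine Subgroup.mem_normalizer_iff.2 fun x => ⟨key c hc' x, fun hx => ?_⟩
    have h1 := key c⁻¹ hc'.inv_left _ hx
    rwa [inv_inv, show c⁻¹ * (c * x * c⁻¹) * c = x by group] at h1
  · intro c _ hcE
    rw [Subgroup.mem_subgroupOf]
    refine mem_octGrp_of_centralizes ho (hH c.2) fun x hx => ?_
    exact congrArg Subtype.val (hcE ⟨x, hoct hx⟩ hx).eq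

end Cfsg.Agent.H34.MathieuVanish
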