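import Cfsg.Agent.H34.CyclicValues
import Cfsg.Agent.H34.GenBudget

/-!
The sums of a character over the generators of a subgroup of prime order.
-/

set_option autoImplicit false

namespace Cfsg.Agent.H34.PrimeBounds

open CyclicValues GenBudget

theorem exists_unit_sums {G : Type*} [Group G] [Fintype G] {χ : G → ℂ}
    (hχ : Cfsg.IsCharacter G χ) {u : G} {p : ℕ} [hp : Fact p.Prime] (hu : orderOf u = p)
    {d : ℕ} (hd : χ 1 = (d : ℂ)) :
    ∃ m : ZMod p → ℕ,
      (∀ k : ℕ, ¬ p ∣ k → IsConj u (u ^ k) → ∀ j : ZMod p, m ((k : ZMod p) * j) = m j) ∧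
      (∑ j, (m j : ℤ)) = d ∧
      ∑ k ∈ unitsOf (orderOf u), χ (u ^ k) = (((p * m 0 : ℕ) : ℤ) - d : ℤ) ∧
      ∑ k ∈ unitsOf (orderOf u), ‖χ (u ^ k)‖ ^ 2 =
        (((p * ∑ j, m j ^ 2 : ℕ) : ℤ) - (d : ℤ) ^ 2 : ℤ) := by
  classical
  obtain ⟨m, hinv, h1, h2, h3⟩ := exists_mult hχ hu
  have hsplit : ∀ {R : Type} [AddCommGroup R] (f : ℕ → R),
      ∑ k ∈ unitsOf (orderOf u), f k = (∑ i ∈ Finset.range p, f i) - f 0 := by
    intro R _ f
    have hset : unitsOf (orderOf u) = (Finset.range p).erase 0 := by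
      ext k
      rw [unitsOf, hu, Finset.mem_filter, Finset.mem_erase, Finset.mem_range]
      constructor
      · rintro ⟨hk, hc⟩
        refine ⟨fun h => ?_, hk⟩
        rw [h, Nat.coprime_zero_left] at hc
        exact hp.out.ne_one hc
      · rintro ⟨hk0, hk⟩
        exact ⟨hk, ((hp.out.coprime_iff_not_dvd).2 fun h =>
          absurd (Nat.le_of_dvd (Nat.pos_of_ne_zero hk0) h) (by omega)).symm⟩
    rw [hset, Finset.sum_erase_eq_sub (Finset.mem_range.2 hp.out.pos)]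
  have hsum : (∑ j, m j) = d := by exact_mod_cast (h1.symm.trans hd)
  refine ⟨m, hinv, by exact_mod_cast hsum, ?_, ?_⟩
  · rw [hsplit, ← h2, pow_zero, hd]
    push_cast
    ring
  · rw [hsplit, ← h3, pow_zero, hd, Complex.norm_natCast]
    push_cast
    ring

/-- Expansion over the residues modulo `7`. -/
theorem sum_seven {M : Type*} [AddCommMonoid M] (f : ZMod 7 → M) :
    ∑ j, f j = f 0 + f 1 + f 2 + f 3 + f 4 + f 5 + f 6 := Fin.sum_univ_seven f

/-- Expansion over the residues modulo `5`. -/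
theorem sum_five {M : Type*} [AddCommMonoid M] (f : ZMod 5 → M) :
    ∑ j, f j = f 0 + f 1 + f 2 + f 3 + f 4 := Fin.sum_univ_five f

/-- Expansion over the residues modulo `11`. -/
theorem sum_eleven {M : Type*} [AddCommMonoid M] (f : ZMod 11 → M) :
    ∑ j, f j = f 0 + f 1 + f 2 + f 3 + f 4 + f 5 + f 6 + f 7 + f 8 + f 9 + f 10 :=
  Eq.trans (Fin.sum_univ_castSucc f) (by
    rw [Fin.sum_univ_castSucc, Fin.sum_univ_castSucc, Fin.sum_univ_eight]; rfl)

end Cfsg.Agent.H34.PrimeBounds
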