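import Cfsg.Agent.H34.M22Cert
import Cfsg.Agent.H34.MathieuVanish
import Cfsg.Agent.H34.PrimeBounds
import Cfsg.Agent.Golay.Mathieu

/-!
The two-point stabiliser of the group of the code has a single `2`-block.
-/

set_option autoImplicit false
set_option linter.style.haveILetI false

namespace Cfsg.Agent.H34.M22Block

open Cfsg Cfsg.Agent.Golay Cfsg.Agent.H44 Cfsg.Agent.H34
open GenBudget PrimeBounds MathieuInvol TwistCount M22Cert BlockBasic CharBasic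
open scoped Pointwise

/-- An element of prime order with a bounded normaliser. -/
theorem exists_elt {X c n B k : ℕ} {reps : List ℕ} {data : List (ℕ × List ℕ)} (hn : n.Prime)
    (h1 : checkNorm maskTwo X n reps data B = true) (h2 : inStab [] maskTwo c = true)
    (h3 : ((List.range 24).all fun i => iterTbl X n i == i) = true)
    (h4 : ((List.range 24).all fun i => app X i == i) = false)
    (h5 : ((List.range 24).all fun i => app c (app X i) == iterTbl X k (app c i)) = true) :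
    ∃ u : Spor.M22, orderOf u = n ∧ IsConj u (u ^ k) ∧
      Nat.card (Subgroup.normalizer (Subgroup.zpowers u : Set Spor.M22)) ≤ B := by
  have hXs : inStab [] maskTwo X = true := by
    simp only [checkNorm, Bool.and_eq_true] at h1
    exact h1.1.1.1.1.1.1
  have hv : ∀ {T : ℕ}, inStab [] maskTwo T = true → validT T = true := fun {T} h => by
    simp only [inStab, Bool.and_eq_true] at h; exact validT_of_inM24 h.1.1
  have hmem : ∀ {T : ℕ}, inStab [] maskTwo T = true → mkPerm T ∈ Spor.M22 := fun {T} h => by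
    rw [spor_M22_eq]; exact mem_stabGrp_of_inStab h
  let u : Spor.M22 := ⟨mkPerm X, hmem hXs⟩
  have hord : orderOf u = n := by
    rw [← Subgroup.orderOf_coe]; exact orderOf_mkPerm hn (hv hXs) h3 h4
  refine ⟨u, hord, isConj_iff.2 ⟨⟨mkPerm c, hmem h2⟩, Subtype.ext ?_⟩,
    card_normalizer_le h1 (le_of_eq spor_M22_eq) rfl hord⟩
  show mkPerm c * mkPerm X * (mkPerm c)⁻¹ = mkPerm X ^ k
  rw [mul_inv_eq_iff_eq_mul]
  refine Equiv.ext fun z => ?_
  have h := List.all_eq_true.1 h5 (idx z) (List.mem_range.2 (idx_lt z))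
  rw [beq_iff_eq] at h
  have hc := hv h2
  have hX := hv hXs
  rw [Equiv.Perm.mul_apply, Equiv.Perm.mul_apply, mkPerm_apply hX z,
    mkPerm_pt hc ((validT_bijective hX).2 _ (idx_lt z)), h,
    iterTbl_spec hX k ((validT_bijective hc).2 _ (idx_lt z)), pt_idx, ← mkPerm_pt hc (idx_lt z),
    pt_idx]

/-- Characters outside the principal block vanish at non-trivial `2`-elements. -/
theorem vanish {M : Ideal AlgInt} (hM : IsPModular 2 M) {χ : IrrCharacter Spor.M22}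
    (hχ : χ ∉ principalBlock M Spor.M22) (u : Spor.M22) (hu : u ≠ 1)
    (h2 : ∃ k, orderOf u = 2 ^ k) : (χ : Spor.M22 → ℂ) u = 0 := by
  obtain ⟨k, hk⟩ := h2
  obtain ⟨e, rfl⟩ : ∃ e, k = e + 1 := Nat.exists_eq_succ_of_ne_zero fun h =>
    hu (orderOf_eq_one_iff.1 (by rw [hk, h, pow_zero]))
  have hfix : ∀ g : Spor.M22, (g : Equiv.Perm GolayPt) none = none ∧
      (g : Equiv.Perm GolayPt) (some 0) = some 0 := fun g => ⟨g.2.1.2, g.2.2⟩
  refine MathieuVanish.apply_eq_zero_of_fixed (H := Spor.M22) (fun g hg => hg.1.1) hM hχ hk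
    (hfix (u ^ 2 ^ e)).1 fun g hg => ?_
  rw [mem_octGrp] at hg
  exact ⟨⟨hg.1, hg.2 _ (mem_fixSet.2 (hfix (u ^ 2 ^ e)).1)⟩,
    hg.2 _ (mem_fixSet.2 (hfix (u ^ 2 ^ e)).2)⟩

/-- The bounds from the elements of order `7`, `11` and `5` as integers. -/
theorem seven_bound {m : ZMod 7 → ℕ} {d : ℤ} (h2 : ∀ j : ZMod 7, m (((2 : ℕ) : ZMod 7) * j) = m j)
    (hd : (∑ j, (m j : ℤ)) = d) : ∃ x y : ℤ, 3 * y ≡ d [ZMOD 7] ∧ 2 ∣ x - y ∧
      (((7 * m 0 : ℕ) : ℤ) - d) = -3 * y ∧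
      2 * (((7 * ∑ j, m j ^ 2 : ℕ) : ℤ) - d ^ 2) = 3 * (y ^ 2 + 7 * x ^ 2) := by
  have e2 : m 2 = m 1 := h2 1
  have e4 : m 4 = m 2 := h2 2
  have e6 : m 6 = m 3 := h2 3
  have e5 : m 5 = m 6 := h2 6
  rw [sum_seven] at hd
  refine ⟨(m 1 : ℤ) - m 3, (m 1 : ℤ) + m 3 - 2 * m 0, ?_, ?_, ?_, ?_⟩
  · rw [← hd, e4, e5, e6, e2, Int.modEq_iff_dvd]
    exact ⟨(m 0 : ℤ), by ring⟩
  · exact ⟨(m 0 : ℤ) - m 3, by ring⟩
  · rw [← hd, e4, e5, e6, e2]; push_cast; ring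
  · rw [sum_seven, ← hd, e4, e5, e6, e2]; push_cast; ring

theorem eleven_bound {m : ZMod 11 → ℕ} {d : ℤ}
    (h3 : ∀ j : ZMod 11, m (((3 : ℕ) : ZMod 11) * j) = m j)
    (hd : (∑ j, (m j : ℤ)) = d) : ∃ x y : ℤ, 5 * y ≡ d [ZMOD 11] ∧ 2 ∣ x - y ∧
      (((11 * m 0 : ℕ) : ℤ) - d) = -5 * y ∧
      2 * (((11 * ∑ j, m j ^ 2 : ℕ) : ℤ) - d ^ 2) = 5 * (y ^ 2 + 11 * x ^ 2) := by
  have e3 : m 3 = m 1 := h3 1
  have e9 : m 9 = m 3 := h3 3
  have e5 : m 5 = m 9 := h3 9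
  have e4 : m 4 = m 5 := h3 5
  have e6 : m 6 = m 2 := h3 2
  have e7 : m 7 = m 6 := h3 6
  have e10 : m 10 = m 7 := h3 7
  have e8 : m 8 = m 10 := h3 10
  rw [sum_eleven] at hd
  refine ⟨(m 1 : ℤ) - m 2, (m 1 : ℤ) + m 2 - 2 * m 0, ?_, ?_, ?_, ?_⟩
  · rw [← hd, e8, e10, e7, e6, e4, e5, e9, e3, Int.modEq_iff_dvd]
    exact ⟨(m 0 : ℤ), by ring⟩
  · exact ⟨(m 0 : ℤ) - m 2, by ring⟩
  · rw [← hd, e8, e10, e7, e6, e4, e5, e9, e3]; push_cast; ring
  · rw [sum_eleven, ← hd, e8, e10, e7, e6, e4, e5, e9, e3]; push_cast; ring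

theorem five_bound {m : ZMod 5 → ℕ} {d : ℤ} (h2 : ∀ j : ZMod 5, m (((2 : ℕ) : ZMod 5) * j) = m j)
    (hd : (∑ j, (m j : ℤ)) = d) : ∃ t : ℤ, t ≡ d [ZMOD 5] ∧
      (((5 * m 0 : ℕ) : ℤ) - d) = 4 * t ∧
      (((5 * ∑ j, m j ^ 2 : ℕ) : ℤ) - d ^ 2) = 4 * t ^ 2 := by
  have e2 : m 2 = m 1 := h2 1
  have e4 : m 4 = m 2 := h2 2
  have e3 : m 3 = m 4 := h2 4
  rw [sum_five] at hd
  refine ⟨(m 0 : ℤ) - m 1, ?_, ?_, ?_⟩
  · rw [← hd, e3, e4, e2, Int.modEq_iff_dvd]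
    exact ⟨(m 1 : ℤ), by ring⟩
  · rw [← hd, e3, e4, e2]; push_cast; ring
  · rw [sum_five, ← hd, e3, e4, e2]; push_cast; ring

theorem one_le_sq {x : ℤ} (h : x ≠ 0) : 1 ≤ x ^ 2 :=
  by rcases (show x ≤ -1 ∨ 1 ≤ x by omega) with h | h <;> nlinarith

theorem sq_bounds_seven {x y : ℤ} (hy : 3 * y % 7 = 384 % 7) (hp : 2 ∣ x - y) :
    4 ≤ y ^ 2 + 7 * x ^ 2 ∧ (y ^ 2 + 7 * x ^ 2 = 4 → y = 2) := by
  rcases Classical.em (x = 0) with rfl | hx
  · have hy2 : y ≠ 0 := by omega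
    obtain ⟨z, rfl⟩ : 2 ∣ y := by omega
    have : 1 ≤ z ^ 2 := by
      exact one_le_sq (by omega)
    refine ⟨by nlinarith, fun h => ?_⟩
    rcases sq_eq_one_iff.1 (show z ^ 2 = 1 by nlinarith) with h | h <;> omega
  · have : 1 ≤ x ^ 2 := one_le_sq hx
    exact ⟨by nlinarith [sq_nonneg y], fun h => by nlinarith [sq_nonneg y]⟩

theorem sq_bounds_eleven {x y : ℤ} (hy : 5 * y % 11 = 384 % 11) (hp : 2 ∣ x - y) :
    4 ≤ y ^ 2 + 11 * x ^ 2 ∧ (y ^ 2 + 11 * x ^ 2 = 4 → y = 2) := by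
  rcases Classical.em (x = 0) with rfl | hx
  · obtain ⟨z, rfl⟩ : 2 ∣ y := by omega
    have : 1 ≤ z ^ 2 := by
      exact one_le_sq (by omega)
    refine ⟨by nlinarith, fun h => ?_⟩
    rcases sq_eq_one_iff.1 (show z ^ 2 = 1 by nlinarith) with h | h <;> omega
  · have : 1 ≤ x ^ 2 := one_le_sq hx
    exact ⟨by nlinarith [sq_nonneg y], fun h => by nlinarith [sq_nonneg y]⟩

theorem sq_bound_low {x y : ℤ} (hy : 3 * y % 7 = 128 % 7) (hp : 2 ∣ x - y) :
    16 ≤ y ^ 2 + 7 * x ^ 2 := by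
  rcases Classical.em (x = 0) with rfl | hx
  · obtain ⟨z, rfl⟩ : 2 ∣ y := by omega
    have : 4 ≤ z ^ 2 := by
      rcases (show z ≤ -2 ∨ 2 ≤ z by omega) with h | h <;> nlinarith
    nlinarith
  · have : 1 ≤ x ^ 2 := one_le_sq hx
    rcases (show y ≤ -3 ∨ 3 ≤ y by omega) with h | h <;> nlinarith

/-- The degree is `384` with all bounds sharp. -/
theorem degree_cases {k : ℕ} (hdvd : 128 * k ∣ 443520) (hk0 : k ≠ 0) {x7 y7 x11 y11 t5 a7 a11 : ℤ}
    (hint : 16384 * (k : ℤ) ^ 2 * 1 + (21120 * a7 + 8064 * a11 + 88704 * t5 ^ 2) ≤ 443520)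
    (hy7 : 3 * y7 ≡ ((2 ^ 7 * k : ℕ) : ℤ) [ZMOD 7]) (hp7 : 2 ∣ x7 - y7)
    (ht7 : 2 * a7 = 3 * (y7 ^ 2 + 7 * x7 ^ 2))
    (hy11 : 5 * y11 ≡ ((2 ^ 7 * k : ℕ) : ℤ) [ZMOD 11]) (hp11 : 2 ∣ x11 - y11)
    (ht11 : 2 * a11 = 5 * (y11 ^ 2 + 11 * x11 ^ 2))
    (ht : t5 ≡ ((2 ^ 7 * k : ℕ) : ℤ) [ZMOD 5]) :
    k = 3 ∧ a7 = 6 ∧ a11 = 10 ∧ y7 = 2 ∧ y11 = 2 ∧ t5 = -1 := by
  rw [Int.ModEq] at hy7 hy11 ht
  push_cast at hy7 hy11 ht
  have hk5 : k ≤ 5 := by
    by_contra! h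
    have h6 : (6 : ℤ) ≤ k := by exact_mod_cast h
    nlinarith [sq_nonneg x7, sq_nonneg y7, sq_nonneg x11, sq_nonneg y11, sq_nonneg t5]
  obtain rfl | rfl | rfl | rfl | rfl : k = 1 ∨ k = 2 ∨ k = 3 ∨ k = 4 ∨ k = 5 := by omega
  · have := sq_bound_low (x := x7) (y := y7) (by simpa using hy7) hp7
    nlinarith [sq_nonneg x11, sq_nonneg y11, sq_nonneg t5]
  · norm_num at hdvd
  · obtain ⟨h7, h7'⟩ := sq_bounds_seven (x := x7) (y := y7) (by simpa using hy7) hp7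
    obtain ⟨h11, h11'⟩ := sq_bounds_eleven (x := x11) (y := y11) (by simpa using hy11) hp11
    norm_num at hint ht
    have h5 : 1 ≤ t5 ^ 2 := by
      exact one_le_sq (by omega)
    refine ⟨rfl, by linarith, by linarith, h7' (by linarith), h11' (by linarith), ?_⟩
    rcases sq_eq_one_iff.1 (show t5 ^ 2 = 1 by linarith) with h | h
    · omega
    · exact h
  · norm_num at hdvd
  · have : 4 ≤ y7 ^ 2 + 7 * x7 ^ 2 := by
      rcases Classical.em (x7 = 0) with rfl | hx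
      · obtain ⟨z, rfl⟩ : 2 ∣ y7 := by omega
        have := one_le_sq (x := z) (by omega)
        nlinarith
      · nlinarith [one_le_sq hx, sq_nonneg y7]
    norm_num at hint
    nlinarith [sq_nonneg x11, sq_nonneg y11, sq_nonneg t5]

/-- The arithmetic: the middle degree forces all bounds to be sharp. -/
theorem mem_principal {M : Ideal AlgInt} (hM : IsPModular 2 M) (χ : IrrCharacter Spor.M22) :
    χ ∈ principalBlock M Spor.M22 := by
  classical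
  by_contra hχ
  haveI : Fact (Nat.Prime 2) := ⟨Nat.prime_two⟩
  haveI : Fact (Nat.Prime 5) := ⟨by norm_num⟩
  haveI : Fact (Nat.Prime 7) := ⟨by norm_num⟩
  haveI : Fact (Nat.Prime 11) := ⟨by norm_num⟩
  haveI : Fintype Spor.M22 := Fintype.ofFinite _
  have hG : Nat.card Spor.M22 = 443520 := card_spor_M22
  -- the degree
  obtain ⟨k, hk⟩ := OneBlock.pow_dvd_degree (p := 2) χ fun u h1 h2 => vanish hM hχ u h1 h2
  have h27 : (Nat.card Spor.M22).factorization 2 = 7 := by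
    rw [hG, show 443520 = 2 ^ 7 * 3465 by norm_num,
      Nat.factorization_mul (by norm_num) (by norm_num), Finsupp.add_apply,
      Nat.prime_two.factorization_pow, Finsupp.single_eq_same,
      Nat.factorization_eq_zero_of_not_dvd (show ¬ 2 ∣ 3465 by norm_num)]
  rw [h27] at hk
  have hdeg : charDegree (χ : Spor.M22 → ℂ) = 128 * k := by
    have := (apply_one_eq_charDegree χ).symm.trans hk
    exact_mod_cast this
  have hdvd : 128 * k ∣ 443520 := by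
    have h := charDegree_dvd χ
    rwa [hdeg, hG] at h
  have hχc := IsIrr.isCharacter χ.2
  have hcf := IsIrr.isClassFunction χ.2
  -- the three elements
  obtain ⟨u7, o7, c7, B7⟩ := exists_elt (by norm_num) certSeven.1 certSeven.2.1 certSeven.2.2.1
    certSeven.2.2.2.1 certSeven.2.2.2.2
  obtain ⟨u11, o11, c11, B11⟩ := exists_elt (by norm_num) certEleven.1 certEleven.2.1
    certEleven.2.2.1 certEleven.2.2.2.1 certEleven.2.2.2.2
  obtain ⟨u5, o5, c5, B5⟩ := exists_elt (by norm_num) certFive.1 certFive.2.1 certFive.2.2.1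
    certFive.2.2.2.1 certFive.2.2.2.2
  obtain ⟨m7, i7, d7, S7, T7⟩ := exists_unit_sums hχc o7 hk
  obtain ⟨m11, i11, d11, S11, T11⟩ := exists_unit_sums hχc o11 hk
  obtain ⟨m5, i5, d5, S5, T5⟩ := exists_unit_sums hχc o5 hk
  obtain ⟨x7, y7, hy7, hp7, hs7, ht7⟩ := seven_bound (i7 2 (by norm_num) c7) d7
  obtain ⟨x11, y11, hy11, hp11, hs11, ht11⟩ := eleven_bound (i11 3 (by norm_num) c11) d11
  obtain ⟨t5, ht, hs5, ht5⟩ := five_bound (i5 2 (by norm_num) c5) d5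
  rw [hs7] at S7
  rw [hs11] at S11
  rw [hs5] at S5
  rw [ht5] at T5
  set a7 : ℤ := ((7 * ∑ j, m7 j ^ 2 : ℕ) : ℤ) - ((2 ^ 7 * k : ℕ) : ℤ) ^ 2 with ha7
  set a11 : ℤ := ((11 * ∑ j, m11 j ^ 2 : ℕ) : ℤ) - ((2 ^ 7 * k : ℕ) : ℤ) ^ 2 with ha11
  set f : Spor.M22 → ℝ := fun g => ‖(χ : Spor.M22 → ℂ) g‖ ^ 2
  set X7 := ∑ g ∈ gens u7, f g with hX7
  set X11 := ∑ g ∈ gens u11, f g with hX11
  set X5 := ∑ g ∈ gens u5, f g with hX5
  have hb7 : (443520 : ℝ) * (a7 : ℝ) ≤ 21 * X7 := by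
    have h := mul_le_of_card_normalizer_le hcf u7 B7 (le_of_eq T7.symm)
    rw [hG] at h; simpa [hX7, f] using h
  have hb11 : (443520 : ℝ) * (a11 : ℝ) ≤ 55 * X11 := by
    have h := mul_le_of_card_normalizer_le hcf u11 B11 (le_of_eq T11.symm)
    rw [hG] at h; simpa [hX11, f] using h
  have hb5 : (443520 : ℝ) * ((4 * t5 ^ 2 : ℤ) : ℝ) ≤ 20 * X5 := by
    have h := mul_le_of_card_normalizer_le hcf u5 B5 (le_of_eq T5.symm)
    rw [hG] at h; simpa [hX5, f] using h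
  have hkey := sq_add_sum_le χ.2 (Finset.univ : Finset (Fin 3)) ![u7, u11, u5]
    (fun i _ j _ => by fin_cases i <;> fin_cases j <;> simp [o7, o11, o5])
    (fun i _ => by fin_cases i <;> simp [o7, o11, o5])
  rw [Fin.sum_univ_three, hk, hG, Complex.norm_natCast] at hkey
  simp only [Matrix.cons_val_zero, Matrix.cons_val_one, Matrix.cons_val_two, Matrix.head_cons,
    Matrix.tail_cons, Nat.cast_mul, Nat.cast_pow, Nat.cast_ofNat] at hkey
  have hint : 16384 * (k : ℤ) ^ 2 * 1 + (21120 * a7 + 8064 * a11 + 88704 * t5 ^ 2) ≤ 443520 := by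
    have : 16384 * (k : ℝ) ^ 2 * 1 + (21120 * (a7 : ℝ) + 8064 * (a11 : ℝ) +
        88704 * (t5 : ℝ) ^ 2) ≤ 443520 := by
      push_cast at hb5
      linarith [hkey, hb7, hb11, hb5]
    exact_mod_cast this
  have hk0 : k ≠ 0 := by
    rintro rfl
    exact IsIrr.one_ne_zero χ.2 (by simpa using hk)
  obtain ⟨rfl, e7, e11, ey7, ey11, ey5⟩ :=
    degree_cases hdvd hk0 hint hy7 hp7 ht7 hy11 hp11 ht11 ht
  rw [ey7] at S7
  rw [ey11] at S11
  rw [ey5] at S5 hb5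
  push_cast at S7 S11 S5
  rw [e7] at hb7
  rw [e11] at hb11
  norm_num at hb7 hb11 hb5 hkey
  have hn7 : X7 = 126720 := by linarith
  have hn11 : X11 = 80640 := by linarith
  have hn5 : X5 = 88704 := by linarith
  -- the sums
  have hsum : ∀ (u : Spor.M22) (S : ℂ) (T X : ℝ) (B : ℕ),
      ∑ i ∈ unitsOf (orderOf u), ‖(χ : Spor.M22 → ℂ) (u ^ i)‖ ^ 2 = T →
      ∑ i ∈ unitsOf (orderOf u), (χ : Spor.M22 → ℂ) (u ^ i) = S →
      ∑ g ∈ gens u, f g = X → (443520 : ℝ) * T = B * X → 0 < X →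
      (B : ℂ) * ∑ g ∈ gens u, (χ : Spor.M22 → ℂ) g = 443520 * S := by
    intro u S T X B hT hS hX hBX hXpos
    have h1 := card_normalizer_mul_sum (R := ℝ) u f fun g c => by
      show ‖(χ : Spor.M22 → ℂ) (c * g * c⁻¹)‖ ^ 2 = _
      rw [hcf g c]
    rw [hX, hG] at h1
    simp only [f] at h1
    rw [hT, Nat.cast_ofNat, hBX] at h1
    have hN : Nat.card (Subgroup.normalizer (Subgroup.zpowers u : Set Spor.M22)) = B :=
      Nat.cast_injective (R := ℝ) (mul_right_cancel₀ hXpos.ne' h1)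
    have h2 := card_normalizer_mul_sum (R := ℂ) u (χ : Spor.M22 → ℂ) hcf
    rw [hN, hS, hG] at h2
    simpa using h2
  have q7 := hsum u7 _ (a7 : ℝ) X7 21 T7 S7 hX7.symm (by rw [hn7, e7]; norm_num)
    (by rw [hn7]; norm_num)
  have q11 := hsum u11 _ (a11 : ℝ) X11 55 T11 S11 hX11.symm (by rw [hn11, e11]; norm_num)
    (by rw [hn11]; norm_num)
  have q5 := hsum u5 _ _ X5 20 T5 S5 hX5.symm (by rw [hn5, ey5]; norm_num)
    (by rw [hn5]; norm_num)
  set U := gens u7 ∪ gens u11 ∪ gens u5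
  have h17 : (1 : Spor.M22) ∉ U := by
    simp only [U, Finset.mem_union, not_or]
    refine ⟨⟨?_, ?_⟩, ?_⟩ <;> intro h <;> have := orderOf_eq_of_mem_gens h <;>
      simp [o7, o11, o5] at this
  have hd1 : Disjoint (gens u7) (gens u11) := disjoint_gens (by rw [o7, o11]; norm_num)
  have hd2 : Disjoint (gens u7 ∪ gens u11) (gens u5) := Finset.disjoint_union_left.2
    ⟨disjoint_gens (by rw [o7, o5]; norm_num), disjoint_gens (by rw [o11, o5]; norm_num)⟩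
  have hout : ∀ g, g ∉ insert 1 U → (χ : Spor.M22 → ℂ) g = 0 := by
    intro g hg
    have h1 : ∑ x, f x = (443520 : ℝ) := by
      simp only [f]
      rw [sum_norm_sq_eq χ.2, hG]
      norm_num
    have h2 : ∑ x ∈ U, f x = X7 + X11 + X5 := by
      simp only [U]
      rw [Finset.sum_union hd2, Finset.sum_union hd1, hX7, hX11, hX5]
    have hf1 : f 1 = 147456 := by
      simp only [f]
      rw [hk, Complex.norm_natCast]
      norm_num
    have h0 : ∑ x ∈ (insert 1 U)ᶜ, f x = 0 := by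
      rw [← Finset.sum_add_sum_compl (insert 1 U), Finset.sum_insert h17, h2, hf1, hn7, hn11,
        hn5] at h1
      linarith
    have h3 := (Finset.sum_eq_zero_iff_of_nonneg fun x _ => sq_nonneg _).1 h0 g
      (Finset.mem_compl.2 hg)
    simpa [f] using h3
  have horth : ∑ g, (χ : Spor.M22 → ℂ) g = 0 := by
    have hne : (χ : Spor.M22 → ℂ) ≠ (trivialIrr (G := Spor.M22) : Spor.M22 → ℂ) := fun h =>
      hχ (by
        show SameBlock M (fun _ => (1 : ℂ)) (χ : Spor.M22 → ℂ)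
        rw [h]; exact sameBlock_refl hM _)
    have h := classInner_irr_of_ne χ.2 (trivialIrr (G := Spor.M22)).2 hne
    rw [classInner_def, mul_eq_zero] at h
    simpa [trivialIrr] using h.resolve_left (by simp [hG])
  rw [← Finset.sum_subset (Finset.subset_univ (insert 1 U)) fun g _ hg => hout g hg,
    Finset.sum_insert h17, hk] at horth
  simp only [U, Finset.sum_union hd2, Finset.sum_union hd1] at horth
  push_cast at q7 q11 q5 horth
  have : (384 : ℂ) - 126720 - 80640 - 88704 = 0 := by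
    linear_combination horth - q7 / 21 - q11 / 55 - q5 / 20
  norm_num at this

end Cfsg.Agent.H34.M22Block
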