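import Cfsg.Agent.H34.TwistCount
import Cfsg.Agent.H44.M22Orbits
import Cfsg.Agent.Golay.MathieuData

/-!
Generated certificates for elements of order 11, 7 and 5 in the two-point stabiliser.
-/

set_option autoImplicit false

namespace Cfsg.Agent.H34.M22Cert

open Cfsg Cfsg.Agent.Golay Cfsg.Agent.H44 Cfsg.Agent.H34.TwistCount

/-- An element of order 11. -/
def eltEleven : ℕ := 978919290499511305870012914323902752

/-- An element conjugating it into a power. -/
def conjEleven : ℕ := 969056159280876622456322656535884480

/-- Witness octads. -/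
def witEleven : List (ℕ × List ℕ) :=
  [(1, [0, 5279, 0, 5279, 0, 0, 5279, 0, 0,
    0, 5279, 5279, 5279, 5279, 5279, 0, 5279, 0,
    0, 5279, 5279, 0]),
   (2, [10558, 5279, 10558, 5279, 10558, 10558, 5279, 10558, 10558,
    10558, 5279, 5279, 5279, 5279, 5279, 10558, 5279, 10558,
    10558, 5279, 5279, 10558]),
   (3, [0, 5279, 0, 5279, 0, 0, 5279, 0, 0,
    0, 5279, 5279, 5279, 5279, 5279, 0, 5279, 0,
    0, 5279, 5279, 0]),
   (4, [0, 5279, 0, 5279, 0, 0, 5279, 0, 0,
    0, 5279, 5279, 5279, 5279, 5279, 0, 5279, 0,
    0, 5279, 5279, 0]),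
   (5, [0, 5279, 0, 5279, 0, 0, 5279, 0, 0,
    0, 5279, 5279, 5279, 5279, 5279, 0, 5279, 0,
    0, 5279, 5279, 0]),
   (6, [10558, 5279, 10558, 5279, 10558, 10558, 5279, 10558, 10558,
    10558, 5279, 5279, 5279, 5279, 5279, 10558, 5279, 10558,
    10558, 5279, 5279, 10558]),
   (7, [10558, 5279, 10558, 5279, 10558, 10558, 5279, 10558, 10558,
    10558, 5279, 5279, 5279, 5279, 5279, 10558, 5279, 10558,
    10558, 5279, 5279, 10558]),
   (8, [10558, 5279, 10558, 5279, 10558, 10558, 5279, 10558, 10558,
    10558, 5279, 5279, 5279, 5279, 5279, 10558, 5279, 10558,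
    10558, 5279, 5279, 10558]),
   (9, [0, 5279, 0, 5279, 0, 0, 5279, 0, 0,
    0, 5279, 5279, 5279, 5279, 5279, 0, 5279, 0,
    0, 5279, 5279, 0]),
   (10, [10558, 5279, 10558, 5279, 10558, 10558, 5279, 10558, 10558,
    10558, 5279, 5279, 5279, 5279, 5279, 10558, 5279, 10558,
    10558, 5279, 5279, 10558])]

lemma certEleven :
    checkNorm maskTwo eltEleven 11 [1] witEleven 55 = true ∧
    inStab [] maskTwo conjEleven = true ∧
    ((List.range 24).all fun i => iterTbl eltEleven 11 i == i) = true ∧
    ((List.range 24).all fun i => app eltEleven i == i) = false ∧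
    ((List.range 24).all fun i => app conjEleven (app eltEleven i) ==
      iterTbl eltEleven 3 (app conjEleven i)) = true := by
  decide +kernel

/-- An element of order 7. -/
def eltSeven : ℕ := 983030292454966641339140279953903744

/-- An element conjugating it into a power. -/
def conjSeven : ℕ := 966628524094933041370333216336103552

/-- Witness octads. -/
def witSeven : List (ℕ × List ℕ) :=
  [(1, [5279, 0, 5279, 5279, 5279, 0, 10558, 10558, 0,
    10558, 10558, 5279, 5279, 0, 0, 10558, 0, 5279,
    0, 10558, 10558]),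
   (2, [5279, 0, 5279, 5279, 5279, 0, 10558, 10558, 0,
    10558, 10558, 5279, 5279, 0, 0, 10558, 0, 5279,
    0, 10558, 10558]),
   (3, [5279, 430605, 5279, 5279, 5279, 430605, 10558, 10558, 430605,
    10558, 10558, 5279, 5279, 430605, 430605, 10558, 430605, 5279,
    430605, 10558, 10558]),
   (4, [5279, 0, 5279, 5279, 5279, 0, 10558, 10558, 0,
    10558, 10558, 5279, 5279, 0, 0, 10558, 0, 5279,
    0, 10558, 10558]),
   (5, [5279, 430605, 5279, 5279, 5279, 430605, 10558, 10558, 430605,
    10558, 10558, 5279, 5279, 430605, 430605, 10558, 430605, 5279,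
    430605, 10558, 10558]),
   (6, [5279, 430605, 5279, 5279, 5279, 430605, 10558, 10558, 430605,
    10558, 10558, 5279, 5279, 430605, 430605, 10558, 430605, 5279,
    430605, 10558, 10558])]

lemma certSeven :
    checkNorm maskTwo eltSeven 7 [2] witSeven 21 = true ∧
    inStab [] maskTwo conjSeven = true ∧
    ((List.range 24).all fun i => iterTbl eltSeven 7 i == i) = true ∧
    ((List.range 24).all fun i => app eltSeven i == i) = false ∧
    ((List.range 24).all fun i => app conjSeven (app eltSeven i) ==
      iterTbl eltSeven 2 (app conjSeven i)) = true := by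
  decide +kernel

/-- An element of order 5. -/
def eltFive : ℕ := 977012746031610721494999636274064416

/-- An element conjugating it into a power. -/
def conjFive : ℕ := 972326803059349338069391454701259424

/-- Witness octads. -/
def witFive : List (ℕ × List ℕ) :=
  [(1, [0, 2263063, 0, 2263063, 2263063, 2263063, 2263063, 2263063, 2263063,
    0, 2263063, 2263063, 2263063, 0, 2263063, 0, 2263063, 2263063,
    2263063, 2263063]),
   (2, [0, 2263063, 0, 2263063, 2263063, 2263063, 2263063, 2263063, 2263063,
    0, 2263063, 2263063, 2263063, 0, 2263063, 0, 2263063, 2263063,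
    2263063, 2263063]),
   (3, [0, 2263063, 0, 2263063, 2263063, 2263063, 2263063, 2263063, 2263063,
    0, 2263063, 2263063, 2263063, 0, 2263063, 0, 2263063, 2263063,
    2263063, 2263063]),
   (4, [0, 2263063, 0, 2263063, 2263063, 2263063, 2263063, 2263063, 2263063,
    0, 2263063, 2263063, 2263063, 0, 2263063, 0, 2263063, 2263063,
    2263063, 2263063])]

lemma certFive :
    checkNorm maskTwo eltFive 5 [2] witFive 20 = true ∧
    inStab [] maskTwo conjFive = true ∧
    ((List.range 24).all fun i => iterTbl eltFive 5 i == i) = true ∧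
    ((List.range 24).all fun i => app eltFive i == i) = false ∧
    ((List.range 24).all fun i => app conjFive (app eltFive i) ==
      iterTbl eltFive 2 (app conjFive i)) = true := by
  decide +kernel

end Cfsg.Agent.H34.M22Cert
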