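import Cfsg.Agent.H34.PrimeBounds
import Cfsg.Agent.BlockBasic.Local
import Cfsg.Agent.H35.Consequences

/-!
Sums of multiplicities over residues under the invariances of the largest group of the code, and
non-vanishing through congruences.
-/

set_option autoImplicit false
set_option maxRecDepth 100000
set_option linter.unusedSectionVars false

namespace Cfsg.Agent.H34.M24Sums

open Cfsg Cfsg.Agent.H34 CyclicValues GenBudget CharBasic

theorem iterate_invariant {p : ℕ} {m : ZMod p → ℕ} {k : ℕ}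
    (h : ∀ j : ZMod p, m ((k : ZMod p) * j) = m j) (j : ZMod p) :
    ∀ i : ℕ, m ((k : ZMod p) ^ i * j) = m j
  | 0 => by rw [pow_zero, one_mul]
  | i + 1 => by rw [pow_succ', mul_assoc, h, iterate_invariant h j i]

theorem sum_eleven_rational {m : ZMod 11 → ℕ} (h : ∀ j : ZMod 11, m (((2 : ℕ) : ZMod 11) * j) = m j)
    (F : ℕ → ℤ) : ∑ j, F (m j) = F (m 0) + 10 * F (m 1) := by
  have hcov : ∀ j : ZMod 11, j ≠ 0 → ∃ i ∈ Finset.range 10, j = ((2 : ℕ) : ZMod 11) ^ i * 1 := by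
    decide +kernel
  have hm : ∀ j ∈ (Finset.univ : Finset (ZMod 11)).erase 0, F (m j) = F (m 1) := fun j hj => by
    obtain ⟨i, -, rfl⟩ := hcov j (Finset.ne_of_mem_erase hj)
    rw [iterate_invariant h]
  rw [← Finset.add_sum_erase _ _ (Finset.mem_univ (0 : ZMod 11)), Finset.sum_congr rfl hm,
    Finset.sum_const, Finset.card_erase_of_mem (Finset.mem_univ _), Finset.card_univ, ZMod.card]
  simp

/-- The squares modulo 23. -/
def qrSet : Finset (ZMod 23) := {1, 2, 4, 8, 16, 9, 18, 13, 3, 6, 12}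

/-- The non-squares modulo 23. -/
def nqrSet : Finset (ZMod 23) := {5, 10, 20, 17, 11, 22, 21, 19, 15, 7, 14}

theorem sum_twentythree {m : ZMod 23 → ℕ} (h : ∀ j : ZMod 23, m (((2 : ℕ) : ZMod 23) * j) = m j)
    (F : ℕ → ℤ) : ∑ j, F (m j) = F (m 0) + 11 * F (m 1) + 11 * F (m 5) := by
  have hset : (Finset.univ : Finset (ZMod 23)) = insert 0 (qrSet ∪ nqrSet) ∧
      (0 : ZMod 23) ∉ qrSet ∪ nqrSet ∧ qrSet.card = 11 ∧ nqrSet.card = 11 ∧
      Disjoint qrSet nqrSet := by decide +kernel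
  have hq : ∀ j ∈ qrSet, ∃ i ∈ Finset.range 11, j = ((2 : ℕ) : ZMod 23) ^ i * 1 := by
    decide +kernel
  have hn : ∀ j ∈ nqrSet, ∃ i ∈ Finset.range 11, j = ((2 : ℕ) : ZMod 23) ^ i * 5 := by
    decide +kernel
  have h1 : ∀ j ∈ qrSet, F (m j) = F (m 1) := fun j hj => by
    obtain ⟨i, -, rfl⟩ := hq j hj
    rw [iterate_invariant h]
  have h5 : ∀ j ∈ nqrSet, F (m j) = F (m 5) := fun j hj => by
    obtain ⟨i, -, rfl⟩ := hn j hj
    rw [iterate_invariant h]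
  obtain ⟨hu, h0, c1, c5, hd⟩ := hset
  rw [hu, Finset.sum_insert h0, Finset.sum_union hd, Finset.sum_congr rfl h1,
    Finset.sum_congr rfl h5, Finset.sum_const, Finset.sum_const, c1, c5]
  simp only [nsmul_eq_mul, Nat.cast_ofNat]
  ring

theorem twentythree_bound {m : ZMod 23 → ℕ} {d : ℤ}
    (h2 : ∀ j : ZMod 23, m (((2 : ℕ) : ZMod 23) * j) = m j) (hd : (∑ j, (m j : ℤ)) = d) :
    ∃ x y : ℤ, 11 * y ≡ d [ZMOD 23] ∧ 2 ∣ x - y ∧
      2 * (((23 * ∑ j, m j ^ 2 : ℕ) : ℤ) - d ^ 2) = 11 * (y ^ 2 + 23 * x ^ 2) := by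
  rw [sum_twentythree h2 fun n => (n : ℤ)] at hd
  refine ⟨(m 1 : ℤ) - m 5, (m 1 : ℤ) + m 5 - 2 * m 0, ?_, ⟨(m 0 : ℤ) - m 5, by ring⟩, ?_⟩
  · rw [← hd, Int.modEq_iff_dvd]
    exact ⟨(m 0 : ℤ), by ring⟩
  · push_cast
    rw [sum_twentythree h2 fun n => (n : ℤ) ^ 2, ← hd]
    ring

theorem eleven_bound {m : ZMod 11 → ℕ} {d : ℤ}
    (h2 : ∀ j : ZMod 11, m (((2 : ℕ) : ZMod 11) * j) = m j) (hd : (∑ j, (m j : ℤ)) = d) :
    ∃ t : ℤ, t ≡ d [ZMOD 11] ∧ (((11 * ∑ j, m j ^ 2 : ℕ) : ℤ) - d ^ 2) = 10 * t ^ 2 := by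
  rw [sum_eleven_rational h2 fun n => (n : ℤ)] at hd
  refine ⟨(m 0 : ℤ) - m 1, ?_, ?_⟩
  · rw [← hd, Int.modEq_iff_dvd]
    exact ⟨(m 1 : ℤ), by ring⟩
  · push_cast
    rw [sum_eleven_rational h2 fun n => (n : ℤ) ^ 2, ← hd]
    ring

open PrimeBounds in
/-- The multiplicities at an element of order `7`. -/
theorem seven_bound {m : ZMod 7 → ℕ} {d : ℤ} (h2 : ∀ j : ZMod 7, m (((2 : ℕ) : ZMod 7) * j) = m j)
    (hd : (∑ j, (m j : ℤ)) = d) : ∃ x y : ℤ, 3 * y ≡ d [ZMOD 7] ∧ 2 ∣ x - y ∧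
      (((7 * m 0 : ℕ) : ℤ) - d) = -3 * y ∧
      2 * (((7 * ∑ j, m j ^ 2 : ℕ) : ℤ) - d ^ 2) = 3 * (y ^ 2 + 7 * x ^ 2) := by
  have e2 : m 2 = m 1 := h2 1
  have e4 : m 4 = m 2 := h2 2
  have e6 : m 6 = m 3 := h2 3
  have e5 : m 5 = m 6 := h2 6
  rw [sum_seven] at hd
  refine ⟨(m 1 : ℤ) - m 3, (m 1 : ℤ) + m 3 - 2 * m 0, ?_, ?_, ?_, ?_⟩
  · rw [← hd, e4, e5, e6, e2, Int.modEq_iff_dvd]
    exact ⟨(m 0 : ℤ), by ring⟩
  · exact ⟨(m 0 : ℤ) - m 3, by ring⟩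
  · rw [← hd, e4, e5, e6, e2]; push_cast; ring
  · rw [sum_seven, ← hd, e4, e5, e6, e2]; push_cast; ring

open PrimeBounds in
/-- The multiplicities at a rational element of order `5`. -/
theorem five_bound {m : ZMod 5 → ℕ} {d : ℤ} (h2 : ∀ j : ZMod 5, m (((2 : ℕ) : ZMod 5) * j) = m j)
    (hd : (∑ j, (m j : ℤ)) = d) : ∃ t : ℤ, t ≡ d [ZMOD 5] ∧
      (((5 * m 0 : ℕ) : ℤ) - d) = 4 * t ∧
      (((5 * ∑ j, m j ^ 2 : ℕ) : ℤ) - d ^ 2) = 4 * t ^ 2 := by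
  have e2 : m 2 = m 1 := h2 1
  have e4 : m 4 = m 2 := h2 2
  have e3 : m 3 = m 4 := h2 4
  rw [sum_five] at hd
  refine ⟨(m 0 : ℤ) - m 1, ?_, ?_, ?_⟩
  · rw [← hd, e3, e4, e2, Int.modEq_iff_dvd]
    exact ⟨(m 1 : ℤ), by ring⟩
  · rw [← hd, e3, e4, e2]; push_cast; ring
  · rw [sum_five, ← hd, e3, e4, e2]; push_cast; ring

theorem one_le_sq {x : ℤ} (h : x ≠ 0) : 1 ≤ x ^ 2 :=
  by rcases (show x ≤ -1 ∨ 1 ≤ x by omega) with h | h <;> nlinarith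

variable {G : Type*} [Group G] [Finite G]

theorem isConj_pow_two_pow {u : G} (h : IsConj u (u ^ 2)) : ∀ i : ℕ, IsConj u (u ^ 2 ^ i)
  | 0 => by rw [pow_zero, pow_one]
  | i + 1 => by
    obtain ⟨c, hc⟩ := isConj_iff.1 (isConj_pow_two_pow h i)
    refine h.trans (isConj_iff.2 ⟨c, ?_⟩)
    rw [← conj_pow, hc, ← pow_mul, ← pow_succ]

theorem apply_pow_five {χ : G → ℂ} (hχ : IsCharacter G χ) {u : G} (hu : orderOf u = 5)
    (h : IsConj u (u ^ 2)) : ∑ k ∈ unitsOf (orderOf u), χ (u ^ k) = 4 * χ u := by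
  have he : ∀ i, χ (u ^ 2 ^ i) = χ u := fun i => by
    obtain ⟨c, hc⟩ := isConj_iff.1 (isConj_pow_two_pow h i)
    rw [← hc, IsChar.isClassFunction hχ]
  have h2 := he 1
  have h4 := he 2
  have h3 := he 3
  norm_num at h2 h4 h3
  rw [← pow_mod_orderOf u 8, hu] at h3
  norm_num at h3
  rw [hu, show unitsOf 5 = {1, 2, 3, 4} by decide, Finset.sum_insert (by decide),
    Finset.sum_insert (by decide), Finset.sum_pair (by decide), pow_one, h2, h3, h4]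
  ring

theorem norm_pow_seven {χ : G → ℂ} (hχ : IsCharacter G χ) {u : G} (hu : orderOf u = 7)
    (h : IsConj u (u ^ 2)) : ∑ k ∈ unitsOf (orderOf u), ‖χ (u ^ k)‖ ^ 2 = 6 * ‖χ u‖ ^ 2 := by
  have he : ∀ i, χ (u ^ 2 ^ i) = χ u := fun i => by
    obtain ⟨c, hc⟩ := isConj_iff.1 (isConj_pow_two_pow h i)
    rw [← hc, IsChar.isClassFunction hχ]
  have hinv : ∀ {g g' : G}, g * g' = 1 → ‖χ g'‖ = ‖χ g‖ := fun {g g'} e => by
    rw [← inv_eq_of_mul_eq_one_right e, IsChar.inv_apply hχ, Complex.norm_conj]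
  have h7 : u ^ 7 = 1 := by rw [← hu, pow_orderOf_eq_one]
  have h2 := he 1
  have h4 := he 2
  norm_num at h2 h4
  have n6 : ‖χ (u ^ 6)‖ = ‖χ u‖ := hinv (by rw [← pow_succ', h7])
  have n5 : ‖χ (u ^ 5)‖ = ‖χ u‖ := by rw [← h2]; exact hinv (by rw [← pow_add, h7])
  have n3 : ‖χ (u ^ 3)‖ = ‖χ u‖ := by rw [← h4]; exact hinv (by rw [← pow_add, h7])
  rw [hu, show unitsOf 7 = {1, 2, 3, 4, 5, 6} by decide, Finset.sum_insert (by decide),
    Finset.sum_insert (by decide), Finset.sum_insert (by decide),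
    Finset.sum_insert (by decide), Finset.sum_pair (by decide), pow_one, h2, h4, n3, n5, n6]
  ring

/-- Non-vanishing from a congruence with the value at the `p'`-part. -/
theorem ne_zero_of_part {p : ℕ} [Fact p.Prime] {M : Ideal AlgInt} (hM : IsPModular p M)
    {χ : G → ℂ} (hχ : IsCharacter G χ) {g : G} {a b : ℕ} (ho : orderOf g ∣ a + b - 1)
    (hab : 1 ≤ a + b) (hx : ∃ k, orderOf (g ^ a) = p ^ k) (hy : ¬ p ∣ orderOf (g ^ b))
    (hne : ¬ MemLocalIdeal M (χ (g ^ b))) : χ g ≠ 0 := by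
  intro h0
  apply hne
  have h := H35.char_mul_congr hM hχ ((Commute.refl g).pow_pow a b) hx hy
  rw [← pow_add, show a + b = (a + b - 1) + 1 by omega, pow_succ,
    orderOf_dvd_iff_pow_eq_one.1 ho, one_mul, h0, zero_sub] at h
  simpa using BlockBasic.memLocalIdeal_neg h

end Cfsg.Agent.H34.M24Sums
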