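import Mathlib.Init

/-!
Generated data: the six tetrads of a fixed-point-free involution and their stabiliser.
-/

set_option autoImplicit false

namespace Cfsg.Agent.H34.MathieuFree

/-- The tetrads. -/
def tetrads : List Nat := [147496, 268544, 1082880, 2621632, 4268048, 8388615]

/-- Transversals of the stabiliser of the tetrads. -/
def freeChain : List (Nat × List Nat) := [
  (0, [984818244535754528103549039458486304,
    984722655212455190242942046462705729,
    984730288765199910941993611765580802,
    89059092720943069729270532212817975]),
  (3, [984818244535754528103549039458486304,
    984202951082164080105044112956360736,
    984724508489452699215480746259449888,
    984235865005994746954145143334668320]),
  (4, [984818244535754528103549039458486304,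
    976448692869377735270425038196672544,
    972512676110088067912772961567868960,
    961365507626256404119956257276790816]),
  (1, [984818244535754528103549039458486304,
    63091270512736695476215892246912064,
    100247931515887572706570511075870432])]

/-- An involution of the stabiliser not centralised by the elements of order three. -/
def sepList : List Nat := [976448692869377735270425038196672544]

/-- Each tetrad with two elements meeting in it. -/
def meetList : List (Nat × Nat × Nat) := [
  (147496,
    976448692869377735270425038196672544,
    111890735759189500967275039606037505),
  (268544,
    972560815420533050926679905878345760,
    104711250050885010830356261031599105),
  (1082880,
    976420838754479978627774237199763488,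
    111943941958064166877680061588659201),
  (2621632,
    961438956620049001677386430328277024,
    104711250050885010830356261031599105),
  (4268048,
    984724508489452699215480746259449888,
    111943941958064166877680061588659201),
  (8388615,
    976448692869377735270425038196672544,
    984724508489452699215480746259449888)]

end Cfsg.Agent.H34.MathieuFree
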