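import Cfsg.Agent.H34.MathieuVanish
import Cfsg.Agent.H34.MathieuFreeData
import Cfsg.Agent.H95.GolayInv

/-!
The centraliser of a fixed-point-free involution of the group of the code normalises a
self-centralising elementary group of order 64, read off from six tetrads; hence characters outside
the principal `2`-block vanish at all non-trivial `2`-elements.
-/

set_option autoImplicit false
set_option maxRecDepth 100000
set_option linter.style.haveILetI false

namespace Cfsg.Agent.H34.MathieuFree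

open Cfsg Cfsg.Agent.Golay Cfsg.Agent.H34.MathieuInvol
open Cfsg.Agent.H95 (invFree)
open scoped Pointwise

/-- The table squares to the identity. -/
def sqId (T : ℕ) : Bool := tblEq (tblMul T T) idTbl

/-- Octads moved by the representative. -/
def movedOcts : List ℕ := octadList.filter fun o => !(tblImg invFree o == o)

/-- The union of two pairs of the representative. -/
def pairUnion (p q : ℕ) : ℕ := 2 ^ p ||| 2 ^ app invFree p ||| 2 ^ q ||| 2 ^ app invFree q

lemma rep_cert :
    (inM24 invFree && ((List.range 24).all fun i => !(app invFree i == i)) &&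
      checkChain tetrads 0 freeChain) = true := by
  decide +kernel

lemma tetrad_cert :
    (forceL movedOcts fun B => ((List.range 24).all fun p => (List.range 24).all fun q =>
        forceN (pairUnion p q) fun m => tetrads.contains m || popCnt m != 4 ||
          B.any fun o => Nat.beq (o &&& m) m) &&
      (tetrads.all fun t => tblImg invFree t == t && popCnt t == 4 && decide (t < 2 ^ 24) &&
        B.all fun o => !(Nat.beq (o &&& t) t))) = true := by
  decide +kernel

lemma closure_cert :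
    (forceL ((chainElems freeChain).filter sqId) fun l =>
      l.all fun a => l.all fun b => sqId (tblMul a b)) = true := by
  decide +kernel

lemma meet_cert :
    ((forceL (chainElems freeChain) fun l =>
      l.all fun T => sqId T || sepList.any fun e => !tblEq (tblMul T e) (tblMul e T)) &&
    (sepList.all fun e => inStab tetrads 0 e && sqId e) &&
    (tetrads.all fun t => meetList.any fun x => inStab tetrads 0 x.2.1 && sqId x.2.1 &&
      inStab tetrads 0 x.2.2 && sqId x.2.2 && fixedMask x.2.1 &&& fixedMask x.2.2 == t)) = true := by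
  decide +kernel

lemma sqId_iff {T : ℕ} (hT : validT T = true) : sqId T = true ↔ mkPerm T * mkPerm T = 1 := by
  constructor
  · intro h
    rw [← (tblMul_spec hT hT).2, mkPerm_eq_of_tblEq (tblMul_spec hT hT).1 idTbl_spec.1 h,
      idTbl_spec.2]
  · intro h
    rw [sqId, tblEq, List.all_eq_true]
    intro i hi
    rw [List.mem_range] at hi
    have e : mkPerm (tblMul T T) = mkPerm idTbl := by
      rw [(tblMul_spec hT hT).2, h, idTbl_spec.2]
    rw [beq_iff_eq, ← idx_pt i hi, ← idx_mkPerm (tblMul_spec hT hT).1,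
      ← idx_mkPerm idTbl_spec.1, e]

lemma valid_of_inStab {E : List ℕ} {F T : ℕ} (h : inStab E F T = true) : validT T = true := by
  simp only [inStab, Bool.and_eq_true] at h
  exact validT_of_inM24 h.1.1

/-- The representative. -/
noncomputable def rep : Equiv.Perm GolayPt := mkPerm invFree

/-- The sets behaving as the tetrads do. -/
def IsTetrad (t : Finset GolayPt) : Prop :=
  t.card = 4 ∧ rep • t = t ∧ ∀ o ∈ octads, t ⊆ o → rep • o = o

lemma rep_free (p : GolayPt) : rep p ≠ p := by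
  have h := rep_cert
  simp only [Bool.and_eq_true, List.all_eq_true] at h
  have h1 := h.1.2 (idx p) (List.mem_range.2 (idx_lt p))
  rw [Bool.not_eq_true', beq_eq_false_iff_ne] at h1
  intro e
  apply h1
  rw [← idx_mkPerm (validT_of_inM24 h.1.1)]
  exact congrArg idx e

lemma rep_invol (x : GolayPt) : rep (rep x) = x := by
  have h := Equiv.congr_fun (pow_orderOf_eq_one rep) x
  rwa [rep, H95.exists_involutions.2.2.1, pow_two, Equiv.Perm.mul_apply] at h

lemma card_quad {p q : GolayPt} (h1 : q ≠ p) (h2 : q ≠ rep p) :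
    ({p, rep p, q, rep q} : Finset GolayPt).card = 4 := by
  have h3 : p ≠ rep q := fun e => h2 (by rw [e, rep_invol])
  have h4 : rep p ≠ rep q := fun e => h1 (rep.injective e).symm
  rw [Finset.card_insert_of_notMem (by simp [(rep_free p).symm, Ne.symm h1, h3]),
    Finset.card_insert_of_notMem (by simp [Ne.symm h2, h4]),
    Finset.card_pair (rep_free q).symm]

lemma moved_iff {o : Finset GolayPt} (ho : o ∈ octads) :
    maskOf o ∈ movedOcts ↔ rep • o ≠ o := by
  have hv : validT invFree = true := by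
    have h := rep_cert
    simp only [Bool.and_eq_true] at h
    exact validT_of_inM24 h.1.1
  have e := ptSet_tblImg hv (maskOf o)
  rw [ptSet_maskOf] at e
  simp only [movedOcts, List.mem_filter, mem_octads_iff.1 ho, true_and, Bool.not_eq_true',
    beq_eq_false_iff_ne, rep, ne_eq, not_iff_not]
  exact ⟨fun h => by rw [← e, h, ptSet_maskOf],
    fun h => ptSet_injOn (tblImg_lt hv _) (maskOf_lt o) (by rw [e, h, ptSet_maskOf])⟩

lemma isTetrad_iff {t : Finset GolayPt} : IsTetrad t ↔ ∃ m ∈ tetrads, t = ptSet m := by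
  have hM : inM24 invFree = true := by
    have h := rep_cert
    simp only [Bool.and_eq_true] at h
    exact h.1.1
  have h := tetrad_cert
  simp only [Bool.and_eq_true, List.all_eq_true, forceL_eq, forceN_eq, Bool.or_eq_true,
    List.any_eq_true, decide_eq_true_eq, beq_iff_eq, Nat.beq_eq, Bool.not_eq_true'] at h
  obtain ⟨hpair, ht⟩ := h
  have hv := validT_of_inM24 hM
  constructor
  · rintro ⟨h4, hR, hocts⟩
    obtain ⟨p, hp⟩ := Finset.card_pos.1 (by omega : 0 < t.card)
    have hmem : ∀ x ∈ t, rep x ∈ t := fun x hx => by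
      rw [← hR]; exact Finset.smul_mem_smul_finset hx
    obtain ⟨q, hq, hq'⟩ := Finset.exists_mem_notMem_of_card_lt_card
      (s := ({p, rep p} : Finset GolayPt)) (t := t)
      (lt_of_le_of_lt Finset.card_le_two (by omega))
    simp only [Finset.mem_insert, Finset.mem_singleton, not_or] at hq'
    set m := pairUnion (idx p) (idx q)
    have hidx : ∀ x, app invFree (idx x) = idx (rep x) := fun x => (idx_mkPerm hv x).symm
    have hsetm : ptSet m = {p, rep p, q, rep q} := by
      ext x
      simp only [m, pairUnion, hidx, ptSet_or, ptSet_two_pow (idx_lt _), pt_idx,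
        Finset.mem_union, Finset.mem_insert, Finset.mem_singleton, or_assoc]
    have hsub : ptSet m ⊆ t := by
      rw [hsetm]
      simp [Finset.insert_subset_iff, hp, hq, hmem p hp, hmem q hq]
    rcases hpair (idx p) (List.mem_range.2 (idx_lt p)) (idx q) (List.mem_range.2 (idx_lt q)) with
      (hm | hm) | ⟨o, ho, hom⟩
    · have hm' := List.contains_iff_mem.1 hm
      refine ⟨m, hm', (Finset.eq_of_subset_of_card_le hsub ?_).symm⟩
      rw [card_ptSet, h4, ((ht m hm').1.1.2)]
    · exfalso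
      rw [bne_iff_ne, ← card_ptSet, hsetm, card_quad hq'.1 hq'.2] at hm
      exact hm rfl
    · exfalso
      simp only [movedOcts, List.mem_filter] at ho
      have hoo := ptSet_mem_octads ho.1
      have hmo : maskOf (ptSet o) ∈ movedOcts := by
        rw [maskOf_ptSet (octadList_lt ho.1)]
        exact List.mem_filter.2 ho
      refine (moved_iff hoo).1 hmo (hocts _ hoo ?_)
      have h44 : ptSet m = t := by
        refine Finset.eq_of_subset_of_card_le hsub ?_
        rw [hsetm, h4, card_quad hq'.1 hq'.2]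
      have hsub' := congrArg ptSet hom
      rw [ptSet_and, Finset.inter_eq_right] at hsub'
      rw [← h44]
      exact hsub'
  · rintro ⟨m, hm, rfl⟩
    obtain ⟨⟨⟨hR, hc⟩, hlt⟩, hB⟩ := ht m hm
    refine ⟨by rw [card_ptSet, hc], by rw [rep, ← ptSet_tblImg hv, hR], fun o ho hsub => ?_⟩
    by_contra hne
    have h1 := hB _ ((moved_iff ho).2 hne)
    rw [← Bool.not_eq_true, Nat.beq_eq] at h1
    refine h1 (ptSet_injOn (and_lt_full (maskOf_lt o)) hlt ?_)
    rw [ptSet_and, ptSet_maskOf, Finset.inter_eq_right.2 hsub]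

lemma IsTetrad.smul {c : Equiv.Perm GolayPt} (hc : c ∈ M24) (hcr : Commute c rep)
    {t : Finset GolayPt} (h : IsTetrad t) : IsTetrad (c • t) := by
  obtain ⟨h4, hR, hocts⟩ := h
  refine ⟨by rw [Finset.card_smul_finset, h4], by rw [smul_smul, ← hcr.eq, ← smul_smul, hR],
    fun o ho hsub => ?_⟩
  have h1 := hocts (c⁻¹ • o) (smul_mem_octads (inv_mem hc) ho)
    (Finset.subset_smul_finset_iff.2 (by rwa [inv_inv]))
  rw [smul_smul, ← hcr.inv_left.eq, ← smul_smul] at h1
  exact MulAction.injective _ h1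

/-- The stabiliser of the six tetrads. -/
def tetGrp : Subgroup (Equiv.Perm GolayPt) := stabGrp tetrads 0

theorem mem_tetGrp {σ : Equiv.Perm GolayPt} :
    σ ∈ tetGrp ↔ σ ∈ M24 ∧ ∀ t, IsTetrad t → σ • t = t := by
  rw [tetGrp, mem_stabGrp]
  constructor
  · rintro ⟨h1, h2, -⟩
    refine ⟨h1, fun t ht => ?_⟩
    obtain ⟨m, hm, rfl⟩ := isTetrad_iff.1 ht
    exact h2 m hm
  · rintro ⟨h1, h2⟩
    exact ⟨h1, fun m hm => h2 _ (isTetrad_iff.2 ⟨m, hm, rfl⟩), by simp [ptSet_zero]⟩

theorem conj_mem_tetGrp {c σ : Equiv.Perm GolayPt} (hc : c ∈ M24) (hcr : Commute c rep)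
    (hσ : σ ∈ tetGrp) : c * σ * c⁻¹ ∈ tetGrp := by
  rw [mem_tetGrp] at hσ ⊢
  refine ⟨mul_mem (mul_mem hc hσ.1) (inv_mem hc), fun t ht => ?_⟩
  rw [mul_smul, mul_smul, hσ.2 _ (ht.smul (inv_mem hc) hcr.inv_left), smul_inv_smul]

lemma mem_list {σ : Equiv.Perm GolayPt} (hσ : σ ∈ tetGrp) :
    ∃ T ∈ chainElems freeChain, validT T = true ∧ mkPerm T = σ := by
  have h := rep_cert
  simp only [Bool.and_eq_true] at h
  exact exists_chainElem _ _ _ h.2 σ hσ

/-- The involutions of the stabiliser of the tetrads, with the identity. -/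
def freeGrp : Subgroup (Equiv.Perm GolayPt) where
  carrier := {σ | σ ∈ tetGrp ∧ σ * σ = 1}
  one_mem' := ⟨one_mem _, one_mul _⟩
  inv_mem' := fun {a} h => ⟨inv_mem h.1, by rw [← mul_inv_rev, h.2, inv_one]⟩
  mul_mem' := by
    rintro a b ⟨ha, ha2⟩ ⟨hb, hb2⟩
    refine ⟨mul_mem ha hb, ?_⟩
    have hclo := closure_cert
    simp only [forceL_eq, List.all_eq_true, List.mem_filter] at hclo
    obtain ⟨A, hA, hvA, rfl⟩ := mem_list ha
    obtain ⟨B, hB, hvB, rfl⟩ := mem_list hb
    have h2 := (sqId_iff (tblMul_spec hvA hvB).1).1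
      (hclo A ⟨hA, (sqId_iff hvA).2 ha2⟩ B ⟨hB, (sqId_iff hvB).2 hb2⟩)
    rwa [(tblMul_spec hvA hvB).2] at h2

theorem mem_freeGrp {σ : Equiv.Perm GolayPt} : σ ∈ freeGrp ↔ σ ∈ tetGrp ∧ σ * σ = 1 := Iff.rfl

theorem freeGrp_le : freeGrp ≤ M24 := fun _ h => (mem_tetGrp.1 h.1).1

lemma inStab_mem {T : ℕ} (h : inStab tetrads 0 T = true) (hs : sqId T = true) :
    mkPerm T ∈ freeGrp :=
  ⟨mem_stabGrp_of_inStab h, (sqId_iff (valid_of_inStab h)).1 hs⟩

theorem conj_mem_freeGrp {c σ : Equiv.Perm GolayPt} (hc : c ∈ M24) (hcr : Commute c rep)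
    (hσ : σ ∈ freeGrp) : c * σ * c⁻¹ ∈ freeGrp :=
  ⟨conj_mem_tetGrp hc hcr hσ.1, by
    rw [show c * σ * c⁻¹ * (c * σ * c⁻¹) = c * (σ * σ) * c⁻¹ by group, hσ.2, mul_one,
      mul_inv_cancel]⟩

theorem mem_freeGrp_of_commute {c : Equiv.Perm GolayPt} (hc : c ∈ M24)
    (hcomm : ∀ e ∈ freeGrp, c * e = e * c) : c ∈ freeGrp := by
  have h := meet_cert
  simp only [Bool.and_eq_true, forceL_eq, List.all_eq_true, List.any_eq_true,
    beq_iff_eq, Bool.or_eq_true] at h
  obtain ⟨⟨hsep, hE⟩, hmeet⟩ := h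
  have hfix : ∀ e ∈ freeGrp, c • fixSet e = fixSet e := fun e he => by
    rw [← fixSet_conj, hcomm e he, mul_inv_cancel_right]
  have hK : c ∈ tetGrp := by
    refine mem_tetGrp.2 ⟨hc, fun t ht => ?_⟩
    obtain ⟨m, hm, rfl⟩ := isTetrad_iff.1 ht
    obtain ⟨x, -, ⟨⟨⟨ha, ha2⟩, hb⟩, hb2⟩, hx⟩ := hmeet m hm
    rw [← hx, ptSet_and, ← fixSet_mkPerm (valid_of_inStab ha),
      ← fixSet_mkPerm (valid_of_inStab hb), Finset.smul_finset_inter,
      hfix _ (inStab_mem ha ha2), hfix _ (inStab_mem hb hb2)]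
  refine ⟨hK, ?_⟩
  obtain ⟨T, hT, hv, rfl⟩ := mem_list hK
  rcases hsep T hT with hT2 | ⟨e, he, hne⟩
  · exact (sqId_iff hv).1 hT2
  · exfalso
    have hve := valid_of_inStab (hE e he).1
    rw [Bool.not_eq_true'] at hne
    have h1 : tblEq (tblMul T e) (tblMul e T) = true := by
      rw [tblEq, List.all_eq_true]
      intro i hi
      rw [List.mem_range] at hi
      have s1 := tblMul_spec hv hve
      have s2 := tblMul_spec hve hv
      rw [beq_iff_eq, ← idx_pt i hi, ← idx_mkPerm s1.1, ← idx_mkPerm s2.1, s1.2, s2.2,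
        hcomm _ (inStab_mem (hE e he).1 (hE e he).2)]
    rw [h1] at hne
    exact Bool.noConfusion hne

/-- Characters outside the principal block vanish at all non-trivial `2`-elements. -/
theorem apply_eq_zero {M : Ideal AlgInt} (hM : IsPModular 2 M) {χ : IrrCharacter M24}
    (hχ : χ ∉ principalBlock M M24) {u : M24} (hu : u ≠ 1) (h2 : ∃ k, orderOf u = 2 ^ k) :
    (χ : M24 → ℂ) u = 0 := by
  haveI : Fact (Nat.Prime 2) := ⟨Nat.prime_two⟩
  obtain ⟨k, hk⟩ := h2
  obtain ⟨e, rfl⟩ : ∃ e, k = e + 1 := Nat.exists_eq_succ_of_ne_zero fun h =>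
    hu (orderOf_eq_one_iff.1 (by rw [hk, h, pow_zero]))
  by_cases hfix : ∃ a, ((u ^ 2 ^ e : M24) : Equiv.Perm GolayPt) a = a
  · obtain ⟨a, ha⟩ := hfix
    exact MathieuVanish.apply_eq_zero_of_fixed le_rfl hM hχ hk ha fun g hg => (mem_octGrp.1 hg).1
  simp only [not_exists] at hfix
  have hsq : ((u ^ 2 ^ e : M24) : Equiv.Perm GolayPt) ^ 2 = 1 := by
    rw [← Subgroup.coe_pow, ← pow_mul, ← pow_succ, ← hk, pow_orderOf_eq_one, Subgroup.coe_one]
  obtain ⟨g, hg, hconj⟩ := H95.conj_invFree (u ^ 2 ^ e).2 hsq hfix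
  set g' : M24 := ⟨g, hg⟩
  set v : M24 := g' * u * g'⁻¹ with hv
  have hvo : orderOf v = 2 ^ (e + 1) := by
    rw [hv, ← MulAut.conj_apply, MulEquiv.orderOf_eq, hk]
  have hve : ((v ^ 2 ^ e : M24) : Equiv.Perm GolayPt) = rep := by
    rw [hv, conj_pow, Subgroup.coe_mul, Subgroup.coe_mul, Subgroup.coe_inv]
    exact hconj
  have hcv : (χ : M24 → ℂ) v = (χ : M24 → ℂ) u := CharBasic.IsIrr.isClassFunction χ.2 u g'
  rw [← hcv]
  have hcomm : ∀ c : M24, Commute c v → Commute (c : Equiv.Perm GolayPt) rep := fun c hc => by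
    rw [← hve]; exact (hc.pow_right (2 ^ e)).map M24.subtype
  have hE : IsPGroup 2 (freeGrp.subgroupOf M24) := fun x => ⟨1, Subtype.ext (Subtype.ext (by
    simpa [pow_two] using (mem_freeGrp.1 x.2).2))⟩
  have hpow : IsPGroup 2 (Subgroup.zpowers v) := IsPGroup.of_card
    (n := e + 1) (by rw [Nat.card_zpowers, hvo])
  refine OneBlock.apply_eq_zero hM hvo (fun ψ => OneBlock.mem_principalBlock hM
    (OneBlock.centralizer_pCore_le hpow (freeGrp.subgroupOf M24) hE ?_ ?_) ψ) hχ
  · intro c hc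
    have hc' : Commute c v := Subgroup.mem_centralizer_singleton_iff.1 hc
    have key : ∀ (k : M24), Commute k v → ∀ x ∈ freeGrp.subgroupOf M24,
        k * x * k⁻¹ ∈ freeGrp.subgroupOf M24 := fun k hk x hx =>
      conj_mem_freeGrp k.2 (hcomm k hk) hx
    refine Subgroup.mem_normalizer_iff.2 fun x => ⟨key c hc' x, fun hx => ?_⟩
    have h1 := key c⁻¹ hc'.inv_left _ hx
    rwa [inv_inv, show c⁻¹ * (c * x * c⁻¹) * c = x by group] at h1
  · intro c _ hcE
    exact mem_freeGrp_of_commute c.2 fun x hx =>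
      congrArg Subtype.val (hcE ⟨x, freeGrp_le hx⟩ hx).eq

end Cfsg.Agent.H34.MathieuFree
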