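import Cfsg.Agent.H34.M24Cert
import Cfsg.Agent.H34.M24Sums
import Cfsg.Agent.H34.MathieuFree

/-!
The largest group of the code has a single `2`-block.
-/

set_option autoImplicit false
set_option linter.style.haveILetI false
set_option maxRecDepth 100000

namespace Cfsg.Agent.H34.M24Block

open Cfsg Cfsg.Agent.Golay Cfsg.Agent.H44 Cfsg.Agent.H34
open GenBudget PrimeBounds TwistCount M24Cert M24Sums BlockBasic CharBasic
open scoped Pointwise

/-- Agreement of tables on all positions. -/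
theorem pow_eq_of_iter {X Y : ℕ} (hX : validT X = true) (hY : validT Y = true) {k : ℕ}
    (h : ((List.range 24).all fun i => iterTbl X k i == app Y i) = true) :
    mkPerm X ^ k = mkPerm Y := by
  refine Equiv.ext fun z => idx_injective ?_
  have h' := List.all_eq_true.1 h (idx z) (List.mem_range.2 (idx_lt z))
  rw [beq_iff_eq, iterTbl_spec hX k (idx_lt z), pt_idx, ← idx_mkPerm hY] at h'
  exact h'

theorem pow_eq_one_iff_iter {X : ℕ} (hX : validT X = true) {k : ℕ} :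
    mkPerm X ^ k = 1 ↔ ((List.range 24).all fun i => iterTbl X k i == i) = true := by
  rw [List.all_eq_true]
  constructor
  · intro h i hi
    rw [List.mem_range] at hi
    rw [beq_iff_eq, iterTbl_spec hX k hi, h, Equiv.Perm.one_apply, idx_pt i hi]
  · intro h
    refine Equiv.ext fun z => idx_injective ?_
    have h' := h (idx z) (List.mem_range.2 (idx_lt z))
    rw [beq_iff_eq, iterTbl_spec hX k (idx_lt z), pt_idx] at h'
    exact h'

theorem of_inStab {T : ℕ} (h : inStab [] 0 T = true) : validT T = true ∧ mkPerm T ∈ M24 := by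
  refine ⟨?_, stabGrp_le_M24 _ _ (mem_stabGrp_of_inStab h)⟩
  simp only [inStab, Bool.and_eq_true] at h
  exact validT_of_inM24 h.1.1

/-- The element of a table with the bound on its normaliser. -/
theorem exists_of_norm {X n B : ℕ} {reps : List ℕ} {data : List (ℕ × List ℕ)}
    (h : checkNorm 0 X n reps data B = true) :
    ∃ u : M24, (u : Equiv.Perm GolayPt) = mkPerm X ∧ validT X = true ∧ mkPerm X ^ n = 1 ∧
      (orderOf u = n →
        Nat.card (Subgroup.normalizer (Subgroup.zpowers u : Set M24)) ≤ B) := by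
  have h' := h
  simp only [checkNorm, Bool.and_eq_true] at h'
  obtain ⟨⟨⟨⟨⟨⟨hXs, -⟩, -⟩, -⟩, hit⟩, -⟩, -⟩ := h'
  obtain ⟨hv, hm⟩ := of_inStab hXs
  exact ⟨⟨_, hm⟩, rfl, hv, (pow_eq_one_iff_iter hv).2 hit,
    fun ho => card_normalizer_le h (le_of_eq stabGrp_nil_zero.symm) rfl ho⟩

/-- An element of prime order, conjugate to a power, with a bounded normaliser. -/
theorem exists_elt {X c n B k : ℕ} {reps : List ℕ} {data : List (ℕ × List ℕ)} (hn : n.Prime)
    (h1 : checkNorm 0 X n reps data B = true) (h2 : inStab [] 0 c = true)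
    (h3 : ((List.range 24).all fun i => iterTbl X n i == i) = true)
    (h4 : ((List.range 24).all fun i => app X i == i) = false)
    (h5 : ((List.range 24).all fun i => app c (app X i) == iterTbl X k (app c i)) = true) :
    ∃ u : M24, (u : Equiv.Perm GolayPt) = mkPerm X ∧ validT X = true ∧ orderOf u = n ∧
      IsConj u (u ^ k) ∧ Nat.card (Subgroup.normalizer (Subgroup.zpowers u : Set M24)) ≤ B := by
  obtain ⟨u, hu, hX, -, hB⟩ := exists_of_norm h1
  obtain ⟨hc, hcm⟩ := of_inStab h2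
  have hord : orderOf u = n := by
    rw [← Subgroup.orderOf_coe, hu]; exact orderOf_mkPerm hn hX h3 h4
  refine ⟨u, hu, hX, hord, isConj_iff.2 ⟨⟨mkPerm c, hcm⟩, Subtype.ext ?_⟩, hB hord⟩
  rw [Subgroup.coe_mul, Subgroup.coe_mul, Subgroup.coe_inv, Subgroup.coe_pow, hu]
  show mkPerm c * mkPerm X * (mkPerm c)⁻¹ = mkPerm X ^ k
  rw [mul_inv_eq_iff_eq_mul]
  refine Equiv.ext fun z => ?_
  have h := List.all_eq_true.1 h5 (idx z) (List.mem_range.2 (idx_lt z))
  rw [beq_iff_eq] at h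
  rw [Equiv.Perm.mul_apply, Equiv.Perm.mul_apply, mkPerm_apply hX z,
    mkPerm_pt hc ((validT_bijective hX).2 _ (idx_lt z)), h,
    iterTbl_spec hX k ((validT_bijective hc).2 _ (idx_lt z)), pt_idx, ← mkPerm_pt hc (idx_lt z),
    pt_idx]

/-- An element whose order is a product of two primes. -/
theorem orderOf_eq_mul {G : Type*} [Group G] {g : G} {p q : ℕ} (hp : p.Prime) (hq : q.Prime)
    (h1 : g ^ (p * q) = 1) (hp' : g ^ p ≠ 1) (hq' : g ^ q ≠ 1) : orderOf g = p * q := by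
  have hd := orderOf_dvd_of_pow_eq_one h1
  obtain ⟨a, b, ha, hb, hab⟩ := (Nat.dvd_mul.1 hd)
  rcases (Nat.dvd_prime hp).1 ha with rfl | rfl <;> rcases (Nat.dvd_prime hq).1 hb with rfl | rfl
  · exact absurd (orderOf_dvd_iff_pow_eq_one.1 (hab ▸ one_dvd _)) hp'
  · exact absurd (orderOf_dvd_iff_pow_eq_one.1 (by rw [← hab, one_mul])) hq'
  · exact absurd (orderOf_dvd_iff_pow_eq_one.1 (by rw [← hab, mul_one])) hp'
  · exact hab.symm

theorem bounds_twentythree {x y : ℤ} (hy : 11 * y % 23 = 1024 % 23) (hp : 2 ∣ x - y) :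
    24 ≤ y ^ 2 + 23 * x ^ 2 := by
  rcases eq_or_ne x 0 with rfl | hx
  · obtain ⟨z, rfl⟩ : 2 ∣ y := by omega
    rcases (show z ≤ -3 ∨ 3 ≤ z by omega) with h | h <;> nlinarith
  · have h1 := M24Sums.one_le_sq hx
    have h2 : 1 ≤ y ^ 2 := M24Sums.one_le_sq (by omega)
    linarith

theorem bounds_seven {x y : ℤ} (hy : 3 * y % 7 = 1024 % 7) (hp : 2 ∣ x - y) :
    y ^ 2 + 7 * x ^ 2 = 16 ∨ 37 ≤ y ^ 2 + 7 * x ^ 2 := by
  rcases eq_or_ne x 0 with rfl | hx
  · obtain ⟨z, rfl⟩ : 2 ∣ y := by omega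
    rcases (show z ≤ -5 ∨ z = -2 ∨ 5 ≤ z by omega) with h | h | h
    · right; nlinarith
    · left; subst h; norm_num
    · right; nlinarith
  · have h9 : 9 ≤ y ^ 2 := by rcases (show y ≤ -3 ∨ 3 ≤ y by omega) with h | h <;> nlinarith
    rcases (show x ≤ -2 ∨ x = -1 ∨ x = 1 ∨ 2 ≤ x by omega) with h | h | h | h
    · right; nlinarith
    · subst h
      rcases (show y ≤ -11 ∨ y = 3 ∨ 11 ≤ y by omega) with h | h | h
      · right; nlinarith
      · left; subst h; norm_num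
      · right; nlinarith
    · subst h
      rcases (show y ≤ -11 ∨ y = 3 ∨ 11 ≤ y by omega) with h | h | h
      · right; nlinarith
      · left; subst h; norm_num
      · right; nlinarith
    · right; nlinarith

theorem thirty_six_le {t : ℤ} (ht : t % 5 = 1024 % 5) (h3 : 3 ∣ t) : 36 ≤ t ^ 2 := by
  rcases (show t ≤ -6 ∨ 6 ≤ t by omega) with h | h <;> nlinarith

theorem sq_le_of_modEq {t : ℤ} (ht : t % 11 = 1024 % 11) : 1 ≤ t ^ 2 :=
  M24Sums.one_le_sq (by omega)

lemma small_cases : ∀ k ∈ ([3, 5, 7, 9, 11, 15] : List ℤ), ∀ a ∈ List.range 3, ∀ b ∈ List.range 13,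
    ∀ c ∈ List.range 7, ¬ (11 * ((b : ℤ) - 6) % 23 = 1024 * k % 23 ∧
      (((a : ℤ) - 1) - ((b : ℤ) - 6)) % 2 = 0 ∧ ((c : ℤ) - 3) % 11 = 1024 * k % 11 ∧
      1048576 * k ^ 2 + (5322240 * (((b : ℤ) - 6) ^ 2 + 23 * ((a : ℤ) - 1) ^ 2) +
        22256640 * ((c : ℤ) - 3) ^ 2) ≤ 244823040) := by
  decide +kernel

/-- The inequality leaves degree `1024` only. -/
theorem degree_eq {k : ℕ} (hdvd : 1024 * k ∣ 244823040) (hk0 : k ≠ 0) {x y t : ℤ}
    (hint : 1048576 * (k : ℤ) ^ 2 + (5322240 * (y ^ 2 + 23 * x ^ 2) + 22256640 * t ^ 2)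
      ≤ 244823040)
    (hy : 11 * y ≡ ((2 ^ 10 * k : ℕ) : ℤ) [ZMOD 23]) (hp : 2 ∣ x - y)
    (ht : t ≡ ((2 ^ 10 * k : ℕ) : ℤ) [ZMOD 11]) : k = 1 := by
  rw [Int.ModEq] at hy ht
  push_cast at hy ht
  have hk15 : k ≤ 15 := by
    by_contra! h
    have : (16 : ℤ) ≤ k := by exact_mod_cast h
    nlinarith [sq_nonneg x, sq_nonneg y, sq_nonneg t]
  have hk' : k = 1 ∨ k = 3 ∨ k = 5 ∨ k = 7 ∨ k = 9 ∨ k = 11 ∨ k = 15 := by
    interval_cases k <;> omega
  rcases eq_or_ne k 1 with h | h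
  · exact h
  exfalso
  have hk3 : (3 : ℤ) ≤ k := by exact_mod_cast (show 3 ≤ k by omega)
  have hx : -1 ≤ x ∧ x ≤ 1 := by
    constructor <;> by_contra! h' <;>
      nlinarith [sq_nonneg y, sq_nonneg t, mul_self_le_mul_self (by norm_num) hk3]
  have hy' : -6 ≤ y ∧ y ≤ 6 := by
    constructor <;> by_contra! h' <;>
      nlinarith [sq_nonneg x, sq_nonneg t, mul_self_le_mul_self (by norm_num) hk3]
  have ht' : -3 ≤ t ∧ t ≤ 3 := by
    constructor <;> by_contra! h' <;>
      nlinarith [sq_nonneg x, sq_nonneg y, mul_self_le_mul_self (by norm_num) hk3]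
  have hkm : (k : ℤ) ∈ ([3, 5, 7, 9, 11, 15] : List ℤ) := by
    rcases hk' with rfl | rfl | rfl | rfl | rfl | rfl | rfl <;> simp_all
  refine small_cases _ hkm (x + 1).toNat (List.mem_range.2 (by omega)) (y + 6).toNat
    (List.mem_range.2 (by omega)) (t + 3).toNat (List.mem_range.2 (by omega)) ?_
  rw [Int.toNat_of_nonneg (by omega), Int.toNat_of_nonneg (by omega),
    Int.toNat_of_nonneg (by omega), add_sub_cancel_right, add_sub_cancel_right,
    add_sub_cancel_right]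
  exact ⟨hy, Int.emod_eq_zero_of_dvd hp, ht, hint⟩

/-- The contradiction for the smallest degree. -/
theorem no_small_degree {x23 y23 t11 x7 y7 t5 : ℤ} {X15 X21 : ℝ}
    (h23 : 11 * y23 % 23 = 1024 % 23) (p23 : 2 ∣ x23 - y23)
    (h11 : t11 % 11 = 1024 % 11)
    (h7 : 3 * y7 % 7 = 1024 % 7) (p7 : 2 ∣ x7 - y7) (h5 : t5 % 5 = 1024 % 5)
    (e15 : ¬ 3 ∣ t5 → 32643072 ≤ X15) (e21 : y7 ^ 2 + 7 * x7 ^ 2 = 16 → 23316480 ≤ X21)
    (n15 : 0 ≤ X15) (n21 : 0 ≤ X21)
    (h : 1048576 + (5322240 * ((y23 : ℝ) ^ 2 + 23 * (x23 : ℝ) ^ 2) + 22256640 * (t11 : ℝ) ^ 2 +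
      2914560 * ((y7 : ℝ) ^ 2 + 7 * (x7 : ℝ) ^ 2) + 4080384 * (t5 : ℝ) ^ 2 + X15 + X21) ≤
        244823040) : False := by
  have b23 : (24 : ℝ) ≤ (y23 : ℝ) ^ 2 + 23 * (x23 : ℝ) ^ 2 := by
    exact_mod_cast bounds_twentythree h23 p23
  have b11 : (1 : ℝ) ≤ (t11 : ℝ) ^ 2 := by exact_mod_cast sq_le_of_modEq h11
  have b7 := bounds_seven h7 p7
  have b7' : (16 : ℝ) ≤ (y7 : ℝ) ^ 2 + 7 * (x7 : ℝ) ^ 2 := by
    exact_mod_cast (show 16 ≤ y7 ^ 2 + 7 * x7 ^ 2 by omega)
  by_cases h3 : 3 ∣ t5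
  · have b5 : (36 : ℝ) ≤ (t5 : ℝ) ^ 2 := by exact_mod_cast thirty_six_le h5 h3
    nlinarith
  · have b15 := e15 h3
    rcases b7 with b7 | b7
    · have b21 := e21 b7
      nlinarith [sq_nonneg (t5 : ℝ)]
    · have b7'' : (37 : ℝ) ≤ (y7 : ℝ) ^ 2 + 7 * (x7 : ℝ) ^ 2 := by exact_mod_cast b7
      nlinarith [sq_nonneg (t5 : ℝ)]

/-- Every irreducible character is in the principal block. -/
theorem mem_principal {M : Ideal AlgInt} (hM : IsPModular 2 M) (χ : IrrCharacter M24) :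
    χ ∈ principalBlock M M24 := by
  classical
  by_contra hχ
  haveI : Fact (Nat.Prime 2) := ⟨Nat.prime_two⟩
  haveI : Fact (Nat.Prime 3) := ⟨Nat.prime_three⟩
  haveI : Fact (Nat.Prime 5) := ⟨by norm_num⟩
  haveI : Fact (Nat.Prime 7) := ⟨by norm_num⟩
  haveI : Fact (Nat.Prime 11) := ⟨by norm_num⟩
  haveI : Fact (Nat.Prime 23) := ⟨by norm_num⟩
  haveI : Fintype M24 := Fintype.ofFinite _
  have hG : Nat.card M24 = 244823040 := card_M24
  -- the degree
  obtain ⟨k, hk⟩ := OneBlock.pow_dvd_degree (p := 2) χ fun u h1 h2 =>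
    MathieuFree.apply_eq_zero hM hχ h1 h2
  have h210 : (Nat.card M24).factorization 2 = 10 := by
    rw [hG, show 244823040 = 2 ^ 10 * 239085 by norm_num,
      Nat.factorization_mul (by norm_num) (by norm_num), Finsupp.add_apply,
      Nat.prime_two.factorization_pow, Finsupp.single_eq_same,
      Nat.factorization_eq_zero_of_not_dvd (show ¬ 2 ∣ 239085 by norm_num)]
  rw [h210] at hk
  have hdeg : charDegree (χ : M24 → ℂ) = 1024 * k := by
    have := (apply_one_eq_charDegree χ).symm.trans hk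
    exact_mod_cast this
  have hdvd : 1024 * k ∣ 244823040 := by
    have h := charDegree_dvd χ
    rwa [hdeg, hG] at h
  have hk0 : k ≠ 0 := by
    rintro rfl
    exact IsIrr.one_ne_zero χ.2 (by simpa using hk)
  have hχc := IsIrr.isCharacter χ.2
  have hcf := IsIrr.isClassFunction χ.2
  -- the elements
  obtain ⟨u23, -, -, o23, c23, B23⟩ := exists_elt (by norm_num) normTwentyThree certTwentyThree.1
    certTwentyThree.2.1 certTwentyThree.2.2.1 certTwentyThree.2.2.2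
  obtain ⟨u11, -, -, o11, c11, B11⟩ := exists_elt (by norm_num) normEleven certEleven.1
    certEleven.2.1 certEleven.2.2.1 certEleven.2.2.2
  obtain ⟨u7, e7, v7, o7, c7, B7⟩ := exists_elt (by norm_num) normSeven certSeven.1
    certSeven.2.1 certSeven.2.2.1 certSeven.2.2.2
  obtain ⟨u5, e5, v5, o5, c5, B5⟩ := exists_elt (by norm_num) normFive certFive.1
    certFive.2.1 certFive.2.2.1 certFive.2.2.2
  obtain ⟨u15, e15, v15, p15, B15⟩ := exists_of_norm normFifteen
  obtain ⟨u21, e21, v21, p21, B21⟩ := exists_of_norm normTwentyOne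
  obtain ⟨q15, q21, r15, r21⟩ := powersComposite
  have h15pow : u15 ^ 6 = u5 := Subtype.ext (by
    rw [Subgroup.coe_pow, e15, e5]; exact pow_eq_of_iter v15 v5 q15)
  have h21pow : u21 ^ 15 = u7 := Subtype.ext (by
    rw [Subgroup.coe_pow, e21, e7]; exact pow_eq_of_iter v21 v7 q21)
  have o15 : orderOf u15 = 15 := by
    refine orderOf_eq_mul (p := 5) (q := 3) (by norm_num) (by norm_num)
      (Subtype.ext (by rw [Subgroup.coe_pow, e15]; exact p15)) ?_ ?_
    · intro h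
      have := congrArg (fun g : M24 => (g : Equiv.Perm GolayPt)) h
      rw [Subgroup.coe_pow, e15, Subgroup.coe_one, pow_eq_one_iff_iter v15, r15] at this
      exact Bool.noConfusion this
    · intro h
      have h6 : u5 = 1 := by rw [← h15pow, show 6 = 3 * 2 by norm_num, pow_mul, h, one_pow]
      simp [h6] at o5
  have o21 : orderOf u21 = 21 := by
    refine orderOf_eq_mul (p := 7) (q := 3) (by norm_num) (by norm_num)
      (Subtype.ext (by rw [Subgroup.coe_pow, e21]; exact p21)) ?_ ?_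
    · intro h
      have := congrArg (fun g : M24 => (g : Equiv.Perm GolayPt)) h
      rw [Subgroup.coe_pow, e21, Subgroup.coe_one, pow_eq_one_iff_iter v21, r21] at this
      exact Bool.noConfusion this
    · intro h
      have h7 : u7 = 1 := by rw [← h21pow, show 15 = 3 * 5 by norm_num, pow_mul, h, one_pow]
      simp [h7] at o7
  obtain ⟨m23, i23, d23, -, T23⟩ := exists_unit_sums hχc o23 hk
  obtain ⟨m11, i11, d11, -, T11⟩ := exists_unit_sums hχc o11 hk
  obtain ⟨m7, i7, d7, -, T7⟩ := exists_unit_sums hχc o7 hk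
  obtain ⟨m5, i5, d5, S5, T5⟩ := exists_unit_sums hχc o5 hk
  obtain ⟨x23, y23, hy23, hp23, ht23⟩ := twentythree_bound (i23 2 (by norm_num) c23) d23
  obtain ⟨t11, ht11, hs11⟩ := M24Sums.eleven_bound (i11 2 (by norm_num) c11) d11
  obtain ⟨x7, y7, hy7, hp7, -, ht7⟩ := M24Sums.seven_bound (i7 2 (by norm_num) c7) d7
  obtain ⟨t5, ht5, hs5, hq5⟩ := M24Sums.five_bound (i5 2 (by norm_num) c5) d5
  rw [hs11] at T11
  rw [hs5] at S5
  rw [hq5] at T5
  have hχ5 : (χ : M24 → ℂ) u5 = (t5 : ℂ) := by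
    rw [apply_pow_five hχc o5 c5] at S5
    push_cast at S5
    linear_combination S5 / 4
  set a23 : ℤ := ((23 * ∑ j, m23 j ^ 2 : ℕ) : ℤ) - ((2 ^ 10 * k : ℕ) : ℤ) ^ 2 with ha23
  set a7 : ℤ := ((7 * ∑ j, m7 j ^ 2 : ℕ) : ℤ) - ((2 ^ 10 * k : ℕ) : ℤ) ^ 2 with ha7
  have r23 : 2 * (a23 : ℝ) = 11 * ((y23 : ℝ) ^ 2 + 23 * (x23 : ℝ) ^ 2) := by exact_mod_cast ht23
  have r7 : 2 * (a7 : ℝ) = 3 * ((y7 : ℝ) ^ 2 + 7 * (x7 : ℝ) ^ 2) := by exact_mod_cast ht7
  set f : M24 → ℝ := fun g => ‖(χ : M24 → ℂ) g‖ ^ 2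
  set X23 := ∑ g ∈ gens u23, f g with hX23
  set X11 := ∑ g ∈ gens u11, f g with hX11
  set X7 := ∑ g ∈ gens u7, f g with hX7
  set X5 := ∑ g ∈ gens u5, f g with hX5
  set X15 := ∑ g ∈ gens u15, f g with hX15
  set X21 := ∑ g ∈ gens u21, f g with hX21
  have hb : ∀ (u : M24) (B : ℕ) (T X : ℝ),
      Nat.card (Subgroup.normalizer (Subgroup.zpowers u : Set M24)) ≤ B →
      T ≤ ∑ i ∈ unitsOf (orderOf u), ‖(χ : M24 → ℂ) (u ^ i)‖ ^ 2 →
      ∑ g ∈ gens u, f g = X → 244823040 * T ≤ B * X := by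
    intro u B T X hB hT hX
    have h := mul_le_of_card_normalizer_le hcf u hB hT
    rw [hG, hX] at h
    simpa using h
  have b23 := hb u23 253 _ X23 B23 (le_of_eq T23.symm) hX23.symm
  have b11 := hb u11 110 _ X11 B11 (le_of_eq T11.symm) hX11.symm
  have b7 := hb u7 126 _ X7 B7 (le_of_eq T7.symm) hX7.symm
  have b5 := hb u5 240 _ X5 B5 (le_of_eq T5.symm) hX5.symm
  push_cast at b11 b5
  rw [Nat.cast_ofNat] at b23 b7
  have hkey := sq_add_sum_le χ.2 (Finset.univ : Finset (Fin 6)) ![u23, u11, u7, u5, u15, u21]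
    (fun i _ j _ => by fin_cases i <;> fin_cases j <;> simp [o23, o11, o7, o5, o15, o21])
    (fun i _ => by fin_cases i <;> simp [o23, o11, o7, o5, o15, o21])
  rw [Fin.sum_univ_six, hk, hG, Complex.norm_natCast] at hkey
  simp only [Nat.cast_mul, Nat.cast_pow, Nat.cast_ofNat] at hkey
  change _ + (X23 + X11 + X7 + X5 + X15 + X21) ≤ _ at hkey
  have nn : ∀ u : M24, 0 ≤ ∑ g ∈ gens u, f g := fun u => Finset.sum_nonneg fun _ _ => sq_nonneg _
  have hint : 1048576 * (k : ℤ) ^ 2 + (5322240 * (y23 ^ 2 + 23 * x23 ^ 2) + 22256640 * t11 ^ 2)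
      ≤ 244823040 := by
    have : 1048576 * (k : ℝ) ^ 2 + (5322240 * ((y23 : ℝ) ^ 2 + 23 * (x23 : ℝ) ^ 2) +
        22256640 * (t11 : ℝ) ^ 2) ≤ 244823040 := by
      linarith [hkey, b23, b11, r23, nn u7, nn u5, nn u15, nn u21]
    exact_mod_cast this
  obtain rfl := degree_eq hdvd hk0 hint hy23 hp23 ht11
  -- non-vanishing at the elements of composite order
  obtain ⟨M3, hM3⟩ := exists_isPModular Nat.prime_three
  have e15' : ¬ 3 ∣ t5 → 32643072 ≤ X15 := by
    intro h3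
    have hne : (χ : M24 → ℂ) u15 ≠ 0 := by
      refine ne_zero_of_part hM3 hχc (a := 10) (b := 6) (by rw [o15]) (by norm_num) ⟨1, ?_⟩ ?_ ?_
      · rw [orderOf_pow, o15]; norm_num
      · rw [h15pow, o5]; norm_num
      · rw [h15pow, hχ5, memLocalIdeal_intCast_iff hM3]
        exact_mod_cast h3
    have h := hb u15 60 8 X15 (B15 o15) (le_trans (le_of_eq ?_)
      (H81.card_le_sum_norm_sq hχc hne)) hX15.symm
    · push_cast at h
      linarith
    · rw [o15]; norm_num [show (((Finset.range 15).filter fun k => Nat.Coprime k 15).card) = 8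
        by decide]
  have e21' : y7 ^ 2 + 7 * x7 ^ 2 = 16 → 23316480 ≤ X21 := by
    intro h16
    have hne : (χ : M24 → ℂ) u21 ≠ 0 := by
      refine ne_zero_of_part hM3 hχc (a := 7) (b := 15) (by rw [o21]) (by norm_num) ⟨1, ?_⟩ ?_ ?_
      · rw [orderOf_pow, o21]; norm_num
      · rw [h21pow, o7]; norm_num
      · rw [h21pow]
        intro hmem
        have hn := norm_pow_seven hχc o7 c7
        rw [T7] at hn
        have h16' : (y7 : ℝ) ^ 2 + 7 * (x7 : ℝ) ^ 2 = 16 := by exact_mod_cast h16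
        have h4 : ‖(χ : M24 → ℂ) u7‖ ^ 2 = 4 := by linarith
        have hm := memLocalIdeal_mul hM3
          (memLocalRing_of_isIntegral hM3 (isIntegral_conj_apply χ u7)) hmem
        rw [Complex.conj_mul', ← Complex.ofReal_pow, h4] at hm
        have h34 := (memLocalIdeal_natCast_iff hM3 4).1 (by simpa using hm)
        norm_num at h34
    have h := hb u21 126 12 X21 (B21 o21) (le_trans (le_of_eq ?_)
      (H81.card_le_sum_norm_sq hχc hne)) hX21.symm
    · push_cast at h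
      linarith
    · rw [o21]; norm_num [show (((Finset.range 21).filter fun k => Nat.Coprime k 21).card) = 12
        by decide]
  have hy23' : 11 * y23 % 23 = 1024 % 23 := by simpa [Int.ModEq] using hy23
  have hy11' : t11 % 11 = 1024 % 11 := by simpa [Int.ModEq] using ht11
  have hy7' : 3 * y7 % 7 = 1024 % 7 := by simpa [Int.ModEq] using hy7
  have hy5' : t5 % 5 = 1024 % 5 := by simpa [Int.ModEq] using ht5
  refine no_small_degree hy23' hp23 hy11' hy7' hp7 hy5' e15' e21' (nn u15) (nn u21) ?_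
  push_cast at hkey
  linarith [hkey, b23, b11, b7, b5, r23, r7]

end Cfsg.Agent.H34.M24Block
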