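import Cfsg.Agent.H34.TwistFast
import Cfsg.Agent.Golay.MathieuData

/-!
Generated certificate: the bound on the normaliser of a cyclic subgroup of order 11, one exponent at a time.
-/

set_option autoImplicit false
set_option maxRecDepth 100000

namespace Cfsg.Agent.H34.M24Cert

open Cfsg Cfsg.Agent.Golay Cfsg.Agent.H44 Cfsg.Agent.H34.TwistCount

/-- An element of order 11. -/
def eltEleven : ℕ := 416893623929200281296149647733732079

/-- Witness octads for the exponent 1. -/
def witEleven_1 : List ℕ :=
  [0, 18147, 18147, 0, 0, 0, 0, 0, 0, 18147,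
    18147, 18147, 0, 0, 18147, 18147, 18147, 18147, 0, 0,
    18147, 18147]

lemma countEleven_1 : survCount 0 eltEleven 11 1 [0] witEleven_1 = 11 := by
  decide +kernel

/-- Witness octads for the exponent 2. -/
def witEleven_2 : List ℕ :=
  [18147, 0, 0, 18147, 18147, 18147, 18147, 18147, 18147, 0,
    0, 0, 18147, 18147, 0, 0, 0, 0, 18147, 18147,
    0, 0]

lemma countEleven_2 : survCount 0 eltEleven 11 2 [0] witEleven_2 = 11 := by
  decide +kernel

/-- Witness octads for the exponent 3. -/
def witEleven_3 : List ℕ :=
  [0, 18147, 18147, 0, 0, 0, 0, 0, 0, 18147,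
    18147, 18147, 0, 0, 18147, 18147, 18147, 18147, 0, 0,
    18147, 18147]

lemma countEleven_3 : survCount 0 eltEleven 11 3 [0] witEleven_3 = 11 := by
  decide +kernel

/-- Witness octads for the exponent 4. -/
def witEleven_4 : List ℕ :=
  [0, 18147, 18147, 0, 0, 0, 0, 0, 0, 18147,
    18147, 18147, 0, 0, 18147, 18147, 18147, 18147, 0, 0,
    18147, 18147]

lemma countEleven_4 : survCount 0 eltEleven 11 4 [0] witEleven_4 = 11 := by
  decide +kernel

/-- Witness octads for the exponent 5. -/
def witEleven_5 : List ℕ :=
  [0, 18147, 18147, 0, 0, 0, 0, 0, 0, 18147,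
    18147, 18147, 0, 0, 18147, 18147, 18147, 18147, 0, 0,
    18147, 18147]

lemma countEleven_5 : survCount 0 eltEleven 11 5 [0] witEleven_5 = 11 := by
  decide +kernel

/-- Witness octads for the exponent 6. -/
def witEleven_6 : List ℕ :=
  [18147, 0, 0, 18147, 18147, 18147, 18147, 18147, 18147, 0,
    0, 0, 18147, 18147, 0, 0, 0, 0, 18147, 18147,
    0, 0]

lemma countEleven_6 : survCount 0 eltEleven 11 6 [0] witEleven_6 = 11 := by
  decide +kernel

/-- Witness octads for the exponent 7. -/
def witEleven_7 : List ℕ :=
  [18147, 0, 0, 18147, 18147, 18147, 18147, 18147, 18147, 0,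
    0, 0, 18147, 18147, 0, 0, 0, 0, 18147, 18147,
    0, 0]

lemma countEleven_7 : survCount 0 eltEleven 11 7 [0] witEleven_7 = 11 := by
  decide +kernel

/-- Witness octads for the exponent 8. -/
def witEleven_8 : List ℕ :=
  [18147, 0, 0, 18147, 18147, 18147, 18147, 18147, 18147, 0,
    0, 0, 18147, 18147, 0, 0, 0, 0, 18147, 18147,
    0, 0]

lemma countEleven_8 : survCount 0 eltEleven 11 8 [0] witEleven_8 = 11 := by
  decide +kernel

/-- Witness octads for the exponent 9. -/
def witEleven_9 : List ℕ :=
  [0, 18147, 18147, 0, 0, 0, 0, 0, 0, 18147,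
    18147, 18147, 0, 0, 18147, 18147, 18147, 18147, 0, 0,
    18147, 18147]

lemma countEleven_9 : survCount 0 eltEleven 11 9 [0] witEleven_9 = 11 := by
  decide +kernel

/-- Witness octads for the exponent 10. -/
def witEleven_10 : List ℕ :=
  [18147, 0, 0, 18147, 18147, 18147, 18147, 18147, 18147, 0,
    0, 0, 18147, 18147, 0, 0, 0, 0, 18147, 18147,
    0, 0]

lemma countEleven_10 : survCount 0 eltEleven 11 10 [0] witEleven_10 = 11 := by
  decide +kernel

/-- The exponents with their witnesses. -/
def witEleven : List (ℕ × List ℕ) :=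
  [(1, witEleven_1), (2, witEleven_2), (3, witEleven_3), (4, witEleven_4),
   (5, witEleven_5), (6, witEleven_6), (7, witEleven_7), (8, witEleven_8),
   (9, witEleven_9), (10, witEleven_10)]

lemma normEleven : checkNorm 0 eltEleven 11 [0] witEleven 110 = true :=
  checkNorm_of_counts (by decide +kernel) (by
    simp only [witEleven, List.map_cons, List.map_nil, List.sum_cons, List.sum_nil,
      countEleven_1, countEleven_2, countEleven_3, countEleven_4,
      countEleven_5, countEleven_6, countEleven_7, countEleven_8,
      countEleven_9, countEleven_10, Nat.reduceAdd, le_refl])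

/-- An element conjugating it into a power. -/
def conjEleven : ℕ := 136969989855839239527934845072572897

lemma certEleven :
    inStab [] 0 conjEleven = true ∧
    ((List.range 24).all fun i => iterTbl eltEleven 11 i == i) = true ∧
    ((List.range 24).all fun i => app eltEleven i == i) = false ∧
    ((List.range 24).all fun i => app conjEleven (app eltEleven i) ==
      iterTbl eltEleven 2 (app conjEleven i)) = true := by
  decide +kernel

end Cfsg.Agent.H34.M24Cert
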