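import Cfsg.Agent.H34.TwistFast
import Cfsg.Agent.Golay.MathieuData

/-!
Generated certificate: the bound on the normaliser of a cyclic subgroup of order 15, one exponent at a time.
-/

set_option autoImplicit false
set_option maxRecDepth 100000

namespace Cfsg.Agent.H34.M24Cert

open Cfsg Cfsg.Agent.Golay Cfsg.Agent.H44 Cfsg.Agent.H34.TwistCount

/-- An element of order 15. -/
def eltFifteen : ℕ := 937998288362394774138460350144027683

/-- Witness octads for the exponent 1. -/
def witFifteen_1 : List ℕ :=
  [0, 0, 0, 0, 0, 0, 0, 0, 0, 0,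
    0, 0, 0, 0, 0]

lemma countFifteen_1 : survCount 0 eltFifteen 15 1 [0] witFifteen_1 = 15 := by
  decide +kernel

/-- Witness octads for the exponent 2. -/
def witFifteen_2 : List ℕ :=
  [0, 0, 0, 0, 0, 0, 0, 0, 0, 0,
    0, 0, 0, 0, 0]

lemma countFifteen_2 : survCount 0 eltFifteen 15 2 [0] witFifteen_2 = 15 := by
  decide +kernel

/-- Witness octads for the exponent 4. -/
def witFifteen_4 : List ℕ :=
  [0, 0, 0, 0, 0, 0, 0, 0, 0, 0,
    0, 0, 0, 0, 0]

lemma countFifteen_4 : survCount 0 eltFifteen 15 4 [0] witFifteen_4 = 15 := by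
  decide +kernel

/-- Witness octads for the exponent 7. -/
def witFifteen_7 : List ℕ :=
  [5279, 5279, 5279, 5279, 5279, 5279, 5279, 5279, 5279, 5279,
    5279, 5279, 5279, 5279, 5279]

lemma countFifteen_7 : survCount 0 eltFifteen 15 7 [0] witFifteen_7 = 0 := by
  decide +kernel

/-- Witness octads for the exponent 8. -/
def witFifteen_8 : List ℕ :=
  [0, 0, 0, 0, 0, 0, 0, 0, 0, 0,
    0, 0, 0, 0, 0]

lemma countFifteen_8 : survCount 0 eltFifteen 15 8 [0] witFifteen_8 = 15 := by
  decide +kernel

/-- Witness octads for the exponent 11. -/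
def witFifteen_11 : List ℕ :=
  [5279, 5279, 5279, 5279, 5279, 5279, 5279, 5279, 5279, 5279,
    5279, 5279, 5279, 5279, 5279]

lemma countFifteen_11 : survCount 0 eltFifteen 15 11 [0] witFifteen_11 = 0 := by
  decide +kernel

/-- Witness octads for the exponent 13. -/
def witFifteen_13 : List ℕ :=
  [5279, 5279, 5279, 5279, 5279, 5279, 5279, 5279, 5279, 5279,
    5279, 5279, 5279, 5279, 5279]

lemma countFifteen_13 : survCount 0 eltFifteen 15 13 [0] witFifteen_13 = 0 := by
  decide +kernel

/-- Witness octads for the exponent 14. -/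
def witFifteen_14 : List ℕ :=
  [5279, 5279, 5279, 5279, 5279, 5279, 5279, 5279, 5279, 5279,
    5279, 5279, 5279, 5279, 5279]

lemma countFifteen_14 : survCount 0 eltFifteen 15 14 [0] witFifteen_14 = 0 := by
  decide +kernel

/-- The exponents with their witnesses. -/
def witFifteen : List (ℕ × List ℕ) :=
  [(1, witFifteen_1), (2, witFifteen_2), (4, witFifteen_4), (7, witFifteen_7),
   (8, witFifteen_8), (11, witFifteen_11), (13, witFifteen_13), (14, witFifteen_14)]

lemma normFifteen : checkNorm 0 eltFifteen 15 [0] witFifteen 60 = true :=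
  checkNorm_of_counts (by decide +kernel) (by
    simp only [witFifteen, List.map_cons, List.map_nil, List.sum_cons, List.sum_nil,
      countFifteen_1, countFifteen_2, countFifteen_4, countFifteen_7,
      countFifteen_8, countFifteen_11, countFifteen_13, countFifteen_14, Nat.reduceAdd, le_refl])

end Cfsg.Agent.H34.M24Cert
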