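import Cfsg.Agent.H34.TwistFast
import Cfsg.Agent.Golay.MathieuData

/-!
Generated certificate: the bound on the normaliser of a cyclic subgroup of order 21, one exponent at a time.
-/

set_option autoImplicit false
set_option maxRecDepth 100000

namespace Cfsg.Agent.H34.M24Cert

open Cfsg Cfsg.Agent.Golay Cfsg.Agent.H44 Cfsg.Agent.H34.TwistCount

/-- An element of order 21. -/
def eltTwentyOne : ℕ := 815695422031505592972647248157776469

/-- Witness octads for the exponent 1. -/
def witTwentyOne_1 : List ℕ :=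
  [0, 0, 0, 0, 0, 0, 0, 0, 0, 0,
    0, 0, 0, 0, 0, 0, 0, 0, 0, 0,
    0]

lemma countTwentyOne_1 : survCount 0 eltTwentyOne 21 1 [1] witTwentyOne_1 = 21 := by
  decide +kernel

/-- Witness octads for the exponent 2. -/
def witTwentyOne_2 : List ℕ :=
  [0, 0, 0, 0, 0, 0, 0, 0, 0, 0,
    0, 0, 0, 0, 0, 0, 0, 0, 0, 0,
    0]

lemma countTwentyOne_2 : survCount 0 eltTwentyOne 21 2 [1] witTwentyOne_2 = 21 := by
  decide +kernel

/-- Witness octads for the exponent 4. -/
def witTwentyOne_4 : List ℕ :=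
  [0, 0, 0, 0, 0, 0, 0, 0, 0, 0,
    0, 0, 0, 0, 0, 0, 0, 0, 0, 0,
    0]

lemma countTwentyOne_4 : survCount 0 eltTwentyOne 21 4 [1] witTwentyOne_4 = 21 := by
  decide +kernel

/-- Witness octads for the exponent 5. -/
def witTwentyOne_5 : List ℕ :=
  [5279, 5279, 5279, 5279, 5279, 5279, 5279, 5279, 5279, 5279,
    5279, 5279, 5279, 5279, 5279, 5279, 5279, 5279, 5279, 5279,
    5279]

lemma countTwentyOne_5 : survCount 0 eltTwentyOne 21 5 [1] witTwentyOne_5 = 0 := by
  decide +kernel

/-- Witness octads for the exponent 8. -/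
def witTwentyOne_8 : List ℕ :=
  [0, 0, 0, 0, 0, 0, 0, 0, 0, 0,
    0, 0, 0, 0, 0, 0, 0, 0, 0, 0,
    0]

lemma countTwentyOne_8 : survCount 0 eltTwentyOne 21 8 [1] witTwentyOne_8 = 21 := by
  decide +kernel

/-- Witness octads for the exponent 10. -/
def witTwentyOne_10 : List ℕ :=
  [5279, 5279, 5279, 5279, 5279, 5279, 5279, 5279, 5279, 5279,
    5279, 5279, 5279, 5279, 5279, 5279, 5279, 5279, 5279, 5279,
    5279]

lemma countTwentyOne_10 : survCount 0 eltTwentyOne 21 10 [1] witTwentyOne_10 = 0 := by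
  decide +kernel

/-- Witness octads for the exponent 11. -/
def witTwentyOne_11 : List ℕ :=
  [0, 0, 0, 0, 0, 0, 0, 0, 0, 0,
    0, 0, 0, 0, 0, 0, 0, 0, 0, 0,
    0]

lemma countTwentyOne_11 : survCount 0 eltTwentyOne 21 11 [1] witTwentyOne_11 = 21 := by
  decide +kernel

/-- Witness octads for the exponent 13. -/
def witTwentyOne_13 : List ℕ :=
  [5279, 5279, 5279, 5279, 5279, 5279, 5279, 5279, 5279, 5279,
    5279, 5279, 5279, 5279, 5279, 5279, 5279, 5279, 5279, 5279,
    5279]

lemma countTwentyOne_13 : survCount 0 eltTwentyOne 21 13 [1] witTwentyOne_13 = 0 := by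
  decide +kernel

/-- Witness octads for the exponent 16. -/
def witTwentyOne_16 : List ℕ :=
  [0, 0, 0, 0, 0, 0, 0, 0, 0, 0,
    0, 0, 0, 0, 0, 0, 0, 0, 0, 0,
    0]

lemma countTwentyOne_16 : survCount 0 eltTwentyOne 21 16 [1] witTwentyOne_16 = 21 := by
  decide +kernel

/-- Witness octads for the exponent 17. -/
def witTwentyOne_17 : List ℕ :=
  [5279, 5279, 5279, 5279, 5279, 5279, 5279, 5279, 5279, 5279,
    5279, 5279, 5279, 5279, 5279, 5279, 5279, 5279, 5279, 5279,
    5279]

lemma countTwentyOne_17 : survCount 0 eltTwentyOne 21 17 [1] witTwentyOne_17 = 0 := by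
  decide +kernel

/-- Witness octads for the exponent 19. -/
def witTwentyOne_19 : List ℕ :=
  [5279, 5279, 5279, 5279, 5279, 5279, 5279, 5279, 5279, 5279,
    5279, 5279, 5279, 5279, 5279, 5279, 5279, 5279, 5279, 5279,
    5279]

lemma countTwentyOne_19 : survCount 0 eltTwentyOne 21 19 [1] witTwentyOne_19 = 0 := by
  decide +kernel

/-- Witness octads for the exponent 20. -/
def witTwentyOne_20 : List ℕ :=
  [5279, 5279, 5279, 5279, 5279, 5279, 5279, 5279, 5279, 5279,
    5279, 5279, 5279, 5279, 5279, 5279, 5279, 5279, 5279, 5279,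
    5279]

lemma countTwentyOne_20 : survCount 0 eltTwentyOne 21 20 [1] witTwentyOne_20 = 0 := by
  decide +kernel

/-- The exponents with their witnesses. -/
def witTwentyOne : List (ℕ × List ℕ) :=
  [(1, witTwentyOne_1), (2, witTwentyOne_2), (4, witTwentyOne_4), (5, witTwentyOne_5),
   (8, witTwentyOne_8), (10, witTwentyOne_10), (11, witTwentyOne_11), (13, witTwentyOne_13),
   (16, witTwentyOne_16), (17, witTwentyOne_17), (19, witTwentyOne_19), (20, witTwentyOne_20)]

lemma normTwentyOne : checkNorm 0 eltTwentyOne 21 [1] witTwentyOne 126 = true :=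
  checkNorm_of_counts (by decide +kernel) (by
    simp only [witTwentyOne, List.map_cons, List.map_nil, List.sum_cons, List.sum_nil,
      countTwentyOne_1, countTwentyOne_2, countTwentyOne_4, countTwentyOne_5,
      countTwentyOne_8, countTwentyOne_10, countTwentyOne_11, countTwentyOne_13,
      countTwentyOne_16, countTwentyOne_17, countTwentyOne_19, countTwentyOne_20, Nat.reduceAdd, le_refl])

end Cfsg.Agent.H34.M24Cert
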