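import Cfsg.Agent.H34.M24CertTwentyThree
import Cfsg.Agent.H34.M24CertEleven
import Cfsg.Agent.H34.M24CertSeven
import Cfsg.Agent.H34.M24CertFive
import Cfsg.Agent.H34.M24CertFifteen
import Cfsg.Agent.H34.M24CertTwentyOne

/-!
The elements of order 15 and 21 with their powers of prime order.
-/

set_option autoImplicit false
set_option maxRecDepth 100000

namespace Cfsg.Agent.H34.M24Cert

open Cfsg Cfsg.Agent.Golay Cfsg.Agent.H44 Cfsg.Agent.H34.TwistCount

lemma powersComposite :
    ((List.range 24).all fun i => iterTbl eltFifteen 6 i == app eltFive i) = true ∧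
    ((List.range 24).all fun i => iterTbl eltTwentyOne 15 i == app eltSeven i) = true ∧
    ((List.range 24).all fun i => iterTbl eltFifteen 5 i == i) = false ∧
    ((List.range 24).all fun i => iterTbl eltTwentyOne 7 i == i) = false := by
  decide +kernel

end Cfsg.Agent.H34.M24Cert
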