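import Cfsg.Agent.H34.TwistFast
import Cfsg.Agent.Golay.MathieuData

/-!
Generated certificate: the bound on the normaliser of a cyclic subgroup of order 23, one exponent at a time.
-/

set_option autoImplicit false
set_option maxRecDepth 100000

namespace Cfsg.Agent.H34.M24Cert

open Cfsg Cfsg.Agent.Golay Cfsg.Agent.H44 Cfsg.Agent.H34.TwistCount

/-- An element of order 23. -/
def eltTwentyThree : ℕ := 853228368719520892657825445707492967

/-- Witness octads for the exponent 1. -/
def witTwentyThree_1 : List ℕ :=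
  [0, 0, 0, 0, 0, 0, 0, 0, 0, 0,
    0, 0, 0, 0, 0, 0, 0, 0, 0, 0,
    0, 0, 0]

lemma countTwentyThree_1 : survCount 0 eltTwentyThree 23 1 [0] witTwentyThree_1 = 23 := by
  decide +kernel

/-- Witness octads for the exponent 2. -/
def witTwentyThree_2 : List ℕ :=
  [0, 0, 0, 0, 0, 0, 0, 0, 0, 0,
    0, 0, 0, 0, 0, 0, 0, 0, 0, 0,
    0, 0, 0]

lemma countTwentyThree_2 : survCount 0 eltTwentyThree 23 2 [0] witTwentyThree_2 = 23 := by
  decide +kernel

/-- Witness octads for the exponent 3. -/
def witTwentyThree_3 : List ℕ :=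
  [0, 0, 0, 0, 0, 0, 0, 0, 0, 0,
    0, 0, 0, 0, 0, 0, 0, 0, 0, 0,
    0, 0, 0]

lemma countTwentyThree_3 : survCount 0 eltTwentyThree 23 3 [0] witTwentyThree_3 = 23 := by
  decide +kernel

/-- Witness octads for the exponent 4. -/
def witTwentyThree_4 : List ℕ :=
  [0, 0, 0, 0, 0, 0, 0, 0, 0, 0,
    0, 0, 0, 0, 0, 0, 0, 0, 0, 0,
    0, 0, 0]

lemma countTwentyThree_4 : survCount 0 eltTwentyThree 23 4 [0] witTwentyThree_4 = 23 := by
  decide +kernel

/-- Witness octads for the exponent 5. -/
def witTwentyThree_5 : List ℕ :=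
  [5279, 5279, 5279, 5279, 5279, 5279, 5279, 5279, 5279, 5279,
    5279, 5279, 5279, 5279, 5279, 5279, 5279, 5279, 5279, 5279,
    5279, 5279, 5279]

lemma countTwentyThree_5 : survCount 0 eltTwentyThree 23 5 [0] witTwentyThree_5 = 0 := by
  decide +kernel

/-- Witness octads for the exponent 6. -/
def witTwentyThree_6 : List ℕ :=
  [0, 0, 0, 0, 0, 0, 0, 0, 0, 0,
    0, 0, 0, 0, 0, 0, 0, 0, 0, 0,
    0, 0, 0]

lemma countTwentyThree_6 : survCount 0 eltTwentyThree 23 6 [0] witTwentyThree_6 = 23 := by
  decide +kernel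

/-- Witness octads for the exponent 7. -/
def witTwentyThree_7 : List ℕ :=
  [5279, 5279, 5279, 5279, 5279, 5279, 5279, 5279, 5279, 5279,
    5279, 5279, 5279, 5279, 5279, 5279, 5279, 5279, 5279, 5279,
    5279, 5279, 5279]

lemma countTwentyThree_7 : survCount 0 eltTwentyThree 23 7 [0] witTwentyThree_7 = 0 := by
  decide +kernel

/-- Witness octads for the exponent 8. -/
def witTwentyThree_8 : List ℕ :=
  [0, 0, 0, 0, 0, 0, 0, 0, 0, 0,
    0, 0, 0, 0, 0, 0, 0, 0, 0, 0,
    0, 0, 0]

lemma countTwentyThree_8 : survCount 0 eltTwentyThree 23 8 [0] witTwentyThree_8 = 23 := by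
  decide +kernel

/-- Witness octads for the exponent 9. -/
def witTwentyThree_9 : List ℕ :=
  [0, 0, 0, 0, 0, 0, 0, 0, 0, 0,
    0, 0, 0, 0, 0, 0, 0, 0, 0, 0,
    0, 0, 0]

lemma countTwentyThree_9 : survCount 0 eltTwentyThree 23 9 [0] witTwentyThree_9 = 23 := by
  decide +kernel

/-- Witness octads for the exponent 10. -/
def witTwentyThree_10 : List ℕ :=
  [5279, 5279, 5279, 5279, 5279, 5279, 5279, 5279, 5279, 5279,
    5279, 5279, 5279, 5279, 5279, 5279, 5279, 5279, 5279, 5279,
    5279, 5279, 5279]

lemma countTwentyThree_10 : survCount 0 eltTwentyThree 23 10 [0] witTwentyThree_10 = 0 := by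
  decide +kernel

/-- Witness octads for the exponent 11. -/
def witTwentyThree_11 : List ℕ :=
  [5279, 5279, 5279, 5279, 5279, 5279, 5279, 5279, 5279, 5279,
    5279, 5279, 5279, 5279, 5279, 5279, 5279, 5279, 5279, 5279,
    5279, 5279, 5279]

lemma countTwentyThree_11 : survCount 0 eltTwentyThree 23 11 [0] witTwentyThree_11 = 0 := by
  decide +kernel

/-- Witness octads for the exponent 12. -/
def witTwentyThree_12 : List ℕ :=
  [0, 0, 0, 0, 0, 0, 0, 0, 0, 0,
    0, 0, 0, 0, 0, 0, 0, 0, 0, 0,
    0, 0, 0]

lemma countTwentyThree_12 : survCount 0 eltTwentyThree 23 12 [0] witTwentyThree_12 = 23 := by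
  decide +kernel

/-- Witness octads for the exponent 13. -/
def witTwentyThree_13 : List ℕ :=
  [0, 0, 0, 0, 0, 0, 0, 0, 0, 0,
    0, 0, 0, 0, 0, 0, 0, 0, 0, 0,
    0, 0, 0]

lemma countTwentyThree_13 : survCount 0 eltTwentyThree 23 13 [0] witTwentyThree_13 = 23 := by
  decide +kernel

/-- Witness octads for the exponent 14. -/
def witTwentyThree_14 : List ℕ :=
  [5279, 5279, 5279, 5279, 5279, 5279, 5279, 5279, 5279, 5279,
    5279, 5279, 5279, 5279, 5279, 5279, 5279, 5279, 5279, 5279,
    5279, 5279, 5279]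

lemma countTwentyThree_14 : survCount 0 eltTwentyThree 23 14 [0] witTwentyThree_14 = 0 := by
  decide +kernel

/-- Witness octads for the exponent 15. -/
def witTwentyThree_15 : List ℕ :=
  [5279, 5279, 5279, 5279, 5279, 5279, 5279, 5279, 5279, 5279,
    5279, 5279, 5279, 5279, 5279, 5279, 5279, 5279, 5279, 5279,
    5279, 5279, 5279]

lemma countTwentyThree_15 : survCount 0 eltTwentyThree 23 15 [0] witTwentyThree_15 = 0 := by
  decide +kernel

/-- Witness octads for the exponent 16. -/
def witTwentyThree_16 : List ℕ :=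
  [0, 0, 0, 0, 0, 0, 0, 0, 0, 0,
    0, 0, 0, 0, 0, 0, 0, 0, 0, 0,
    0, 0, 0]

lemma countTwentyThree_16 : survCount 0 eltTwentyThree 23 16 [0] witTwentyThree_16 = 23 := by
  decide +kernel

/-- Witness octads for the exponent 17. -/
def witTwentyThree_17 : List ℕ :=
  [5279, 5279, 5279, 5279, 5279, 5279, 5279, 5279, 5279, 5279,
    5279, 5279, 5279, 5279, 5279, 5279, 5279, 5279, 5279, 5279,
    5279, 5279, 5279]

lemma countTwentyThree_17 : survCount 0 eltTwentyThree 23 17 [0] witTwentyThree_17 = 0 := by
  decide +kernel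

/-- Witness octads for the exponent 18. -/
def witTwentyThree_18 : List ℕ :=
  [0, 0, 0, 0, 0, 0, 0, 0, 0, 0,
    0, 0, 0, 0, 0, 0, 0, 0, 0, 0,
    0, 0, 0]

lemma countTwentyThree_18 : survCount 0 eltTwentyThree 23 18 [0] witTwentyThree_18 = 23 := by
  decide +kernel

/-- Witness octads for the exponent 19. -/
def witTwentyThree_19 : List ℕ :=
  [5279, 5279, 5279, 5279, 5279, 5279, 5279, 5279, 5279, 5279,
    5279, 5279, 5279, 5279, 5279, 5279, 5279, 5279, 5279, 5279,
    5279, 5279, 5279]

lemma countTwentyThree_19 : survCount 0 eltTwentyThree 23 19 [0] witTwentyThree_19 = 0 := by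
  decide +kernel

/-- Witness octads for the exponent 20. -/
def witTwentyThree_20 : List ℕ :=
  [5279, 5279, 5279, 5279, 5279, 5279, 5279, 5279, 5279, 5279,
    5279, 5279, 5279, 5279, 5279, 5279, 5279, 5279, 5279, 5279,
    5279, 5279, 5279]

lemma countTwentyThree_20 : survCount 0 eltTwentyThree 23 20 [0] witTwentyThree_20 = 0 := by
  decide +kernel

/-- Witness octads for the exponent 21. -/
def witTwentyThree_21 : List ℕ :=
  [5279, 5279, 5279, 5279, 5279, 5279, 5279, 5279, 5279, 5279,
    5279, 5279, 5279, 5279, 5279, 5279, 5279, 5279, 5279, 5279,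
    5279, 5279, 5279]

lemma countTwentyThree_21 : survCount 0 eltTwentyThree 23 21 [0] witTwentyThree_21 = 0 := by
  decide +kernel

/-- Witness octads for the exponent 22. -/
def witTwentyThree_22 : List ℕ :=
  [5279, 5279, 5279, 5279, 5279, 5279, 5279, 5279, 5279, 5279,
    5279, 5279, 5279, 5279, 5279, 5279, 5279, 5279, 5279, 5279,
    5279, 5279, 5279]

lemma countTwentyThree_22 : survCount 0 eltTwentyThree 23 22 [0] witTwentyThree_22 = 0 := by
  decide +kernel

/-- The exponents with their witnesses. -/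
def witTwentyThree : List (ℕ × List ℕ) :=
  [(1, witTwentyThree_1), (2, witTwentyThree_2), (3, witTwentyThree_3), (4, witTwentyThree_4),
   (5, witTwentyThree_5), (6, witTwentyThree_6), (7, witTwentyThree_7), (8, witTwentyThree_8),
   (9, witTwentyThree_9), (10, witTwentyThree_10), (11, witTwentyThree_11), (12, witTwentyThree_12),
   (13, witTwentyThree_13), (14, witTwentyThree_14), (15, witTwentyThree_15), (16, witTwentyThree_16),
   (17, witTwentyThree_17), (18, witTwentyThree_18), (19, witTwentyThree_19), (20, witTwentyThree_20),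
   (21, witTwentyThree_21), (22, witTwentyThree_22)]

lemma normTwentyThree : checkNorm 0 eltTwentyThree 23 [0] witTwentyThree 253 = true :=
  checkNorm_of_counts (by decide +kernel) (by
    simp only [witTwentyThree, List.map_cons, List.map_nil, List.sum_cons, List.sum_nil,
      countTwentyThree_1, countTwentyThree_2, countTwentyThree_3, countTwentyThree_4,
      countTwentyThree_5, countTwentyThree_6, countTwentyThree_7, countTwentyThree_8,
      countTwentyThree_9, countTwentyThree_10, countTwentyThree_11, countTwentyThree_12,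
      countTwentyThree_13, countTwentyThree_14, countTwentyThree_15, countTwentyThree_16,
      countTwentyThree_17, countTwentyThree_18, countTwentyThree_19, countTwentyThree_20,
      countTwentyThree_21, countTwentyThree_22, Nat.reduceAdd, le_refl])

/-- An element conjugating it into a power. -/
def conjTwentyThree : ℕ := 501110115314817724758684975900597792

lemma certTwentyThree :
    inStab [] 0 conjTwentyThree = true ∧
    ((List.range 24).all fun i => iterTbl eltTwentyThree 23 i == i) = true ∧
    ((List.range 24).all fun i => app eltTwentyThree i == i) = false ∧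
    ((List.range 24).all fun i => app conjTwentyThree (app eltTwentyThree i) ==
      iterTbl eltTwentyThree 2 (app conjTwentyThree i)) = true := by
  decide +kernel

end Cfsg.Agent.H34.M24Cert
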