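import Cfsg.Agent.Golay.Stabilisers
import Cfsg.Agent.Golay.SimpleCheck

/-!
Involutions of the group of the code with a fixed point fix exactly an octad; the group fixing
an octad pointwise is its own centraliser.
-/

set_option autoImplicit false

namespace Cfsg.Agent.H34.MathieuInvol

open Cfsg Cfsg.Agent.Golay
open scoped Pointwise

/-- All products of transversal elements of a chain. -/
def chainElems : List (ℕ × List ℕ) → List ℕ
  | [] => [idTbl]
  | (_, ts) :: rest => ts.flatMap fun t => (chainElems rest).map fun s => tblMul t s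

theorem exists_chainElem (E : List ℕ) : ∀ (F : ℕ) (L : List (ℕ × List ℕ)),
    checkChain E F L = true → ∀ σ ∈ stabGrp E F,
      ∃ t ∈ chainElems L, validT t = true ∧ mkPerm t = σ
  | F, [], h, σ, hσ => by
    rw [stabGrp_eq_bot' h, Subgroup.mem_bot] at hσ
    exact ⟨idTbl, List.mem_singleton.2 rfl, idTbl_spec.1, by rw [idTbl_spec.2, hσ]⟩
  | F, (b, ts) :: rest, h, σ, hσ => by
    obtain ⟨hb, horb, -, hrest⟩ := orbit_of_checkChain h
    have hm : σ (pt b) ∈ MulAction.orbit (stabGrp E F) (pt b) := ⟨⟨σ, hσ⟩, rfl⟩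
    rw [horb, Finset.mem_coe, mem_ptSet, testBit_orbitMask] at hm
    obtain ⟨t, ht, hta⟩ := hm
    simp only [checkChain, Bool.and_eq_true, List.all_eq_true] at h
    have hts := h.1.1.1.2 t ht
    have hv : validT t = true := by
      simp only [inStab, Bool.and_eq_true] at hts; exact validT_of_inM24 hts.1.1
    have hmem : (mkPerm t)⁻¹ * σ ∈ stabGrp E (F ||| 2 ^ b) := by
      rw [stabGrp_or E F hb]
      refine ⟨(stabGrp E F).mul_mem ((stabGrp E F).inv_mem (mem_stabGrp_of_inStab hts)) hσ, ?_⟩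
      show ((mkPerm t)⁻¹ * σ) (pt b) = pt b
      rw [Equiv.Perm.mul_apply, Equiv.Perm.coe_inv, Equiv.symm_apply_eq, mkPerm_pt hv hb, hta,
        pt_idx]
    obtain ⟨s, hs, hvs, hes⟩ := exists_chainElem E _ rest hrest _ hmem
    exact ⟨tblMul t s, List.mem_flatMap.2 ⟨t, ht, List.mem_map.2 ⟨s, hs, rfl⟩⟩,
      (tblMul_spec hv hvs).1, by rw [(tblMul_spec hv hvs).2, hes, mul_inv_cancel_left]⟩

/-- The mask of the fixed positions of a table. -/
def fixedMask (T : ℕ) : ℕ :=
  ((List.range 24).filter fun i => app T i == i).foldl (fun acc i => acc ||| (1 <<< i)) 0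

/-- The fixed points of a permutation. -/
def fixSet (σ : Equiv.Perm GolayPt) : Finset GolayPt := Finset.univ.filter fun p => σ p = p

theorem mem_fixSet {σ : Equiv.Perm GolayPt} {p : GolayPt} : p ∈ fixSet σ ↔ σ p = p := by
  simp [fixSet]

theorem fixSet_mkPerm {T : ℕ} (hT : validT T = true) :
    fixSet (mkPerm T) = ptSet (fixedMask T) := by
  ext p
  rw [mem_fixSet, mem_ptSet, fixedMask, testBit_foldl_or]
  simp only [Nat.zero_testBit, Bool.false_or, decide_eq_true_eq, List.mem_filter, List.mem_range,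
    beq_iff_eq]
  constructor
  · intro h
    refine ⟨idx_lt p, ?_⟩
    rw [← idx_mkPerm hT, h]
  · rintro ⟨-, ha⟩
    rw [mkPerm_apply hT, ha, pt_idx]

theorem fixSet_conj (k σ : Equiv.Perm GolayPt) : fixSet (k * σ * k⁻¹) = k • fixSet σ := by
  ext p
  rw [mem_smul_finset_iff, mem_fixSet, mem_fixSet, Equiv.Perm.mul_apply, Equiv.Perm.mul_apply,
    Equiv.Perm.coe_inv]
  exact ⟨fun h => k.injective (by rw [Equiv.apply_symm_apply]; exact h),
    fun h => by rw [h, Equiv.apply_symm_apply]⟩

/-- An element fixing the first base point and exchanging the next two pairs. -/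
def pairSwap : ℕ := 965259690662158669917158057253604353

/-- The involutions among the elements of a list have octads as fixed sets. -/
def octadFixed (l : List ℕ) : Bool :=
  l.all fun T => !tblEq (tblMul T T) idTbl || tblEq T idTbl || octadList.contains (fixedMask T)

lemma swap_cert :
    inM24 pairSwap = true ∧ app pairSwap 23 = 23 ∧ app pairSwap 0 = 1 ∧ app pairSwap 1 = 0 ∧
    app pairSwap 2 = 3 ∧ app pairSwap 3 = 2 ∧
    octadFixed (chainElems (m24Chain.drop 5)) = true ∧
    octadFixed ((chainElems (m24Chain.drop 5)).map (tblMul pairSwap)) = true := by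
  decide +kernel

lemma octad_of_check {l : List ℕ} (h : octadFixed l = true) {T : ℕ} (hT : T ∈ l)
    (hv : validT T = true) (hsq : mkPerm T * mkPerm T = 1) (hne : mkPerm T ≠ 1) :
    fixSet (mkPerm T) ∈ octads := by
  have h' := List.all_eq_true.1 h T hT
  simp only [Bool.or_eq_true, Bool.not_eq_true'] at h'
  rcases h' with (h' | h') | h'
  · have : tblEq (tblMul T T) idTbl = true := by
      rw [tblEq, List.all_eq_true]
      intro i hi
      rw [List.mem_range] at hi
      have e : mkPerm (tblMul T T) = mkPerm idTbl := by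
        rw [(tblMul_spec hv hv).2, hsq, idTbl_spec.2]
      rw [beq_iff_eq, ← idx_pt i hi, ← idx_mkPerm (tblMul_spec hv hv).1,
        ← idx_mkPerm idTbl_spec.1, e]
    rw [this] at h'
    exact Bool.noConfusion h'
  · exact absurd ((mkPerm_eq_of_tblEq hv idTbl_spec.1 h').trans idTbl_spec.2) hne
  · rw [fixSet_mkPerm hv]
    exact ptSet_mem_octads (List.contains_iff_mem.1 h')

/-- The base points of the check. -/
def baseList : Fin 5 → GolayPt := ![pt 23, pt 0, pt 1, pt 2, pt 3]

lemma baseList_injective : Function.Injective baseList := by decide +kernel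

/-- An involution of the group with a fixed point fixes exactly an octad. -/
theorem fixSet_mem_octads {σ : Equiv.Perm GolayPt} (hσ : σ ∈ M24) (hsq : σ * σ = 1) (hne : σ ≠ 1)
    {a : GolayPt} (ha : σ a = a) : fixSet σ ∈ octads := by
  classical
  obtain ⟨hg0, e23, e0, e1, e2, e3, hck1, hck2⟩ := swap_cert
  have hinv : ∀ p, σ (σ p) = p := fun p => by
    rw [← Equiv.Perm.mul_apply, hsq, Equiv.Perm.one_apply]
  suffices ∃ (k : M24) (T : ℕ), validT T = true ∧
      mkPerm T = (k : Equiv.Perm GolayPt) * σ * (k : Equiv.Perm GolayPt)⁻¹ ∧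
      (T ∈ chainElems (m24Chain.drop 5) ∨
        T ∈ (chainElems (m24Chain.drop 5)).map (tblMul pairSwap)) by
    obtain ⟨k, T, hv, hT, hmem⟩ := this
    have hsq' : mkPerm T * mkPerm T = 1 := by
      rw [hT, show ∀ x : Equiv.Perm GolayPt, x * σ * x⁻¹ * (x * σ * x⁻¹) = x * (σ * σ) * x⁻¹ from
        fun x => by group, hsq, mul_one, mul_inv_cancel]
    have hne' : mkPerm T ≠ 1 := fun h => hne (conj_eq_one_iff.1 (hT.symm.trans h))
    have h1 : fixSet (mkPerm T) ∈ octads := by
      rcases hmem with hmem | hmem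
      · exact octad_of_check hck1 hmem hv hsq' hne'
      · exact octad_of_check hck2 hmem hv hsq' hne'
    rw [hT, fixSet_conj] at h1
    have := smul_mem_octads (inv_mem k.2) h1
    rwa [inv_smul_smul] at this
  have hstab : ∀ τ ∈ M24, (∀ i, τ (baseList i) = baseList i) →
      ∃ t ∈ chainElems (m24Chain.drop 5), validT t = true ∧ mkPerm t = τ := by
    intro τ hτ hfix
    refine exists_chainElem [] _ _ base5_facts.1 τ ?_
    rw [stabGrp_or [] _ (by norm_num : (3 : ℕ) < 24), stabGrp_or [] _ (by norm_num : (2 : ℕ) < 24),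
      stabGrp_or [] _ (by norm_num : (1 : ℕ) < 24), stabGrp_or [] _ (by norm_num : (0 : ℕ) < 24),
      stabGrp_or [] _ (by norm_num : (23 : ℕ) < 24), stabGrp_nil_zero]
    exact ⟨⟨⟨⟨⟨hτ, hfix 0⟩, hfix 1⟩, hfix 2⟩, hfix 3⟩, hfix 4⟩
  by_cases h5 : 5 ≤ (fixSet σ).card
  · obtain ⟨x, hx, hxs⟩ := exists_five_of_card h5
    obtain ⟨k, hk⟩ := exists_M24_map_five hx baseList_injective
    obtain ⟨t, ht, hv, he⟩ := hstab ((k : Equiv.Perm GolayPt) * σ * (k : Equiv.Perm GolayPt)⁻¹)
      (mul_mem (mul_mem k.2 hσ) (inv_mem k.2)) fun i => by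
        rw [← hk i, Equiv.Perm.mul_apply, Equiv.Perm.mul_apply, Equiv.Perm.coe_inv,
          Equiv.symm_apply_apply, mem_fixSet.1 (hxs i)]
    exact ⟨k, t, hv, he, Or.inl ht⟩
  · have hcard : Fintype.card GolayPt = 24 := by simp [GolayPt]
    obtain ⟨b, hb⟩ : ∃ b, σ b ≠ b := by
      by_contra! h
      exact hne (Equiv.ext h)
    obtain ⟨d, -, hd⟩ : ∃ d ∈ (Finset.univ : Finset GolayPt), d ∉ fixSet σ ∪ {b, σ b} := by
      refine Finset.exists_mem_notMem_of_card_lt_card ?_
      rw [Finset.card_univ, hcard]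
      have := Finset.card_union_le (fixSet σ) {b, σ b}
      have := Finset.card_le_two (a := b) (b := σ b)
      omega
    simp only [Finset.mem_union, Finset.mem_insert, Finset.mem_singleton, mem_fixSet, not_or] at hd
    obtain ⟨hd1, hd2, hd3⟩ := hd
    have hdb : σ d ≠ b := fun h => hd3 (by rw [← h, hinv])
    have hdc : σ d ≠ σ b := fun h => hd2 (σ.injective h)
    have hab : a ≠ b := fun h => hb (h ▸ ha)
    have hac : a ≠ σ b := fun h => hab (σ.injective (ha.trans h))
    have had : a ≠ d := fun h => hd1 (h ▸ ha)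
    have hae : a ≠ σ d := fun h => had (σ.injective (ha.trans h))
    have hinj : Function.Injective ![a, b, σ b, d, σ d] := by
      have hl : [a, b, σ b, d, σ d].Nodup := by
        simp only [List.nodup_cons, List.mem_cons, List.not_mem_nil, or_false, not_or,
          List.nodup_nil, and_true, not_false_eq_true]
        exact ⟨⟨hab, hac, had, hae⟩, ⟨Ne.symm hb, Ne.symm hd2, Ne.symm hdb⟩,
          ⟨Ne.symm hd3, Ne.symm hdc⟩, Ne.symm hd1⟩
      intro i j hij
      have e : ∀ i : Fin 5, ![a, b, σ b, d, σ d] i = [a, b, σ b, d, σ d].get i := fun i => by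
        fin_cases i <;> rfl
      rw [e, e] at hij
      exact hl.injective_get hij
    obtain ⟨k, hk⟩ := exists_M24_map_five hinj baseList_injective
    set σ' := (k : Equiv.Perm GolayPt) * σ * (k : Equiv.Perm GolayPt)⁻¹ with hσ'
    have hmap : ∀ i, σ' (baseList i) = (k : Equiv.Perm GolayPt) (σ (![a, b, σ b, d, σ d] i)) :=
      fun i => by
        rw [← hk i, hσ', Equiv.Perm.mul_apply, Equiv.Perm.mul_apply, Equiv.Perm.coe_inv,
          Equiv.symm_apply_apply]
    have hg := mem_M24_of_inM24 hg0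
    have hgv := validT_of_inM24 hg0
    have hperm : ∀ i j, i < 24 → app pairSwap i = j → mkPerm pairSwap (pt i) = pt j := fun i j hi h => by
      rw [mkPerm_pt hgv hi, h]
    have hval : ∀ i, σ' (baseList i) = mkPerm pairSwap (baseList i) := by
      intro i
      fin_cases i
      · rw [hmap]
        show k.1 (σ a) = _
        rw [ha]
        exact (hk 0).trans (hperm _ _ (by norm_num) e23).symm
      · rw [hmap]
        show k.1 (σ b) = _
        exact (hk 2).trans (hperm _ _ (by norm_num) e0).symm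
      · rw [hmap]
        show k.1 (σ (σ b)) = _
        rw [hinv]
        exact (hk 1).trans (hperm _ _ (by norm_num) e1).symm
      · rw [hmap]
        show k.1 (σ d) = _
        exact (hk 4).trans (hperm _ _ (by norm_num) e2).symm
      · rw [hmap]
        show k.1 (σ (σ d)) = _
        rw [hinv]
        exact (hk 3).trans (hperm _ _ (by norm_num) e3).symm
    obtain ⟨t, ht, hv, he⟩ := hstab ((mkPerm pairSwap)⁻¹ * σ')
      (mul_mem (inv_mem hg) (mul_mem (mul_mem k.2 hσ) (inv_mem k.2))) fun i => by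
        rw [Equiv.Perm.mul_apply, hval, Equiv.Perm.coe_inv, Equiv.symm_apply_apply]
    exact ⟨k, tblMul pairSwap t, (tblMul_spec hgv hv).1,
      by rw [(tblMul_spec hgv hv).2, he, mul_inv_cancel_left], Or.inr (List.mem_map.2 ⟨t, ht, rfl⟩)⟩

/-! ### The pointwise stabiliser of an octad -/

lemma octad_cert :
    checkChain [] baseOctad (m24Chain.drop 6) = true ∧ octadList.contains baseOctad = true ∧
    orbitMask (lvlTrans m24Chain 6) (lvlBase m24Chain 6) = fullMask ^^^ baseOctad ∧
    isTrivialStab [] (fullMask ^^^ baseOctad) = true := by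
  decide +kernel

/-- The group fixing an octad pointwise. -/
def octGrp (o : Finset GolayPt) : Subgroup (Equiv.Perm GolayPt) :=
  M24 ⊓ fixingSubgroup (Equiv.Perm GolayPt) (o : Set GolayPt)

theorem mem_octGrp {o : Finset GolayPt} {σ : Equiv.Perm GolayPt} :
    σ ∈ octGrp o ↔ σ ∈ M24 ∧ ∀ p ∈ o, σ p = p := by
  rw [octGrp, Subgroup.mem_inf, mem_fixingSubgroup_iff]
  rfl

theorem centralizes_baseOctad {σ : Equiv.Perm GolayPt} (hσ : σ ∈ M24)
    (hc : ∀ e ∈ stabGrp [] baseOctad, σ * e = e * σ) : σ ∈ stabGrp [] baseOctad := by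
  obtain ⟨hL, -, horbeq, htriv⟩ := octad_cert
  rw [drop_six] at hL
  obtain ⟨hb, horb, -, -⟩ := orbit_of_checkChain hL
  set b := lvlBase m24Chain 6
  rw [horbeq] at horb
  have hcompl : ∀ p, p ∈ ptSet (fullMask ^^^ baseOctad) ↔ p ∉ ptSet baseOctad := fun p => by
    rw [ptSet_xor, Finset.mem_symmDiff, ptSet_fullMask]
    exact ⟨fun h => h.elim (fun h => h.2) fun h => absurd (Finset.mem_univ _) h.2,
      fun h => Or.inl ⟨Finset.mem_univ _, h⟩⟩
  have hbout : pt b ∉ ptSet baseOctad := by
    rw [← hcompl, ← Finset.mem_coe, ← horb]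
    exact MulAction.mem_orbit_self _
  have hmv : ∀ q, q ∉ ptSet baseOctad →
      ∃ e ∈ stabGrp [] baseOctad, e (pt b) = q := fun q hq => by
    have : q ∈ MulAction.orbit (stabGrp [] baseOctad) (pt b) := by
      rw [horb, Finset.mem_coe, hcompl]; exact hq
    obtain ⟨e, he⟩ := this
    exact ⟨e.1, e.2, he⟩
  have hmove : σ (pt b) ∉ ptSet baseOctad := by
    intro hin
    -- every element fixes a point of the octad, hence also `pt b`
    have hne : ∃ q, q ∉ ptSet baseOctad ∧ q ≠ pt b := by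
      have : (Finset.univ : Finset GolayPt).card > (ptSet baseOctad ∪ {pt b}).card := by
        have h8 := (ptSet_mem_octads (List.contains_iff_mem.1 octad_cert.2.1)).2
        have h1 := Finset.card_union_le (ptSet baseOctad) {pt b}
        have : Fintype.card GolayPt = 24 := by simp [GolayPt]
        rw [Finset.card_univ, this]
        simp only [Finset.card_singleton] at h1
        omega
      obtain ⟨q, -, hq⟩ := Finset.exists_mem_notMem_of_card_lt_card this
      simp only [Finset.mem_union, Finset.mem_singleton, not_or] at hq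
      exact ⟨q, hq⟩
    obtain ⟨q, hq, hqb⟩ := hne
    obtain ⟨e, he, heq⟩ := hmv q hq
    have h1 := Equiv.congr_fun (hc e he) (pt b)
    rw [Equiv.Perm.mul_apply, Equiv.Perm.mul_apply, heq, he.2.2 _ hin] at h1
    exact hqb (σ.injective h1)
  obtain ⟨e, he, heq⟩ := hmv _ hmove
  have hτ : e⁻¹ * σ ∈ stabGrp [] (fullMask ^^^ baseOctad) := by
    refine ⟨mul_mem (inv_mem he.1) hσ, by simp, fun q hq => ?_⟩
    obtain ⟨f, hf, hfq⟩ := hmv q ((hcompl q).1 hq)
    have hef : Commute e f := by
      have h2 := card_baseOctad_fix.2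
      have hee : ∀ x ∈ stabGrp [] baseOctad, x⁻¹ = x := fun x hx =>
        inv_eq_of_mul_eq_one_right (h2 x hx)
      calc e * f = (e * f)⁻¹ := (hee _ (mul_mem he hf)).symm
        _ = f⁻¹ * e⁻¹ := mul_inv_rev e f
        _ = f * e := by rw [hee e he, hee f hf]
    have hcf : Commute (e⁻¹ * σ) f := Commute.mul_left hef.inv_left (hc f hf)
    have hτb : (e⁻¹ * σ) (pt b) = pt b := by
      rw [Equiv.Perm.mul_apply, Equiv.Perm.coe_inv, Equiv.symm_apply_eq, heq]
    calc (e⁻¹ * σ) q = (e⁻¹ * σ) (f (pt b)) := congrArg _ hfq.symm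
      _ = ((e⁻¹ * σ) * f) (pt b) := rfl
      _ = (f * (e⁻¹ * σ)) (pt b) := by rw [hcf.eq]
      _ = f ((e⁻¹ * σ) (pt b)) := rfl
      _ = q := by rw [hτb, hfq]
  rw [stabGrp_eq_bot' htriv, Subgroup.mem_bot, inv_mul_eq_one] at hτ
  exact hτ ▸ he

/-- An element of the group centralising the pointwise stabiliser of an octad lies in it. -/
theorem mem_octGrp_of_centralizes {o : Finset GolayPt} (ho : o ∈ octads)
    {σ : Equiv.Perm GolayPt} (hσ : σ ∈ M24) (hc : ∀ e ∈ octGrp o, σ * e = e * σ) :
    σ ∈ octGrp o := by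
  obtain ⟨k, hk⟩ := exists_M24_map_octad ho
    (ptSet_mem_octads (List.contains_iff_mem.1 octad_cert.2.1))
  have hk' : k.1 • o = ptSet baseOctad := hk
  have hiff : ∀ g, g ∈ octGrp o ↔ k.1 * g * k.1⁻¹ ∈ stabGrp [] baseOctad := by
    intro g
    rw [mem_octGrp, mem_stabGrp]
    constructor
    · rintro ⟨h1, h2⟩
      refine ⟨mul_mem (mul_mem k.2 h1) (inv_mem k.2), by simp, fun p hp => ?_⟩
      have h4 : k.1⁻¹ p ∈ o := by
        rw [Equiv.Perm.coe_inv, ← mem_smul_finset_iff, hk']; exact hp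
      rw [Equiv.Perm.mul_apply, Equiv.Perm.mul_apply, h2 _ h4, Equiv.Perm.coe_inv,
        Equiv.apply_symm_apply]
    · rintro ⟨h1, -, h2⟩
      refine ⟨?_, fun p hp => ?_⟩
      · have := mul_mem (mul_mem (inv_mem k.2) h1) k.2
        rwa [show k.1⁻¹ * (k.1 * g * k.1⁻¹) * k.1 = g by group] at this
      · have := h2 _ (hk' ▸ Finset.smul_mem_smul_finset hp)
        rw [Equiv.Perm.smul_def, Equiv.Perm.mul_apply, Equiv.Perm.mul_apply, Equiv.Perm.coe_inv,
          Equiv.symm_apply_apply] at this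
        exact k.1.injective this
  rw [hiff]
  refine centralizes_baseOctad (mul_mem (mul_mem k.2 hσ) (inv_mem k.2)) fun e he => ?_
  have h1 := hc (k.1⁻¹ * e * k.1) ((hiff _).2 (by
    rwa [show k.1 * (k.1⁻¹ * e * k.1) * k.1⁻¹ = e by group]))
  calc k.1 * σ * k.1⁻¹ * e = k.1 * (σ * (k.1⁻¹ * e * k.1)) * k.1⁻¹ := by group
    _ = k.1 * ((k.1⁻¹ * e * k.1) * σ) * k.1⁻¹ := by rw [h1]
    _ = e * (k.1 * σ * k.1⁻¹) := by group

end Cfsg.Agent.H34.MathieuInvol
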