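import Cfsg.Agent.H34.SiegelOmega
import Cfsg.Agent.Orthogonal.Basic
import Cfsg.Agent.S0790
import Cfsg.Agent.S0791

/-! `Ω_(2m+1)(q)`, `q` odd, `m ≥ 3`: trivial centre and at least `m` classes of involutions. -/

set_option autoImplicit false

namespace Cfsg.Agent.H34

open Matrix
open QuadraticMap (polar polar_comm)
open Cfsg.Agent.Orthogonal (formOdd)

variable {F : Type*} [Field F]

section embed

variable {ι κ ν : Type} [Fintype ι] [DecidableEq ι] [Fintype κ] [DecidableEq κ]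
  {f : (ι → F) → F} {f₁ : (κ → F) → F} {f₂ : (ν → F) → F}

/-- the endomorphism acting by `M` on the first factor -/
def embedLin (e : (ι → F) ≃ₗ[F] (κ → F) × (ν → F)) (M : Matrix κ κ F) : (ι → F) →ₗ[F] (ι → F) :=
  e.symm.toLinearMap ∘ₗ
    ((M.mulVecLin ∘ₗ LinearMap.fst F _ _).prod (LinearMap.snd F _ _)) ∘ₗ e.toLinearMap

theorem embedLin_apply (e : (ι → F) ≃ₗ[F] (κ → F) × (ν → F)) (M : Matrix κ κ F) (v : ι → F) :
    embedLin e M v = e.symm (M *ᵥ (e v).1, (e v).2) := rfl

theorem embedLin_comp (e : (ι → F) ≃ₗ[F] (κ → F) × (ν → F)) (M N : Matrix κ κ F) :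
    embedLin e (M * N) = embedLin e M ∘ₗ embedLin e N := by
  refine LinearMap.ext fun v => ?_
  simp [embedLin_apply, mulVec_mulVec]

theorem embedLin_one (e : (ι → F) ≃ₗ[F] (κ → F) × (ν → F)) : embedLin e (1 : Matrix κ κ F) = LinearMap.id := by
  refine LinearMap.ext fun v => ?_
  simp [embedLin_apply]

/-- the matrix acting by `M` on the first factor -/
noncomputable def embedMat (e : (ι → F) ≃ₗ[F] (κ → F) × (ν → F)) (M : Matrix κ κ F) : Matrix ι ι F :=
  LinearMap.toMatrix' (embedLin e M)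

theorem embedMat_mul (e : (ι → F) ≃ₗ[F] (κ → F) × (ν → F)) (M N : Matrix κ κ F) :
    embedMat e (M * N) = embedMat e M * embedMat e N := by
  rw [embedMat, embedLin_comp, LinearMap.toMatrix'_comp]; rfl

theorem embedMat_one (e : (ι → F) ≃ₗ[F] (κ → F) × (ν → F)) : embedMat e (1 : Matrix κ κ F) = 1 := by
  rw [embedMat, embedLin_one, LinearMap.toMatrix'_id]

theorem embedMat_mulVec (e : (ι → F) ≃ₗ[F] (κ → F) × (ν → F)) (M : Matrix κ κ F) (v : ι → F) :
    embedMat e M *ᵥ v = e.symm (M *ᵥ (e v).1, (e v).2) := by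
  rw [embedMat, LinearMap.toMatrix'_mulVec, embedLin_apply]

/-- Isometries of an orthogonal summand as isometries of the whole space. -/
noncomputable def embedHom (e : (ι → F) ≃ₗ[F] (κ → F) × (ν → F))
    (hf : ∀ v, f v = f₁ (e v).1 + f₂ (e v).2) :
    ↥(Cfsg.isometryGroup F f₁) →* ↥(Cfsg.isometryGroup F f) where
  toFun g := mkIso (embedMat e ((g.1 : Matrix.GeneralLinearGroup κ F) : Matrix κ κ F))
    (embedMat e ((g.1⁻¹ : Matrix.GeneralLinearGroup κ F) : Matrix κ κ F))
    (by rw [← embedMat_mul, ← Units.val_mul, mul_inv_cancel, Units.val_one, embedMat_one])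
    (by rw [← embedMat_mul, ← Units.val_mul, inv_mul_cancel, Units.val_one, embedMat_one])
    (fun x => by
      rw [embedMat_mulVec, hf, hf, LinearEquiv.apply_symm_apply,
        (mem_isometryGroup_iff g.1).mp g.2 (e x).1])
  map_one' := Subtype.ext (Units.ext (embedMat_one e))
  map_mul' g h := Subtype.ext (Units.ext (embedMat_mul e (g.1 : Matrix κ κ F) (h.1 : Matrix κ κ F)))

theorem exists_involution [Finite F] [Finite ν] (h2 : (2 : F) ≠ 0)
    (e : (ι → F) ≃ₗ[F] (κ → F) × (ν → F)) (hf : ∀ v, f v = f₁ (e v).1 + f₂ (e v).2)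
    (h1 : ∃ g : ↥(Cfsg.isometryGroup F f₁), g ∈ Cfsg.Omega F f₁ ∧ (g.1 : Matrix κ κ F) = -1) :
    ∃ g : ↥(Cfsg.isometryGroup F f), g ∈ Cfsg.Omega F f ∧ g * g = 1 ∧
      Nat.card {v : ι → F // (g.1 : Matrix ι ι F) *ᵥ v = v} = Nat.card F ^ Nat.card ν := by
  obtain ⟨g, hg, hneg⟩ := h1
  have hgg : g * g = 1 := Subtype.ext (Units.ext (by
    show (g.1 : Matrix κ κ F) * (g.1 : Matrix κ κ F) = 1
    rw [hneg, neg_mul_neg, one_mul]))
  refine ⟨embedHom e hf g, ?_, by rw [← map_mul, hgg, map_one], ?_⟩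
  · have := Subgroup.mem_map_of_mem (embedHom e hf) hg
    rw [Cfsg.Omega, commutator_def, Subgroup.map_commutator] at this
    exact Subgroup.commutator_mono le_top le_top this
  · have key : ∀ v : ι → F, embedMat e (g.1 : Matrix κ κ F) *ᵥ v = v ↔ (e v).1 = 0 := by
      intro v
      rw [embedMat_mulVec, LinearEquiv.symm_apply_eq, hneg, neg_mulVec, one_mulVec, Prod.ext_iff]
      simp only [and_true]
      constructor
      · intro h
        funext i
        have := congrFun h i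
        have h' : (2 : F) * (e v).1 i = 0 := by simp only [Pi.neg_apply] at this; linear_combination -this
        exact (mul_eq_zero.mp h').resolve_left h2
      · intro h; rw [h, neg_zero]
    let E : {v : ι → F // embedMat e (g.1 : Matrix κ κ F) *ᵥ v = v} ≃ (ν → F) :=
      { toFun := fun v => (e v.1).2
        invFun := fun y => ⟨e.symm (0, y), (key _).mpr (by rw [LinearEquiv.apply_symm_apply])⟩
        left_inv := fun v => Subtype.ext (by
          show e.symm (0, (e v.1).2) = v.1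
          rw [LinearEquiv.symm_apply_eq, Prod.ext_iff]; exact ⟨((key _).mp v.2).symm, rfl⟩)
        right_inv := fun y => by simp }
    show Nat.card {v : ι → F // embedMat e (g.1 : Matrix κ κ F) *ᵥ v = v} = _
    rw [Nat.card_congr E, Nat.card_fun]

end embed

variable {j k : ℕ}

/-- `odd (j + k) = plus j ⊕ odd k` -/
noncomputable def splitPlus (j k : ℕ) (F : Type*) [Field F] :
    (Unit ⊕ (Fin (j + k) ⊕ Fin (j + k)) → F) ≃ₗ[F]
      (Fin j ⊕ Fin j → F) × (Unit ⊕ (Fin k ⊕ Fin k) → F) where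
  toFun v := (fun s => v (Sum.inr (s.map (Fin.castAdd k) (Fin.castAdd k))),
    fun s => v (s.map id (Sum.map (Fin.natAdd j) (Fin.natAdd j))))
  map_add' _ _ := rfl
  map_smul' _ _ := rfl
  invFun p := Sum.elim (fun u => p.2 (Sum.inl u))
    (Sum.elim (Fin.addCases (fun i => p.1 (Sum.inl i)) (fun i => p.2 (Sum.inr (Sum.inl i))))
      (Fin.addCases (fun i => p.1 (Sum.inr i)) (fun i => p.2 (Sum.inr (Sum.inr i)))))
  left_inv v := by
    funext s
    rcases s with u | i | i
    · rfl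
    all_goals induction i using Fin.addCases <;> simp
  right_inv p := by
    refine Prod.ext (funext fun s => ?_) (funext fun s => ?_)
    · rcases s with i | i <;> simp
    · rcases s with u | i | i <;> simp

theorem splitPlus_form (v : Unit ⊕ (Fin (j + k) ⊕ Fin (j + k)) → F) :
    Cfsg.quadFormOdd (j + k) F v =
      Cfsg.quadFormPlus j F (splitPlus j k F v).1 + Cfsg.quadFormOdd k F (splitPlus j k F v).2 := by
  simp only [Cfsg.quadFormOdd, Cfsg.quadFormPlus, splitPlus, LinearEquiv.coe_mk, LinearMap.coe_mk,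
    AddHom.coe_mk, Sum.map_inl, Sum.map_inr, id]
  rw [Fin.sum_univ_add]
  ring

/-- the form on the complement of a minus-type subspace of the odd form -/
def restForm (k : ℕ) (F : Type*) [Field F] (v : Unit ⊕ (Fin k ⊕ Fin k) → F) : F :=
  -(v (.inl ())) ^ 2 + ∑ i : Fin k, v (.inr (.inl i)) * v (.inr (.inr i))

/-- `odd (j + 1 + k) = minus j ⊕ rest k` -/
noncomputable def splitMinus (h2 : (2 : F) ≠ 0) (j k : ℕ) :
    (Unit ⊕ (Fin (j + 1 + k) ⊕ Fin (j + 1 + k)) → F) ≃ₗ[F]
      ((Fin j ⊕ Fin j) ⊕ Fin 2 → F) × (Unit ⊕ (Fin k ⊕ Fin k) → F) where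
  toFun v := (Sum.elim (fun s => v (Sum.inr (s.map (fun i => Fin.castAdd k i.castSucc)
        (fun i => Fin.castAdd k i.castSucc))))
      ![v (Sum.inl ()), (2 : F)⁻¹ * (v (Sum.inr (Sum.inl (Fin.castAdd k (Fin.last j)))) +
        v (Sum.inr (Sum.inr (Fin.castAdd k (Fin.last j)))))],
    Sum.elim (fun _ => (2 : F)⁻¹ * (v (Sum.inr (Sum.inl (Fin.castAdd k (Fin.last j)))) -
        v (Sum.inr (Sum.inr (Fin.castAdd k (Fin.last j))))))
      (fun s => v (Sum.inr (s.map (Fin.natAdd (j + 1)) (Fin.natAdd (j + 1))))))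
  map_add' v w := by
    refine Prod.ext (funext fun s => ?_) (funext fun s => ?_)
    · rcases s with s | s
      · rfl
      · fin_cases s <;> simp <;> ring
    · rcases s with s | s
      · simp; ring
      · rfl
  map_smul' c v := by
    refine Prod.ext (funext fun s => ?_) (funext fun s => ?_)
    · rcases s with s | s
      · rfl
      · fin_cases s <;> simp <;> ring
    · rcases s with s | s
      · simp; ring
      · rfl
  invFun p := Sum.elim (fun _ => p.1 (Sum.inr 0))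
    (Sum.elim (Fin.addCases (Fin.lastCases (p.1 (Sum.inr 1) + p.2 (Sum.inl ()))
        (fun i => p.1 (Sum.inl (Sum.inl i)))) (fun i => p.2 (Sum.inr (Sum.inl i))))
      (Fin.addCases (Fin.lastCases (p.1 (Sum.inr 1) - p.2 (Sum.inl ()))
        (fun i => p.1 (Sum.inl (Sum.inr i)))) (fun i => p.2 (Sum.inr (Sum.inr i)))))
  left_inv v := by
    funext s
    rcases s with u | i | i
    · simp
    all_goals
      induction i using Fin.addCases with
      | left i => induction i using Fin.lastCases <;> simp <;> field_simp <;> ring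
      | right i => simp
  right_inv p := by
    refine Prod.ext (funext fun s => ?_) (funext fun s => ?_)
    · rcases s with (i | i) | i
      · simp
      · simp
      · fin_cases i <;> simp <;> field_simp <;> ring
    · rcases s with u | i | i
      · simp; field_simp; ring
      · simp
      · simp

theorem splitMinus_form (h2 : (2 : F) ≠ 0) (v : Unit ⊕ (Fin (j + 1 + k) ⊕ Fin (j + 1 + k)) → F) :
    Cfsg.quadFormOdd (j + 1 + k) F v =
      Cfsg.quadFormMinus j F 0 1 (splitMinus h2 j k v).1 + restForm k F (splitMinus h2 j k v).2 := by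
  simp only [Cfsg.quadFormOdd, Cfsg.quadFormMinus, restForm, splitMinus, LinearEquiv.coe_mk,
    LinearMap.coe_mk, AddHom.coe_mk, Sum.elim_inl, Sum.elim_inr, Sum.map_inl, Sum.map_inr,
    Matrix.cons_val_zero, Matrix.cons_val_one]
  rw [Fin.sum_univ_add, Fin.sum_univ_castSucc]
  field_simp
  ring

/-- For each `1 ≤ j ≤ m` an involution of `Ω` whose fixed space has codimension `2j`. -/
theorem exists_omega_involution [Fintype F] (hodd : Odd (Fintype.card F)) (m j : ℕ) (hj : 1 ≤ j)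
    (hjm : j ≤ m) :
    ∃ g : ↥(Cfsg.isometryGroup F (Cfsg.quadFormOdd m F)), g ∈ Cfsg.Omega F (Cfsg.quadFormOdd m F) ∧
      g * g = 1 ∧
      Nat.card {v : Unit ⊕ (Fin m ⊕ Fin m) → F //
        (g.1 : Matrix (Unit ⊕ (Fin m ⊕ Fin m)) (Unit ⊕ (Fin m ⊕ Fin m)) F) *ᵥ v = v} =
        Fintype.card F ^ (1 + 2 * (m - j)) := by
  obtain ⟨k, rfl⟩ := Nat.exists_eq_add_of_le hjm
  have h2 : (2 : F) ≠ 0 := by
    apply Ring.two_ne_zero
    intro h
    have := FiniteField.even_card_of_char_two (F := F) h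
    obtain ⟨r, hr⟩ := hodd
    omega
  have hcard : Nat.card F ^ Nat.card (Unit ⊕ (Fin k ⊕ Fin k)) = Fintype.card F ^ (1 + 2 * (j + k - j)) := by
    rw [Nat.card_eq_fintype_card, Nat.card_eq_fintype_card]
    congr 1
    simp
    omega
  by_cases hq : Fintype.card F ^ j % 4 = 1
  · have h1 := (Cfsg.Agent.S0790.result (F := F) rfl hodd j hj).mpr hq
    obtain ⟨g, hg, hgg, hfix⟩ := exists_involution (f := Cfsg.quadFormOdd (j + k) F)
      (f₂ := Cfsg.quadFormOdd k F) h2 (splitPlus j k F) splitPlus_form h1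
    exact ⟨g, hg, hgg, hfix.trans hcard⟩
  · obtain ⟨i, rfl⟩ : ∃ i, j = i + 1 := ⟨j - 1, by omega⟩
    have hqodd : Fintype.card F ^ (i + 1) % 2 = 1 := Nat.odd_iff.mp hodd.pow
    have hq3 : Fintype.card F ^ (i + 1) % 4 = 3 := by omega
    have hq3' : Fintype.card F % 4 = 3 := by
      have := Nat.odd_iff.mp hodd
      have h13 : Fintype.card F % 4 = 1 ∨ Fintype.card F % 4 = 3 := by omega
      rcases h13 with h | h
      · exfalso; rw [Nat.pow_mod, h, one_pow] at hq3; norm_num at hq3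
      · exact h
    have hm1 : ¬ IsSquare (-1 : F) := by
      rw [FiniteField.isSquare_neg_one_iff]; omega
    have hab : ∀ z₁ z₂ : F, z₁ ^ 2 + 0 * z₁ * z₂ + 1 * z₂ ^ 2 = 0 → z₁ = 0 ∧ z₂ = 0 := by
      intro z₁ z₂ h
      by_cases hz : z₂ = 0
      · subst hz; exact ⟨by simpa using h, rfl⟩
      · exfalso
        apply hm1
        refine ⟨z₁ / z₂, ?_⟩
        field_simp
        linear_combination -h
    have h1 := (Cfsg.Agent.S0791.result (F := F) rfl hodd (i + 1) hj 0 1 hab).mpr hq3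
    obtain ⟨g, hg, hgg, hfix⟩ := exists_involution (f := Cfsg.quadFormOdd (i + 1 + k) F)
      (f₂ := restForm k F) h2 (splitMinus h2 i k) (splitMinus_form h2) h1
    exact ⟨g, hg, hgg, hfix.trans hcard⟩

section center

variable {m : ℕ}

theorem polar_odd (x y : Unit ⊕ (Fin m ⊕ Fin m) → F) :
    polar ⇑(formOdd F m) x y = 2 * x (.inl ()) * y (.inl ()) +
      ∑ i : Fin m, (x (.inr (.inl i)) * y (.inr (.inr i)) + x (.inr (.inr i)) * y (.inr (.inl i))) := by
  simp only [polar, Orthogonal.formOdd_coe, Cfsg.quadFormOdd, Pi.add_apply]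
  rw [show ∀ A B C a b c : F, A + B - (a + b) - (c + C) = A - a - c + (B - b - C) from fun _ _ _ _ _ _ => by ring,
    ← Finset.sum_sub_distrib, ← Finset.sum_sub_distrib]
  congr 1
  · ring
  · exact Finset.sum_congr rfl fun i _ => by ring

/-- the singular basis vectors -/
def E (s : Fin m ⊕ Fin m) : Unit ⊕ (Fin m ⊕ Fin m) → F := Pi.single (Sum.inr s) 1

theorem polar_E (x : Unit ⊕ (Fin m ⊕ Fin m) → F) (s : Fin m ⊕ Fin m) :
    polar ⇑(formOdd F m) (E s) x = x (Sum.inr s.swap) := by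
  rw [polar_odd]
  rcases s with i | i <;>
    simp [E, Pi.single_apply, Finset.sum_add_distrib, ite_mul]

theorem formOdd_E (s : Fin m ⊕ Fin m) : formOdd F m (E s) = 0 := by
  show Cfsg.quadFormOdd m F _ = 0
  rcases s with i | i <;> simp [Cfsg.quadFormOdd, E, Pi.single_apply]

/-- Elements of `Ω` commuting with all of `Ω` are trivial. -/
theorem center_omega_odd (h2 : (2 : F) ≠ 0) (hm : 3 ≤ m)
    (z : ↥(Cfsg.Omega F (Cfsg.quadFormOdd m F)))
    (hz : z ∈ Subgroup.center ↥(Cfsg.Omega F (Cfsg.quadFormOdd m F))) : z = 1 := by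
  classical
  set Q := formOdd F m with hQ
  set Z : Matrix (Unit ⊕ (Fin m ⊕ Fin m)) (Unit ⊕ (Fin m ⊕ Fin m)) F := ((z.1.1 : Matrix.GeneralLinearGroup (Unit ⊕ (Fin m ⊕ Fin m)) F) : Matrix (Unit ⊕ (Fin m ⊕ Fin m)) (Unit ⊕ (Fin m ⊕ Fin m)) F) with hZ
  have hiso : ∀ x, Q (Z *ᵥ x) = Q x := (mem_isometryGroup_iff z.1.1).mp z.1.2
  have hpol : ∀ x y, polar ⇑Q (Z *ᵥ x) (Z *ᵥ y) = polar ⇑Q x y := fun x y => by
    simp only [polar, ← mulVec_add, hiso]
  have key : ∀ (u v w : Unit ⊕ (Fin m ⊕ Fin m) → F) (_ : Q u = 0) (_ : Q v = 0) (_ : polar ⇑Q u v = 0)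
      (_ : Q w = 0) (_ : polar ⇑Q u w = 1) (_ : polar ⇑Q v w = 0),
      Z *ᵥ v = polar ⇑Q u (Z *ᵥ w) • v + (-polar ⇑Q v (Z *ᵥ w)) • u := by
    intro u v w hu hv huv hw huw hvw
    have hmem := siegelIso_mem_omega Q h2 hu hv huv hw huw hvw 1
    have hcomm := Subgroup.mem_center_iff.mp hz ⟨siegelIso Q hu hv huv 1, hmem⟩
    have hmat : Cfsg.siegelMatrix ⇑Q u v 1 * Z = Z * Cfsg.siegelMatrix ⇑Q u v 1 :=
      congrArg (fun g : ↥(Cfsg.Omega F (Cfsg.quadFormOdd m F)) => ((g.1.1 : Matrix.GeneralLinearGroup (Unit ⊕ (Fin m ⊕ Fin m)) F) : Matrix (Unit ⊕ (Fin m ⊕ Fin m)) (Unit ⊕ (Fin m ⊕ Fin m)) F)) hcomm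
    have hw' := congrArg (fun M : Matrix _ _ F => M *ᵥ w) hmat
    simp only [← mulVec_mulVec, siegel_mulVec, one_mul, huw, hvw, neg_zero, zero_smul, add_zero,
      one_smul, mulVec_add] at hw'
    rw [add_assoc] at hw'
    exact (add_left_cancel hw').symm
  let idx : Fin m ⊕ Fin m → Fin m := Sum.elim id id
  have hswap : ∀ s, idx (Sum.swap s) = idx s := by rintro (i | i) <;> rfl
  have hne : ∀ {s t : Fin m ⊕ Fin m}, idx s ≠ idx t → s ≠ t.swap ∧ t ≠ s.swap ∧ t ≠ s := fun h =>
    ⟨fun e => h (by rw [e, hswap]), fun e => h (by rw [e, hswap]), fun e => h (by rw [e])⟩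
  have hEE : ∀ s t : Fin m ⊕ Fin m, polar ⇑Q (E s) (E t) = if t = s.swap then 1 else 0 := by
    intro s t
    rw [polar_E]
    simp [E, Pi.single_apply, Sum.inr.injEq, eq_comm]
  have hE : ∀ {s t : Fin m ⊕ Fin m}, idx s ≠ idx t →
      Z *ᵥ E t = (Z *ᵥ E s.swap) (Sum.inr s.swap) • E t + (-(Z *ᵥ E s.swap) (Sum.inr t.swap)) • E s := by
    intro s t h
    have := key (E s) (E t) (E s.swap) (formOdd_E s) (formOdd_E t)
      (by rw [hEE, if_neg (hne h).2.1]) (formOdd_E _) (by rw [hEE, if_pos rfl])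
      (by rw [hEE, if_neg (fun e => h (congrArg idx (by simpa using congrArg Sum.swap e)))])
    rwa [polar_E, polar_E] at this
  have hthird : ∀ a b : Fin m, ∃ c, c ≠ a ∧ c ≠ b := by
    intro a b
    have hlt : ({a, b} : Finset (Fin m)).card < (Finset.univ : Finset (Fin m)).card :=
      lt_of_le_of_lt Finset.card_le_two (by rw [Finset.card_univ, Fintype.card_fin]; omega)
    obtain ⟨c, -, hc⟩ := Finset.exists_mem_notMem_of_card_lt_card hlt
    simp only [Finset.mem_insert, Finset.mem_singleton, not_or] at hc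
    exact ⟨c, hc⟩
  set lam : Fin m ⊕ Fin m → F := fun t => (Z *ᵥ E t) (Sum.inr t) with hlam
  have heig : ∀ t, Z *ᵥ E t = lam t • E t ∧ ∀ s, idx s ≠ idx t → lam t = lam s.swap := by
    intro t
    obtain ⟨a, ha, -⟩ := hthird (idx t) (idx t)
    obtain ⟨b, hba, hbt⟩ := hthird a (idx t)
    have h1 := hE (s := Sum.inl a) (t := t) ha
    have h2' := hE (s := Sum.inl b) (t := t) hbt
    have hcoef : (Z *ᵥ E (Sum.inl a : Fin m ⊕ Fin m).swap) (Sum.inr t.swap) = 0 := by
      have hA := congrFun h1 (Sum.inr (Sum.inl a))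
      have hB := congrFun h2' (Sum.inr (Sum.inl a))
      rw [hB] at hA
      have hta : t ≠ Sum.inl a := fun e => ha (by simp [idx, e])
      simp [E, Pi.single_apply, Ne.symm hta, hba, Ne.symm hba] at hA
      simpa [E] using hA
    rw [hcoef, neg_zero, zero_smul, add_zero] at h1
    have hval : lam t = (Z *ᵥ E (Sum.inl a : Fin m ⊕ Fin m).swap) (Sum.inr (Sum.inl a : Fin m ⊕ Fin m).swap) := by
      have := congrFun h1 (Sum.inr t)
      simpa [hlam, E] using this
    refine ⟨by rw [h1, hval], fun s hs => ?_⟩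
    have := congrFun (hE hs) (Sum.inr t)
    simpa [hlam, E, (hne hs).2.2] using this
  have hconst : ∀ s t, lam s = lam t := by
    intro s t
    obtain ⟨c, hc1, hc2⟩ := hthird (idx s) (idx t)
    rw [(heig s).2 (Sum.inl c) hc1, (heig t).2 (Sum.inl c) hc2]
  let i0 : Fin m := ⟨0, by omega⟩
  set μ := lam (Sum.inl i0) with hμdef
  have hμ : ∀ s, Z *ᵥ E s = μ • E s := fun s => by rw [(heig s).1, hconst s (Sum.inl i0)]
  have hμ2 : μ * μ = 1 := by
    have := hpol (E (Sum.inl i0)) (E (Sum.inr i0))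
    rw [hμ, hμ, QuadraticMap.polar_smul_left, QuadraticMap.polar_smul_right, hEE, if_pos Sum.swap_inl.symm] at this
    simpa using this
  have hμ0 : μ ≠ 0 := fun h => by rw [h, mul_zero] at hμ2; exact zero_ne_one hμ2
  set x0 : Unit ⊕ (Fin m ⊕ Fin m) → F := Pi.single (Sum.inl ()) 1 with hx0
  have hZ0 : ∀ s, (Z *ᵥ x0) (Sum.inr s) = 0 := by
    intro s
    have := hpol (E s.swap) x0
    rw [hμ, QuadraticMap.polar_smul_left, polar_E, polar_E, Sum.swap_swap] at this
    simpa [hx0, hμ0] using this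
  let i1 : Fin m := ⟨1, by omega⟩
  have hi : i1 ≠ i0 := by simp [i1, i0]
  set v : Unit ⊕ (Fin m ⊕ Fin m) → F := x0 + E (Sum.inl i1) + (-1 : F) • E (Sum.inr i1) with hv
  have hvQ : Q v = 0 := by
    show Cfsg.quadFormOdd m F v = 0
    simp [Cfsg.quadFormOdd, hv, hx0, E, Pi.single_apply]
  have hv' : ∀ s : Fin m ⊕ Fin m, idx s = i0 → polar ⇑Q v (E s) = 0 := by
    intro s hs
    rw [polar_comm, polar_E]
    rcases s with i | i <;> simp only [idx, Sum.elim_inl, Sum.elim_inr, id] at hs <;>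
      simp [hv, hx0, E, Pi.single_apply, hs, hi, Ne.symm hi]
  have hkey := key (E (Sum.inl i0)) v (E (Sum.inr i0)) (formOdd_E _) hvQ
    (by rw [polar_comm]; exact hv' _ rfl) (formOdd_E _) (by rw [hEE, if_pos Sum.swap_inl.symm]; ) (hv' _ rfl)
  rw [hμ, QuadraticMap.polar_smul_right, QuadraticMap.polar_smul_right, hEE, if_pos Sum.swap_inl.symm,
    hv' (Sum.inr i0) rfl] at hkey
  have h0 := congrFun hkey (Sum.inl ())
  simp only [hv, mulVec_add, mulVec_smul, hμ] at h0
  simp [hx0, E] at h0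
  have hZx0 : Z *ᵥ x0 = μ • x0 := by
    funext s
    rcases s with u | s
    · simpa [hx0] using h0
    · rw [hZ0]; simp [hx0]
  have hscal : Z = μ • (1 : Matrix _ _ F) := by
    refine Matrix.ext_of_mulVec_single fun s => ?_
    rw [smul_mulVec, one_mulVec]
    rcases s with u | s
    · exact hZx0
    · exact hμ s
  have hdet : Z.det = 1 := by
    have := Abelianization.commutator_subset_ker
      (Matrix.GeneralLinearGroup.det.comp (Cfsg.isometryGroup F (Cfsg.quadFormOdd m F)).subtype) z.2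
    exact congrArg Units.val (MonoidHom.mem_ker.mp this)
  have hμ1 : μ = 1 := by
    rw [hscal, det_smul, det_one, mul_one] at hdet
    simp only [Fintype.card_sum, Fintype.card_unit, Fintype.card_fin] at hdet
    rw [pow_add, pow_one, pow_add, ← mul_pow, hμ2, one_pow, mul_one] at hdet
    exact hdet
  refine Subtype.ext (Subtype.ext (Units.ext ?_))
  show Z = 1
  rw [hscal, hμ1, one_smul]

end center

end Cfsg.Agent.H34
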