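import Mathlib
import Cfsg.Agent.Cores.Basic

/-!
A normal subgroup whose non-central elements have one class size in the whole group, part 1:
basic facts.
-/

set_option autoImplicit false
set_option linter.style.haveILetI false

namespace Cfsg.Agent.H34.OneSize

open Subgroup

variable {G : Type*} [Group G]

/-- the centraliser of one element -/
abbrev cen (x : G) : Subgroup G := Subgroup.centralizer ({x} : Set G)

theorem mem_cen {x g : G} : g ∈ cen x ↔ Commute g x := by
  rw [Subgroup.mem_centralizer_iff]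
  exact ⟨fun h => (h x rfl).symm, fun h => by rintro v rfl; exact h.symm⟩

theorem cen_conj {n x g : G} : g ∈ cen (n * x * n⁻¹) ↔ n⁻¹ * g * n ∈ cen x := by
  rw [mem_cen, mem_cen]
  constructor
  · intro h
    have := h.map (MulAut.conj n⁻¹)
    simpa [mul_assoc] using this
  · intro h
    have := h.map (MulAut.conj n)
    simpa [mul_assoc] using this

theorem card_cen_conj (n x : G) : Nat.card (cen (n * x * n⁻¹)) = Nat.card (cen x) := by
  refine Nat.card_congr ⟨fun g => ⟨n⁻¹ * g * n, cen_conj.1 g.2⟩,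
    fun g => ⟨n * g * n⁻¹, cen_conj.2 (by simpa [mul_assoc] using g.2)⟩, fun g => ?_, fun g => ?_⟩
  · exact Subtype.ext (by simp [mul_assoc])
  · exact Subtype.ext (by simp [mul_assoc])

/-- prime power order -/
def IsPel (q : ℕ) (g : G) : Prop := ∃ k : ℕ, g ^ q ^ k = 1

theorem IsPel.one {q : ℕ} : IsPel q (1 : G) := ⟨0, one_pow _⟩

theorem IsPel.conj {q : ℕ} {g : G} (h : IsPel q g) (n : G) : IsPel q (n * g * n⁻¹) := by
  obtain ⟨k, hk⟩ := h
  exact ⟨k, by rw [conj_pow, hk, mul_one, mul_inv_cancel]⟩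

theorem IsPel.inv {q : ℕ} {g : G} (h : IsPel q g) : IsPel q g⁻¹ := by
  obtain ⟨k, hk⟩ := h
  exact ⟨k, by rw [inv_pow, hk, inv_one]⟩

theorem IsPel.mul {q : ℕ} {g h : G} (hg : IsPel q g) (hh : IsPel q h) (hc : Commute g h) :
    IsPel q (g * h) := by
  obtain ⟨a, ha⟩ := hg
  obtain ⟨b, hb⟩ := hh
  exact ⟨a + b, by rw [hc.mul_pow, pow_add, pow_mul g, ha, one_pow, one_mul, mul_comm, pow_mul, hb,
    one_pow]⟩

theorem IsPel.pow {q : ℕ} {g : G} (h : IsPel q g) (n : ℕ) : IsPel q (g ^ n) := by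
  obtain ⟨k, hk⟩ := h
  exact ⟨k, by rw [← pow_mul, mul_comm, pow_mul, hk, one_pow]⟩

theorem isPel_of_mem {q : ℕ} {S : Subgroup G} (hS : IsPGroup q S) {g : G} (hg : g ∈ S) :
    IsPel q g := by
  obtain ⟨k, hk⟩ := hS ⟨g, hg⟩
  exact ⟨k, by simpa using congrArg Subtype.val hk⟩

theorem IsPel.coprime {p q : ℕ} (hp : p.Prime) (hq : q.Prime) (hpq : p ≠ q) {g h : G}
    (hg : IsPel p g) (hh : IsPel q h) : (orderOf g).Coprime (orderOf h) := by
  obtain ⟨a, ha⟩ := hg
  obtain ⟨b, hb⟩ := hh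
  exact Nat.Coprime.of_dvd (orderOf_dvd_of_pow_eq_one ha) (orderOf_dvd_of_pow_eq_one hb)
    (((Nat.coprime_primes hp hq).2 hpq).pow a b)

theorem IsPel.isPGroup_zpowers {q : ℕ} {g : G} (h : IsPel q g) :
    IsPGroup q (Subgroup.zpowers g) := by
  rintro ⟨_, i, rfl⟩
  obtain ⟨k, hk⟩ := h
  exact ⟨k, Subtype.ext (by
    show (g ^ i) ^ q ^ k = 1
    rw [← zpow_natCast, ← zpow_mul, mul_comm, zpow_mul, zpow_natCast, hk, one_zpow])⟩

/-- an element all whose prime power parts lie in a subgroup lies in it -/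
theorem mem_of_parts [Finite G] (D : Subgroup G) (g : G)
    (h : ∀ y ∈ Subgroup.zpowers g, ∀ q : ℕ, q.Prime → IsPel q y → y ∈ D) : g ∈ D := by
  suffices ∀ n, ∀ y ∈ Subgroup.zpowers g, orderOf y = n → y ∈ D from
    this _ g (Subgroup.mem_zpowers g) rfl
  intro n
  induction n using Nat.recOnPrimeCoprime with
  | zero => intro y _ hn; exact absurd hn (orderOf_pos y).ne'
  | prime_pow q k hq => intro y hy hn; exact h y hy q hq ⟨k, by rw [← hn, pow_orderOf_eq_one]⟩
  | coprime a b ha hb hab iha ihb =>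
    intro y hy hn
    have h1 : orderOf (y ^ a) = b := by
      rw [orderOf_pow' y (by omega), hn, Nat.gcd_eq_right (Dvd.intro b rfl),
        Nat.mul_div_cancel_left b (by omega)]
    have h2 : orderOf (y ^ b) = a := by
      rw [orderOf_pow' y (by omega), hn, Nat.gcd_eq_right (Dvd.intro_left a rfl),
        Nat.mul_div_cancel a (by omega)]
    obtain ⟨u, v, huv⟩ : ∃ u v : ℤ, (a : ℤ) * u + (b : ℤ) * v = 1 := by
      obtain ⟨u, v, huv⟩ := Nat.isCoprime_iff_coprime.mpr hab
      exact ⟨u, v, by linear_combination huv⟩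
    have : y = (y ^ a) ^ u * (y ^ b) ^ v := by
      rw [← zpow_natCast y a, ← zpow_natCast y b, ← zpow_mul, ← zpow_mul, ← zpow_add, huv,
        zpow_one]
    rw [this]
    exact mul_mem (zpow_mem (ihb _ (pow_mem hy a) h1) u) (zpow_mem (iha _ (pow_mem hy b) h2) v)

/-- central commutators -/
theorem conj_pow_of_central {u t : G} (hc : u * t * u⁻¹ * t⁻¹ ∈ Subgroup.center G) (k : ℕ) :
    u ^ k * t * (u ^ k)⁻¹ = t * (u * t * u⁻¹ * t⁻¹) ^ k := by
  set c := u * t * u⁻¹ * t⁻¹ with hcdef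
  have hut : u * t * u⁻¹ = t * c := by
    rw [Subgroup.mem_center_iff.1 hc t, hcdef, inv_mul_cancel_right]
  induction k with
  | zero => simp
  | succ k ih =>
    rw [pow_succ', mul_inv_rev, show u * u ^ k * t * ((u ^ k)⁻¹ * u⁻¹) =
      u * (u ^ k * t * (u ^ k)⁻¹) * u⁻¹ by group, ih, show u * (t * c ^ k) * u⁻¹ =
      (u * t * u⁻¹) * (u * c ^ k * u⁻¹) by group, hut,
      Subgroup.mem_center_iff.1 (pow_mem hc k) u, mul_inv_cancel_right, mul_assoc, ← pow_succ']

theorem conj_pow_of_central' {u t : G} (hc : u * t * u⁻¹ * t⁻¹ ∈ Subgroup.center G) (k : ℕ) :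
    u * t ^ k * u⁻¹ = t ^ k * (u * t * u⁻¹ * t⁻¹) ^ k := by
  have hut : u * t * u⁻¹ = t * (u * t * u⁻¹ * t⁻¹) := by
    rw [Subgroup.mem_center_iff.1 hc t, inv_mul_cancel_right]
  rw [← conj_pow]
  conv_lhs => rw [hut]
  rw [Commute.mul_pow (Subgroup.mem_center_iff.1 hc t)]

theorem mem_cen_conj_iff_of_central {z c g : G} (hc : c ∈ Subgroup.center G) :
    g ∈ cen (z * c) ↔ g ∈ cen z := by
  rw [mem_cen, mem_cen]
  have h1 : Commute g c := Subgroup.mem_center_iff.1 hc g
  refine ⟨fun h => ?_, fun h => h.mul_right h1⟩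
  simpa using h.mul_right h1.inv_right

variable [Finite G]

/-- the hypothesis -/
def OneSizeOn (N : Subgroup G) : Prop :=
  ∀ x ∈ N, x ∉ Subgroup.center G → ∀ y ∈ N, y ∉ Subgroup.center G →
    Nat.card (cen x) = Nat.card (cen y)

variable {N : Subgroup G} (h : OneSizeOn N)

include h in
theorem cen_eq_of_le {x y : G} (hx : x ∈ N) (hxZ : x ∉ Subgroup.center G) (hy : y ∈ N)
    (hyZ : y ∉ Subgroup.center G) (hle : cen x ≤ cen y) : cen x = cen y :=
  Subgroup.eq_of_le_of_card_ge hle (h x hx hxZ y hy hyZ).ge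

include h in
theorem cen_pow {x : G} (hx : x ∈ N) (k : ℕ) (hk : x ^ k ∉ Subgroup.center G) :
    cen (x ^ k) = cen x := by
  refine (cen_eq_of_le h hx (fun e => hk (pow_mem e k)) (N.pow_mem hx k) hk fun g hg => ?_).symm
  exact mem_cen.2 ((mem_cen.1 hg).pow_right k)

include h in
theorem cen_eq_of_coprime {x y : G} (hx : x ∈ N) (hxZ : x ∉ Subgroup.center G) (hy : y ∈ N)
    (hyZ : y ∉ Subgroup.center G) (hc : Commute x y) (hco : (orderOf x).Coprime (orderOf y)) :
    cen x = cen y := by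
  obtain ⟨i, hi⟩ := exists_pow_eq_self_of_coprime hco.symm
  obtain ⟨j, hj⟩ := exists_pow_eq_self_of_coprime hco
  rw [← pow_mul] at hi hj
  have hxi : (x * y) ^ (orderOf y * i) = x := by
    rw [hc.mul_pow, hi, pow_mul y, pow_orderOf_eq_one, one_pow, mul_one]
  have hyj : (x * y) ^ (orderOf x * j) = y := by
    rw [hc.mul_pow, hj, pow_mul x, pow_orderOf_eq_one, one_pow, one_mul]
  have hxy := N.mul_mem hx hy
  have h1 := cen_pow h hxy (orderOf y * i) (by rwa [hxi])
  have h2 := cen_pow h hxy (orderOf x * j) (by rwa [hyj])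
  rw [hxi] at h1
  rw [hyj] at h2
  rw [h1, h2]

include h in
/-- every non-central element has the centraliser of one of its prime power parts -/
theorem exists_part {g : G} (hg : g ∈ N) (hgZ : g ∉ Subgroup.center G) :
    ∃ y q, Nat.Prime q ∧ IsPel q y ∧ y ∈ N ∧ y ∉ Subgroup.center G ∧ cen g = cen y := by
  by_contra hno
  refine hgZ (mem_of_parts _ g fun y hy q hq hyq => by_contra fun hyZ => hno ?_)
  have hyN : y ∈ N := (Subgroup.zpowers_le.2 hg) hy
  refine ⟨y, q, hq, hyq, hyN, hyZ, cen_eq_of_le h hg hgZ hyN hyZ fun u hu => ?_⟩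
  obtain ⟨s, rfl⟩ := Subgroup.mem_zpowers_iff.1 hy
  exact mem_cen.2 ((mem_cen.1 hu).zpow_right s)

include h in
/-- with non-central elements of two primes the centraliser meets `N` in an abelian group -/
theorem comm_of_mixed {p q : ℕ} (hp : p.Prime) (hq : q.Prime) (hpq : p ≠ q) {x y : G}
    (hx : x ∈ N) (hxZ : x ∉ Subgroup.center G) (hxp : IsPel p x) (hy : y ∈ N)
    (hyZ : y ∉ Subgroup.center G) (hyq : IsPel q y) (hxy : Commute x y)
    {a b : G} (ha : a ∈ N ⊓ cen x) (hb : b ∈ N ⊓ cen x) : Commute a b := by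
  have hxyC : cen x = cen y := cen_eq_of_coprime h hx hxZ hy hyZ hxy (hxp.coprime hp hq hpq hyq)
  suffices a ∈ cen b from mem_cen.1 this
  refine mem_of_parts _ a fun v hv s hs hvs => ?_
  have hvm : v ∈ N ⊓ cen x := (Subgroup.zpowers_le.2 ha) hv
  by_cases hvZ : v ∈ Subgroup.center G
  · exact mem_cen.2 (Subgroup.mem_center_iff.1 hvZ b).symm
  have hvx : cen x = cen v := by
    by_cases hsp : s = p
    · rw [hxyC]
      have hvy : Commute v y := mem_cen.1 (hxyC ▸ hvm.2)
      exact cen_eq_of_coprime h hy hyZ hvm.1 hvZ hvy.symm (hyq.coprime hq hs (hsp ▸ hpq.symm) hvs)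
    · exact cen_eq_of_coprime h hx hxZ hvm.1 hvZ (mem_cen.1 hvm.2).symm
        (hxp.coprime hp hs (Ne.symm hsp) hvs)
  exact mem_cen.2 (mem_cen.1 (hvx ▸ hb.2 : b ∈ cen v)).symm

include h in
/-- a non-central element moving another one by a central element has `p`-th power central -/
theorem pow_mem_center {p : ℕ} (hp : p.Prime) {u t : G} (hu : u ∈ N) (hup : IsPel p u)
    (hc : u * t * u⁻¹ * t⁻¹ ∈ Subgroup.center G) (hne : ¬ Commute u t) :
    u ^ p ∈ Subgroup.center G := by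
  by_contra hZ
  set c := u * t * u⁻¹ * t⁻¹ with hcdef
  have hc1 : c ≠ 1 := fun e => hne (mul_inv_eq_iff_eq_mul.1 (mul_inv_eq_one.1 e))
  have hcC : cen (u ^ p) = cen u := cen_pow h hu p hZ
  obtain ⟨k, hk⟩ := hup
  have hck : c ^ p ^ k = 1 := by
    have h1 := conj_pow_of_central hc (p ^ k)
    rw [hk, one_mul, inv_one, mul_one] at h1
    exact mul_eq_left.1 h1.symm
  obtain ⟨j, hj, hjo⟩ := (Nat.dvd_prime_pow hp).1 (orderOf_dvd_of_pow_eq_one hck)
  obtain ⟨i, rfl⟩ : ∃ i, j = i + 1 := Nat.exists_eq_succ_of_ne_zero (fun e => hc1 (by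
    rw [e, pow_zero] at hjo; exact orderOf_eq_one_iff.1 hjo))
  have hci : c ^ p ^ (i + 1) = 1 := by rw [← hjo, pow_orderOf_eq_one]
  -- `t' = t ^ p ^ i` commutes with `u ^ p` but not with `u`
  have h2 : t ^ p ^ i ∈ cen (u ^ p) := by
    refine mem_cen.2 (Commute.symm ?_)
    have h1 := conj_pow_of_central' hc (p ^ i)
    have hc' : u * t ^ p ^ i * u⁻¹ * (t ^ p ^ i)⁻¹ = c ^ p ^ i := by
      rw [h1, Subgroup.mem_center_iff.1 (pow_mem hc _) (t ^ p ^ i), mul_inv_cancel_right]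
    have h3 := conj_pow_of_central (t := t ^ p ^ i) (by rw [hc']; exact pow_mem hc _) p
    rw [hc', ← pow_mul, ← pow_succ, hci, mul_one] at h3
    exact mul_inv_eq_iff_eq_mul.1 h3
  rw [hcC] at h2
  have h4 := mem_cen.1 h2
  have h1 := conj_pow_of_central' hc (p ^ i)
  rw [← h4.eq, mul_inv_cancel_right] at h1
  have : c ^ p ^ i = 1 := mul_eq_left.1 h1.symm
  have hd := orderOf_dvd_of_pow_eq_one this
  rw [hjo] at hd
  have := (Nat.pow_dvd_pow_iff_le_right hp.one_lt).1 hd
  omega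

/-- a subgroup normalised by a Sylow subgroup meets it in a Sylow subgroup -/
theorem card_inf_of_normalized {p : ℕ} [hp : Fact p.Prime] (R : Sylow p G) (U : Subgroup G)
    (hRU : ∀ u ∈ (R : Subgroup G), ∀ g ∈ U, u * g * u⁻¹ ∈ U) :
    Nat.card ↥((R : Subgroup G) ⊓ U) = p ^ (Nat.card U).factorization p := by
  set M := Subgroup.normalizer (U : Set G)
  have hUM : U ≤ M := Subgroup.le_normalizer
  have hRM : (R : Subgroup G) ≤ M := fun u hu => Subgroup.mem_normalizer_iff.2 fun g => by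
    refine ⟨hRU u hu g, fun hg => ?_⟩
    have := hRU u⁻¹ ((R : Subgroup G).inv_mem hu) _ hg
    simpa [mul_assoc] using this
  haveI : (U.subgroupOf M).Normal := Subgroup.normal_subgroupOf_iff_le_normalizer hUM |>.2 le_rfl
  have h1 := Cores.card_sup_mul_card_inf ((R : Subgroup G).subgroupOf M) (U.subgroupOf M)
  have hcU : Nat.card (U.subgroupOf M) = Nat.card U :=
    Nat.card_congr (Subgroup.subgroupOfEquivOfLe hUM).toEquiv
  have hcR : Nat.card ((R : Subgroup G).subgroupOf M) = Nat.card (R : Subgroup G) :=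
    Nat.card_congr (Subgroup.subgroupOfEquivOfLe hRM).toEquiv
  have hcI : Nat.card ↥((R : Subgroup G).subgroupOf M ⊓ U.subgroupOf M) =
      Nat.card ↥((R : Subgroup G) ⊓ U) := by
    show Nat.card ↥((((R : Subgroup G) ⊓ U)).subgroupOf M) = _
    exact Nat.card_congr (Subgroup.subgroupOfEquivOfLe (inf_le_right.trans hUM)).toEquiv
  rw [hcU, hcR, hcI] at h1
  set S := (R : Subgroup G).subgroupOf M ⊔ U.subgroupOf M
  have hS : (Nat.card S).factorization p ≤ (Nat.card (R : Subgroup G)).factorization p := by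
    have h2 : Nat.card S ∣ Nat.card G :=
      (Subgroup.card_subgroup_dvd_card S).trans (Subgroup.card_subgroup_dvd_card M)
    have h3 := (Nat.factorization_le_iff_dvd Nat.card_pos.ne' Nat.card_pos.ne').2 h2 p
    rw [R.card_eq_multiplicity, hp.out.factorization_pow, Finsupp.single_eq_same]
    exact h3
  obtain ⟨k, hk⟩ := IsPGroup.iff_card.1 (R.2.to_le (inf_le_left : (R : Subgroup G) ⊓ U ≤ _))
  have h4 := congrArg (fun n => n.factorization p) h1
  simp only [Nat.factorization_mul Nat.card_pos.ne' Nat.card_pos.ne', Finsupp.add_apply] at h4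
  have h5 : (Nat.card ↥((R : Subgroup G) ⊓ U)).factorization p ≤ (Nat.card U).factorization p :=
    (Nat.factorization_le_iff_dvd Nat.card_pos.ne' Nat.card_pos.ne').2
      (Subgroup.card_dvd_of_le inf_le_right) p
  rw [hk, hp.out.factorization_pow, Finsupp.single_eq_same] at h4 h5
  rw [hk]
  congr 1
  omega

theorem card_le_of_le {p : ℕ} (hp : p.Prime) {T U : Subgroup G} (hT : IsPGroup p T) (hTU : T ≤ U) :
    Nat.card T ≤ p ^ (Nat.card U).factorization p := by
  haveI := Fact.mk hp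
  obtain ⟨k, hk⟩ := IsPGroup.iff_card.1 hT
  have h1 := Subgroup.card_dvd_of_le hTU
  rw [hk, hp.pow_dvd_iff_le_factorization Nat.card_pos.ne'] at h1
  rw [hk]
  exact Nat.pow_le_pow_right hp.pos h1

end Cfsg.Agent.H34.OneSize
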