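import Cfsg.Agent.H34.OneSizeSylow
import Cfsg.Agent.H75.Cover

/-!
A normal subgroup containing a non-central Sylow subgroup whose elements have only one
non-central class size in the whole group is nilpotent.
-/

set_option autoImplicit false
set_option linter.style.haveILetI false

namespace Cfsg.Agent.H34.OneSize

open Subgroup

variable {G : Type*} [Group G]

/-- conjugation induces a power map of `p`-power order -/
theorem pow_action {H : Type*} [Group H] {p s : ℕ} [hp : Fact p.Prime] [hs : Fact s.Prime] {a x : H}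
    (ha : a ^ p = 1) (hx : orderOf x = s) {i : ℕ} (hi : a * x * a⁻¹ = x ^ i)
    (hne : a * x * a⁻¹ ≠ x) :
    (i : ZMod s) ^ p = 1 ∧ orderOf (i : ZMod s) = p ∧ p ∣ s - 1 := by
  have hk : ∀ k : ℕ, a ^ k * x * (a ^ k)⁻¹ = x ^ i ^ k := by
    intro k
    induction k with
    | zero => simp
    | succ k ih =>
      rw [pow_succ' a, mul_inv_rev, show a * a ^ k * x * ((a ^ k)⁻¹ * a⁻¹) =
        a * (a ^ k * x * (a ^ k)⁻¹) * a⁻¹ by group, ih, ← conj_pow, hi, ← pow_mul, ← pow_succ']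
  have h1 := hk p
  rw [ha, one_mul, inv_one, mul_one] at h1
  have h2 : i ^ p ≡ 1 [MOD s] := by
    rw [← hx]
    exact pow_eq_pow_iff_modEq.1 (h1.symm.trans (pow_one x).symm)
  have h3 : (i : ZMod s) ^ p = 1 := by
    rw [← Nat.cast_pow, ← Nat.cast_one, ZMod.natCast_eq_natCast_iff]; exact h2
  have h4 : (i : ZMod s) ≠ 1 := by
    intro e
    rw [← Nat.cast_one, ZMod.natCast_eq_natCast_iff, ← hx, ← pow_eq_pow_iff_modEq, pow_one] at e
    exact hne (hi.trans e)
  have h5 : orderOf (i : ZMod s) = p := orderOf_eq_prime h3 h4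
  refine ⟨h3, h5, ?_⟩
  have h6 : (i : ZMod s) ≠ 0 := fun e => by
    rw [e, zero_pow hp.out.ne_zero] at h3; exact zero_ne_one h3
  exact h5 ▸ ZMod.orderOf_dvd_card_sub_one h6

/-- the elements commuting with `w` modulo the centre -/
def modCen (w : G) : Subgroup G :=
  (cen (QuotientGroup.mk' (Subgroup.center G) w)).comap (QuotientGroup.mk' (Subgroup.center G))

theorem mem_modCen {w u : G} : u ∈ modCen w ↔ u * w * u⁻¹ * w⁻¹ ∈ Subgroup.center G := by
  rw [modCen, Subgroup.mem_comap, mem_cen, ← QuotientGroup.eq_one_iff]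
  show Commute _ _ ↔ QuotientGroup.mk' (Subgroup.center G) (u * w * u⁻¹ * w⁻¹) = 1
  rw [map_mul, map_mul, map_mul, map_inv, map_inv, mul_inv_eq_one, mul_inv_eq_iff_eq_mul]
  exact Iff.rfl

theorem mem_modCen_symm {w u : G} : u ∈ modCen w ↔ w ∈ modCen u := by
  simp only [modCen, Subgroup.mem_comap, mem_cen]
  exact ⟨fun h => h.symm, fun h => h.symm⟩

theorem center_le_modCen (w : G) : Subgroup.center G ≤ modCen w := fun u hu => mem_modCen.2 (by
  rw [← Subgroup.mem_center_iff.1 hu w, mul_inv_cancel_right, mul_inv_cancel]; exact one_mem _)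

variable [Finite G] {r : ℕ} [hr : Fact r.Prime] {N : Subgroup G} {R : Sylow r G}

omit [Finite G] hr in
theorem conj_not_center {g : G} (hg : g ∉ Subgroup.center G) (n : G) :
    n * g * n⁻¹ ∉ Subgroup.center G := fun e => hg (by
  have := (inferInstance : (Subgroup.center G).Normal).conj_mem _ e n⁻¹
  simpa [mul_assoc] using this)

omit [Finite G] hr in
theorem commute_of_modCen {p q : ℕ} (hp : p.Prime) (hq : q.Prime) (hpq : p ≠ q) {u w : G}
    (hu : IsPel p u) (hw : IsPel q w) (h : u ∈ modCen w) : Commute u w := by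
  have hc := mem_modCen.1 h
  set c := u * w * u⁻¹ * w⁻¹ with hcdef
  obtain ⟨k, hk⟩ := hu
  obtain ⟨l, hl⟩ := hw
  have h1 := conj_pow_of_central hc (p ^ k)
  rw [hk, one_mul, inv_one, mul_one] at h1
  have h2 := conj_pow_of_central' hc (q ^ l)
  rw [hl, mul_one, mul_inv_cancel, one_mul] at h2
  have hc1 : c = 1 := orderOf_eq_one_iff.1 (Nat.eq_one_of_dvd_coprimes
    (((Nat.coprime_primes hp hq).2 hpq).pow k l)
    (orderOf_dvd_of_pow_eq_one (mul_eq_left.1 h1.symm)) (orderOf_dvd_of_pow_eq_one h2.symm))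
  exact mul_inv_eq_iff_eq_mul.1 (mul_inv_eq_one.1 hc1)

/-- conjugation by an element commuting with `z` modulo the centre fixes the centraliser -/
theorem cen_conj_mem {u z g : G} (h : u ∈ modCen z) (hg : g ∈ cen z) : u * g * u⁻¹ ∈ cen z := by
  have hc := mem_modCen.1 h
  have h1 : u * g * u⁻¹ ∈ cen (u * z * u⁻¹) := cen_conj.2 (by simpa [mul_assoc] using hg)
  rw [show u * z * u⁻¹ = (u * z * u⁻¹ * z⁻¹) * z by group,
    ← Subgroup.mem_center_iff.1 hc z] at h1
  exact (mem_cen_conj_iff_of_central hc).1 h1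

/-- every non-central element has the centraliser of an `r`-element -/
theorem Hyp.cen_eq_r (h : Hyp r N R) {g : G} (hg : g ∈ N) (hgZ : g ∉ Subgroup.center G) :
    ∃ x ∈ N, x ∉ Subgroup.center G ∧ IsPel r x ∧ cen g = cen x := by
  obtain ⟨y, q, hq, hyq, hy, hyZ, e⟩ := exists_part h.size hg hgZ
  by_cases hqr : q = r
  · exact ⟨y, hy, hyZ, hqr ▸ hyq, e⟩
  obtain ⟨x, hx, hxZ, hxr, hxy⟩ := h.exists_r hy hyZ
  exact ⟨x, hx, hxZ, hxr, e.trans (cen_eq_of_coprime h.size hy hyZ hx hxZ hxy.symm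
    (hyq.coprime hq hr.out hqr hxr))⟩

/-- an `r`-element centralised by `N` contradicts the hypotheses -/
theorem Hyp.not_central (h : Hyp r N R) {x : G} (hx : IsPel r x) (hxZ : x ∉ Subgroup.center G) :
    ¬ N ≤ cen x := by
  intro hle
  obtain ⟨n, hn, hnR, -⟩ := h.position hx
  refine h.noZ _ hnR (conj_not_center hxZ n) fun u hu => cen_conj.2 (hle ?_)
  have := h.nrm.conj_mem u (h.le hu) n⁻¹
  rwa [inv_inv] at this

/-- two elements of `R` are dependent modulo the centraliser of a good element -/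
theorem Hyp.pair (h : Hyp r N R) {z y : G} (hz : Good R z) {q : ℕ} (hq : q.Prime) (hqr : q ≠ r)
    (hy : y ∈ N) (hyZ : y ∉ Subgroup.center G) (hyq : IsPel q y) (hzy : Commute z y)
    {u w : G} (hu : u ∈ (R : Subgroup G)) (hw : w ∈ (R : Subgroup G)) (hwz : w ∉ cen z)
    (huw : u * w * u⁻¹ * w⁻¹ ∈ cen z) : ∃ j : ℕ, u * w ^ j ∈ cen z := by
  by_cases huz : u ∈ cen z
  · exact ⟨0, by rwa [pow_zero, mul_one]⟩
  have hnorm : ∀ v ∈ (R : Subgroup G), ∀ g ∈ N ⊓ cen z, v * g * v⁻¹ ∈ N ⊓ cen z := fun v hv g hg =>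
    ⟨h.nrm.conj_mem g hg.1 v, hz.conj_cen hv hg.2⟩
  have hpow : ∀ v ∈ (R : Subgroup G), v ∉ cen z → v ^ r ∈ Subgroup.center G := fun v hv hvz =>
    pow_mem_center h.size hr.out (h.le hv) (isPel_of_mem R.2 hv) (hz.2.2 v hv)
      (fun e => hvz (mem_cen.2 e))
  exact exists_mul_pow_mem h.size hq hqr.symm (h.le hz.1) hz.2.1 (isPel_of_mem R.2 hz.1) hy hyZ hyq
    hzy (h.le hu) (h.le hw) (hnorm u hu) (hnorm w hw) (hpow u hu huz) (hpow w hw hwz)
    ⟨h.le (mul_mem (mul_mem (mul_mem hu hw) (inv_mem hu)) (inv_mem hw)), huw⟩ hwz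

omit hr in
/-- a subgroup whose elements are powers of `x` up to central ones is small -/
theorem card_le_mul {X : Subgroup G} (hXR : X ≤ (R : Subgroup G)) {x : G}
    (hxR : x ∈ (R : Subgroup G)) (hr0 : 0 < r) (hx : x ^ r ∈ Subgroup.center G)
    (hX : ∀ c ∈ X, ∃ j : ℕ, c * x ^ j ∈ Subgroup.center G) :
    Nat.card X ≤ r * Nat.card ↥((R : Subgroup G) ⊓ Subgroup.center G) := by
  classical
  choose j hj using fun c : X => hX c c.2
  have hj' : ∀ c : X, (c : G) * x ^ (j c % r) ∈ Subgroup.center G := by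
    intro c
    have h1 := hj c
    rw [← Nat.mod_add_div (j c) r, pow_add, pow_mul, ← mul_assoc] at h1
    exact (Subgroup.mul_mem_cancel_right _ (pow_mem hx _)).1 h1
  let f : X → Fin r × ↥((R : Subgroup G) ⊓ Subgroup.center G) := fun c =>
    (⟨j c % r, Nat.mod_lt _ hr0⟩, ⟨(c : G) * x ^ (j c % r),
      Subgroup.mem_inf.2 ⟨mul_mem (hXR c.2) (pow_mem hxR _), hj' c⟩⟩)
  refine (Nat.card_le_card_of_injective f ?_).trans (by simp)
  intro a b e
  have e1 : j a % r = j b % r := congrArg Fin.val (Prod.ext_iff.1 e).1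
  have e2 : (a : G) * x ^ (j a % r) = (b : G) * x ^ (j b % r) := congrArg Subtype.val (Prod.ext_iff.1 e).2
  rw [e1] at e2
  exact Subtype.ext (mul_right_cancel e2)

/-- in the main case every element of `R` is central modulo the centre -/
theorem Hyp.all_good (h : Hyp r N R) {q : ℕ} (hq : q.Prime) (hqr : q ≠ r) {y₀ : G} (hy₀ : y₀ ∈ N)
    (hy₀Z : y₀ ∉ Subgroup.center G) (hy₀q : IsPel q y₀) :
    (∀ u ∈ (R : Subgroup G), u ∉ Subgroup.center G → Good R u) ∧
      ∀ z, Good R z → (R : Subgroup G) ⊓ cen z ≤ Subgroup.zpowers z ⊔ Subgroup.center G := by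
  classical
  set k := r * Nat.card ↥((R : Subgroup G) ⊓ Subgroup.center G) with hk
  have hsmall : ∀ z, Good R z → Nat.card ↥((R : Subgroup G) ⊓ cen z) ≤ k := by
    intro z hz
    obtain ⟨y, hy, hyZ, hyq, hzy⟩ := h.good_has hz hq hqr hy₀ hy₀Z hy₀q
    by_contra hbig
    push Not at hbig
    -- every `r`-element is conjugate into the centraliser of `z`
    have hconj : ∀ x ∈ N, x ∉ Subgroup.center G → IsPel r x → ∃ n ∈ N, n * x * n⁻¹ ∈ cen z := by
      intro x hx hxZ hxr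
      obtain ⟨n, hn, hxR, hF⟩ := h.position hxr
      refine ⟨n, hn, by_contra fun hxz => ?_⟩
      set x' := n * x * n⁻¹
      have hx'Z : x' ∉ Subgroup.center G := conj_not_center hxZ n
      have hx'N : x' ∈ N := h.le hxR
      have hpow := pow_mem_center h.size hr.out hx'N (isPel_of_mem R.2 hxR) (hz.2.2 x' hxR)
        (fun e => hxz (mem_cen.2 e))
      refine absurd (hbig.trans_le ?_) (lt_irrefl k)
      rw [hz.full, h.size z (h.le hz.1) hz.2.1 x' hx'N hx'Z, ← hF]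
      refine card_le_mul inf_le_left hxR hr.out.pos hpow fun c hc => ?_
      have hcx : Commute c x' := mem_cen.1 hc.2
      obtain ⟨j, hj⟩ := h.pair hz hq hqr hy hyZ hyq hzy hc.1 hxR hxz (by
        rw [hcx.eq, mul_inv_cancel_right, mul_inv_cancel]; exact one_mem _)
      refine ⟨j, by_contra fun hne => hxz ?_⟩
      have hd : c * x' ^ j ∈ (R : Subgroup G) := mul_mem hc.1 (pow_mem hxR j)
      have hzd : cen z = cen y := cen_eq_of_coprime h.size (h.le hz.1) hz.2.1 hy hyZ hzy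
        ((isPel_of_mem R.2 hz.1).coprime hr.out hq hqr.symm hyq)
      have hdy : cen (c * x' ^ j) = cen y := cen_eq_of_coprime h.size (h.le hd) hne hy hyZ
        (mem_cen.1 (hzd ▸ hj)) ((isPel_of_mem R.2 hd).coprime hr.out hq hqr.symm hyq)
      rw [hzd, ← hdy]
      exact mem_cen.2 ((hcx.symm.mul_right ((Commute.refl x').pow_right j)))
    have hcover : (N ⊓ cen z).subgroupOf N = ⊤ := by
      refine H75.eq_top_of_conj_cover _ fun g => ?_
      by_cases hgZ : (g : G) ∈ Subgroup.center G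
      · exact ⟨1, by
          rw [one_mul, inv_one, mul_one, Subgroup.mem_subgroupOf]
          exact ⟨g.2, mem_cen.2 (Subgroup.mem_center_iff.1 hgZ z).symm⟩⟩
      obtain ⟨x, hx, hxZ, hxr, hgx⟩ := h.cen_eq_r g.2 hgZ
      obtain ⟨n, hn, hnx⟩ := hconj x hx hxZ hxr
      refine ⟨⟨n, hn⟩, Subgroup.mem_subgroupOf.2 ?_⟩
      have hxz : cen (n * x * n⁻¹) = cen z := by
        have hzy' : cen z = cen y := cen_eq_of_coprime h.size (h.le hz.1) hz.2.1 hy hyZ hzy
          ((isPel_of_mem R.2 hz.1).coprime hr.out hq hqr.symm hyq)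
        rw [hzy']
        exact cen_eq_of_coprime h.size (h.nrm.conj_mem x hx n) (conj_not_center hxZ n) hy hyZ
          (mem_cen.1 (hzy' ▸ hnx)) ((hxr.conj n).coprime hr.out hq hqr.symm hyq)
      refine ⟨h.nrm.conj_mem _ g.2 n, ?_⟩
      rw [← hxz]
      refine cen_conj.2 ?_
      show n⁻¹ * (n * (g : G) * n⁻¹) * n ∈ cen x
      rw [show n⁻¹ * (n * (g : G) * n⁻¹) * n = (g : G) by group, ← hgx]
      exact mem_cen.2 (Commute.refl _)
    refine h.noZ z hz.1 hz.2.1 fun u hu => ?_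
    exact (Subgroup.subgroupOf_eq_top.1 hcover (h.le hu)).2
  have hle : ∀ z, Good R z → (R : Subgroup G) ⊓ cen z ≤ Subgroup.zpowers z ⊔ Subgroup.center G := by
    intro z hz
    set Z' := (R : Subgroup G) ⊓ Subgroup.center G
    set Y := Subgroup.zpowers z ⊔ Z'
    have hYA : Y ≤ (R : Subgroup G) ⊓ cen z := le_inf (sup_le (Subgroup.zpowers_le.2 hz.1) inf_le_left)
      (sup_le (Subgroup.zpowers_le.2 (mem_cen.2 (Commute.refl z)))
        (inf_le_right.trans (Subgroup.center_le_centralizer _)))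
    have hYle : Y ≤ Subgroup.zpowers z ⊔ Subgroup.center G := sup_le_sup_left inf_le_right _
    suffices hY : k ≤ Nat.card Y from
      (Subgroup.eq_of_le_of_card_ge hYA ((hsmall z hz).trans hY)).symm.le.trans hYle
    obtain ⟨a, ha⟩ := IsPGroup.iff_card.1 (R.2.to_le (hYA.trans inf_le_left))
    obtain ⟨b, hb⟩ := IsPGroup.iff_card.1 (R.2.to_le (inf_le_left : Z' ≤ _))
    have hlt : Nat.card Z' < Nat.card Y := by
      refine lt_of_le_of_ne (Subgroup.card_le_of_le le_sup_right) fun e => hz.2.1 ?_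
      have := Subgroup.eq_of_le_of_card_ge (le_sup_right : Z' ≤ Y) e.ge
      exact (Subgroup.mem_inf.1 (this.symm ▸ Subgroup.mem_sup_left (Subgroup.mem_zpowers z) : z ∈ Z')).2
    rw [hk, hb, ha] at *
    rw [← pow_succ']
    exact Nat.pow_le_pow_right hr.out.pos ((Nat.pow_lt_pow_iff_right hr.out.one_lt).1 hlt)
  refine ⟨fun u hu huZ => ⟨hu, huZ, fun w hw => mem_modCen.1 ?_⟩, hle⟩
  obtain ⟨z, hz⟩ := h.exists_good
  obtain ⟨y, hy, hyZ, hyq, hzy⟩ := h.good_has hz hq hqr hy₀ hy₀Z hy₀q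
  obtain ⟨u₀, hu₀, hu₀z, hu₀'⟩ := exists_step (X := (R : Subgroup G))
    (Y := (R : Subgroup G) ⊓ cen z) R.2 le_rfl
    (fun w hw g hg => mul_mem (mul_mem hw hg) (inv_mem hw))
    (fun w hw g hg => Subgroup.mem_inf.2 ⟨mul_mem (mul_mem hw (Subgroup.mem_inf.1 hg).1) (inv_mem hw),
      hz.conj_cen hw (Subgroup.mem_inf.1 hg).2⟩)
    (fun e => h.noZ z hz.1 hz.2.1 fun g hg => (Subgroup.mem_inf.1 (e hg)).2)
  have hu₀z' : u₀ ∉ cen z := fun e => hu₀z (Subgroup.mem_inf.2 ⟨hu₀, e⟩)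
  have hRH : ∀ H : Subgroup G, Subgroup.center G ≤ H → z ∈ H → u₀ ∈ H → (R : Subgroup G) ≤ H := by
    intro H h1 h2 h3 v hv
    obtain ⟨j, hj⟩ := h.pair hz hq hqr hy hyZ hyq hzy hv hu₀ hu₀z'
      (Subgroup.mem_inf.1 (hu₀' v hv)).2
    have h4 : v * u₀ ^ j ∈ H := (sup_le (Subgroup.zpowers_le.2 h2) h1)
      (hle z hz ⟨mul_mem hv (pow_mem hu₀ j), hj⟩)
    exact (Subgroup.mul_mem_cancel_right _ (pow_mem h3 j)).1 h4
  have hzmem : ∀ v ∈ (R : Subgroup G), z ∈ modCen v := fun v hv =>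
    mem_modCen_symm.1 (mem_modCen.2 (hz.2.2 v hv))
  have hu₀mem : ∀ v ∈ (R : Subgroup G), u₀ ∈ modCen v := fun v hv => mem_modCen_symm.1
    (hRH (modCen u₀) (center_le_modCen _) (hzmem u₀ hu₀)
      (mem_modCen.2 (by simp)) hv)
  exact hRH (modCen u) (center_le_modCen _) (hzmem u hu) (hu₀mem u hu) hw

/-- the main case is impossible -/
theorem Hyp.false_of_mixed (h : Hyp r N R) {q : ℕ} (hq : q.Prime) (hqr : q ≠ r) {y₀ : G}
    (hy₀ : y₀ ∈ N) (hy₀Z : y₀ ∉ Subgroup.center G) (hy₀q : IsPel q y₀) : False := by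
  classical
  haveI := Fact.mk hq
  haveI := h.nrm
  obtain ⟨hgood, hle⟩ := h.all_good hq hqr hy₀ hy₀Z hy₀q
  set π := QuotientGroup.mk' (Subgroup.center G) with hπ
  have hπ1 : ∀ g : G, π g = 1 ↔ g ∈ Subgroup.center G := fun g => QuotientGroup.eq_one_iff g
  -- the `r`-part of a centraliser
  have hrpart : ∀ x ∈ N, x ∉ Subgroup.center G → IsPel r x → ∀ t ∈ N, IsPel r t → Commute t x →
      x ^ r ∈ Subgroup.center G ∧ ∃ i : ℕ, π t = π x ^ i := by
    intro x hx hxZ hxr t ht htr htx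
    obtain ⟨n, hn, hxR, hF⟩ := h.position hxr
    set x' := n * x * n⁻¹ with hx'
    have hx'Z : x' ∉ Subgroup.center G := conj_not_center hxZ n
    have hgx := hgood x' hxR hx'Z
    obtain ⟨y, hy, hyZ, hyq, hxy⟩ := h.good_has hgx hq hqr hy₀ hy₀Z hy₀q
    have hxr' : x' ^ r ∈ Subgroup.center G := by
      obtain ⟨u, hu, hux⟩ := SetLike.not_le_iff_exists.1 (h.noZ x' hxR hx'Z)
      exact pow_mem_center h.size hr.out (h.le hxR) (isPel_of_mem R.2 hxR)
        (mem_modCen.1 (mem_modCen_symm.1 (mem_modCen.2 (hgx.2.2 u hu))))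
        (fun e => hux (mem_cen.2 e.symm))
    refine ⟨?_, ?_⟩
    · rw [hx', conj_pow] at hxr'
      by_contra hne
      exact conj_not_center hne n hxr'
    set t' := n * t * n⁻¹ with ht'
    have ht'x : t' ∈ cen x' := mem_cen.2 (htx.map (MulAut.conj n))
    have ht'N : t' ∈ N := h.nrm.conj_mem t ht n
    set T := (R : Subgroup G) ⊓ cen x'
    have hTn : T ≤ Subgroup.normalizer (Subgroup.zpowers t' : Set G) := fun s hs => by
      refine Subgroup.mem_normalizer_fintype fun v hv => ?_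
      obtain ⟨i, rfl⟩ := Subgroup.mem_zpowers_iff.1 hv
      have hst : Commute s t' := comm_of_mixed h.size hr.out hq hqr.symm (h.le hxR) hx'Z
        (isPel_of_mem R.2 hxR) hy hyZ hyq hxy ⟨h.le hs.1, hs.2⟩ ⟨ht'N, ht'x⟩
      rw [(hst.zpow_right i).eq, mul_inv_cancel_right]
      exact hv
    have hS : IsPGroup r ↥(Subgroup.zpowers t' ⊔ T) :=
      (htr.conj n).isPGroup_zpowers.to_sup_of_normal_left' (R.2.to_le inf_le_left) hTn
    have hc := card_le_of_le hr.out hS (sup_le (Subgroup.zpowers_le.2 ht'x) inf_le_right)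
    rw [← hF] at hc
    have ht'T : t' ∈ T := by
      rw [Subgroup.eq_of_le_of_card_ge (le_sup_right : T ≤ Subgroup.zpowers t' ⊔ T) hc]
      exact Subgroup.mem_sup_left (Subgroup.mem_zpowers t')
    obtain ⟨a, ha, b, hb, hab⟩ := Subgroup.mem_sup_of_normal_right.1 (hle x' hgx ht'T)
    obtain ⟨i, rfl⟩ := Subgroup.mem_zpowers_iff.1 ha
    have hord : IsOfFinOrder x' := isOfFinOrder_of_finite x'
    obtain ⟨i', hi'⟩ : ∃ i' : ℕ, x' ^ i' = x' ^ i :=
      mem_powers_iff_mem_zpowers.2 (zpow_mem (Subgroup.mem_zpowers x') i)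
    refine ⟨i', ?_⟩
    have h1 : π t' = π x' ^ i' := by
      rw [← hab, map_mul, (hπ1 b).2 hb, mul_one, ← hi', map_pow]
    rw [ht', hx', map_mul, map_mul, map_mul, map_mul, map_inv, conj_pow] at h1
    exact mul_left_cancel (mul_right_cancel h1)
  -- every non-central element commutes with a non-central `q`-element
  have hhas : ∀ g ∈ N, g ∉ Subgroup.center G →
      ∃ y ∈ N, y ∉ Subgroup.center G ∧ IsPel q y ∧ cen g = cen y := by
    intro g hg hgZ
    obtain ⟨x, hx, hxZ, hxr, e⟩ := h.cen_eq_r hg hgZ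
    obtain ⟨n, hn, hxR, -⟩ := h.position hxr
    obtain ⟨y, hy, hyZ, hyq, hxy⟩ := h.good_has (hgood _ hxR (conj_not_center hxZ n)) hq hqr hy₀ hy₀Z hy₀q
    refine ⟨n⁻¹ * y * n⁻¹⁻¹, h.nrm.conj_mem y hy _, conj_not_center hyZ _, hyq.conj _, ?_⟩
    rw [e]
    have hc := hxy.map (MulAut.conj n⁻¹)
    simp only [MulAut.conj_apply] at hc
    rw [show n⁻¹ * (n * x * n⁻¹) * n⁻¹⁻¹ = x by group] at hc
    exact cen_eq_of_coprime h.size hx hxZ (h.nrm.conj_mem y hy _) (conj_not_center hyZ _) hc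
      (hxr.coprime hr.out hq hqr.symm (hyq.conj _))
  -- a Sylow `q`-subgroup of `N`
  obtain ⟨Q₀⟩ : Nonempty (Sylow q N) := inferInstance
  set Q := (Q₀ : Subgroup N).map N.subtype with hQ
  have hQq : IsPGroup q Q := Q₀.2.map _
  have hQN : Q ≤ N := Subgroup.map_subtype_le _
  have hconjQ : ∀ X : Subgroup G, IsPGroup q X → X ≤ N →
      ∃ n ∈ N, ∀ g ∈ X, n * g * n⁻¹ ∈ Q := by
    intro X hX hXN
    have hX' : IsPGroup q (X.subgroupOf N) := hX.comap_subtype
    obtain ⟨Q₁, hQ₁⟩ := hX'.exists_le_sylow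
    obtain ⟨n, hn⟩ := MulAction.exists_smul_eq N Q₁ Q₀
    refine ⟨n, n.2, fun g hg => ⟨MulAut.conj n • (⟨g, hXN hg⟩ : N), ?_, rfl⟩⟩
    rw [← hn, Sylow.coe_subgroup_smul]
    exact Subgroup.smul_mem_pointwise_smul _ _ _ (hQ₁ hg)
  have hQZ : ¬ Q ≤ Subgroup.center G := by
    intro hle
    obtain ⟨n, hn, hmem⟩ := hconjQ _ hy₀q.isPGroup_zpowers (Subgroup.zpowers_le.2 hy₀)
    exact conj_not_center hy₀Z n (hle (hmem _ (Subgroup.mem_zpowers y₀)))
  obtain ⟨v, hv, hvZ, hv'⟩ := exists_step (X := Q) (Y := Subgroup.center G) hQq le_rfl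
    (fun w hw g hg => mul_mem (mul_mem hw hg) (inv_mem hw))
    (fun w _ g hg => (inferInstance : (Subgroup.center G).Normal).conj_mem g hg w) hQZ
  have hvq : IsPel q v := isPel_of_mem hQq hv
  have hvN : v ∈ N := hQN hv
  obtain ⟨x, hx, hxZ, hxr, hxv⟩ := h.exists_r hvN hvZ
  have hxvC : cen x = cen v :=
    cen_eq_of_coprime h.size hx hxZ hvN hvZ hxv (hxr.coprime hr.out hq hqr.symm hvq)
  -- some `q`-element is not conjugate into the centraliser of `v`
  obtain ⟨w₀, hw₀, hw₀Z, hw₀q, hw₀v⟩ : ∃ w₀ ∈ N, w₀ ∉ Subgroup.center G ∧ IsPel q w₀ ∧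
      ∀ n ∈ N, n * w₀ * n⁻¹ ∉ cen v := by
    by_contra hno
    push Not at hno
    have hcover : (cen v).subgroupOf N = ⊤ := by
      refine H75.eq_top_of_conj_cover _ fun g => ?_
      by_cases hgZ : (g : G) ∈ Subgroup.center G
      · exact ⟨1, by
          rw [one_mul, inv_one, mul_one, Subgroup.mem_subgroupOf]
          exact mem_cen.2 (Subgroup.mem_center_iff.1 hgZ v).symm⟩
      obtain ⟨y, hy, hyZ, hyq, e⟩ := hhas g g.2 hgZ
      obtain ⟨n, hn, hny⟩ := hno y hy hyZ hyq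
      refine ⟨⟨n, hn⟩, Subgroup.mem_subgroupOf.2 ?_⟩
      have hnyv : cen (n * y * n⁻¹) = cen v := by
        rw [← hxvC] at hny ⊢
        exact (cen_eq_of_coprime h.size hx hxZ (h.nrm.conj_mem y hy n) (conj_not_center hyZ n)
          (mem_cen.1 hny).symm (hxr.coprime hr.out hq hqr.symm (hyq.conj n))).symm
      rw [← hnyv]
      refine cen_conj.2 ?_
      show n⁻¹ * (n * (g : G) * n⁻¹) * n ∈ cen y
      rw [show n⁻¹ * (n * (g : G) * n⁻¹) * n = (g : G) by group, ← e]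
      exact mem_cen.2 (Commute.refl _)
    exact h.not_central hxr hxZ (hxvC ▸ Subgroup.subgroupOf_eq_top.1 hcover)
  obtain ⟨x₀, hx₀, hx₀Z, hx₀r, hx₀w⟩ := h.exists_r hw₀ hw₀Z
  have hcomm : ∀ a ∈ N ⊓ cen w₀, ∀ b ∈ N ⊓ cen w₀, Commute a b := fun a ha b hb =>
    comm_of_mixed h.size hq hr.out hqr hw₀ hw₀Z hw₀q hx₀ hx₀Z hx₀r hx₀w.symm ha hb
  let W : Subgroup G :=
    { carrier := {g | g ∈ N ⊓ cen w₀ ∧ IsPel q g}
      one_mem' := ⟨one_mem _, IsPel.one⟩
      mul_mem' := fun {a b} ha hb => ⟨mul_mem ha.1 hb.1, ha.2.mul hb.2 (hcomm a ha.1 b hb.1)⟩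
      inv_mem' := fun {a} ha => ⟨inv_mem ha.1, ha.2.inv⟩ }
  have hWq : IsPGroup q W := fun ⟨g, hg⟩ => by
    obtain ⟨e, he⟩ := hg.2
    exact ⟨e, Subtype.ext (by simpa using he)⟩
  obtain ⟨n, hn, hnW⟩ := hconjQ W hWq fun g hg => hg.1.1
  set w := n * w₀ * n⁻¹ with hw
  have hwQ : w ∈ Q := hnW w₀ ⟨⟨hw₀, mem_cen.2 (Commute.refl _)⟩, hw₀q⟩
  have hwN : w ∈ N := hQN hwQ
  have hwZ : w ∉ Subgroup.center G := conj_not_center hw₀Z n
  have hwq : IsPel q w := hw₀q.conj n
  have hwv : w ∉ cen v := hw₀v n hn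
  have hWmem : ∀ b ∈ N, IsPel q b → b ∈ cen w → b ∈ Q := by
    intro b hb hbq hbw
    have h1 := hnW (n⁻¹ * b * n⁻¹⁻¹) ⟨⟨h.nrm.conj_mem b hb _, by
      rw [inv_inv]; exact cen_conj.1 hbw⟩, hbq.conj _⟩
    rwa [show n * (n⁻¹ * b * n⁻¹⁻¹) * n⁻¹ = b by group] at h1
  have hnorm : ∀ b ∈ Q, b ∈ modCen v := fun b hb => mem_modCen.2 (hv' b hb)
  have hxr0 := (hrpart x hx hxZ hxr x hx hxr (Commute.refl x)).1
  have hπx : orderOf (π x) = r :=
    orderOf_eq_prime (by rw [← map_pow]; exact (hπ1 _).2 hxr0) fun e => hxZ ((hπ1 x).1 e)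
  -- elements of `Q` act on the `r`-part of the centraliser of `v`
  have hact : ∀ b ∈ Q, b ∉ cen v → ∃ i : ℕ, π b * π x * (π b)⁻¹ = π x ^ i ∧
      π b * π x * (π b)⁻¹ ≠ π x ∧ π b ^ q = 1 := by
    intro b hb hbv
    have h1 : b * x * b⁻¹ ∈ cen v :=
      cen_conj_mem (hnorm b hb) (mem_cen.2 hxv)
    rw [← hxvC] at h1
    obtain ⟨-, i, hi⟩ := hrpart x hx hxZ hxr _ (h.nrm.conj_mem x hx b) (hxr.conj b) (mem_cen.1 h1)
    refine ⟨i, by rw [← hi, map_mul, map_mul, map_inv], fun e => hbv ?_, ?_⟩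
    · rw [← hxvC]
      refine mem_cen.2 (commute_of_modCen hq hr.out hqr (isPel_of_mem hQq hb) hxr (mem_modCen.2 ?_))
      rw [← hπ1, map_mul, map_mul, map_mul, map_inv, map_inv, e, mul_inv_cancel]
    · rw [← map_pow, hπ1]
      exact pow_mem_center h.size hq (hQN hb) (isPel_of_mem hQq hb) (hv' b hb)
        (fun e => hbv (mem_cen.2 e))
  obtain ⟨i, hi, hine, hwq1⟩ := hact w hwQ hwv
  obtain ⟨hiq, hio, hdvd1⟩ := pow_action hwq1 hπx hi hine
  -- the `q`-part of the centraliser of `w`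
  have hqpart : ∀ b ∈ N, IsPel q b → b ∈ cen w → ∃ k : ℕ, π b = π w ^ k := by
    intro b hb hbq hbw
    by_cases hbZ : b ∈ Subgroup.center G
    · exact ⟨0, by rw [pow_zero, hπ1]; exact hbZ⟩
    obtain ⟨x₁, hx₁, hx₁Z, hx₁r, hx₁w⟩ := h.exists_r hwN hwZ
    have hwx₁ : cen x₁ = cen w := cen_eq_of_coprime h.size hx₁ hx₁Z hwN hwZ hx₁w
      (hx₁r.coprime hr.out hq hqr.symm hwq)
    have hcomb : ∀ g ∈ N, g ∉ Subgroup.center G → IsPel q g → g ∈ cen w → g ∈ cen v → False := by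
      intro g hg hgZ hgq hgw hgv
      apply hwv
      rw [← hxvC] at hgv ⊢
      rw [cen_eq_of_coprime h.size hx hxZ hg hgZ (mem_cen.1 hgv).symm
        (hxr.coprime hr.out hq hqr.symm hgq),
        ← cen_eq_of_coprime h.size hx₁ hx₁Z hg hgZ (mem_cen.1 (hwx₁ ▸ hgw)).symm
        (hx₁r.coprime hr.out hq hqr.symm hgq), hwx₁]
      exact mem_cen.2 (Commute.refl w)
    obtain ⟨i', hi', hine', hbq1⟩ := hact b (hWmem b hb hbq hbw) (hcomb b hb hbZ hbq hbw)
    obtain ⟨hiq', -, -⟩ := pow_action hbq1 hπx hi' hine'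
    have hprim : IsPrimitiveRoot (i : ZMod r) q := IsPrimitiveRoot.iff_orderOf.2 hio
    haveI : NeZero q := ⟨hq.ne_zero⟩
    obtain ⟨k, -, hk⟩ := hprim.eq_pow_of_pow_eq_one hiq'
    refine ⟨k, ?_⟩
    -- `π b` and `π w ^ k` act in the same way
    have hwk : π w ^ k * π x * (π w ^ k)⁻¹ = π x ^ i ^ k := by
      clear hk
      induction k with
      | zero => simp
      | succ k ih =>
        rw [pow_succ', mul_inv_rev, show π w * π w ^ k * π x * ((π w ^ k)⁻¹ * (π w)⁻¹) =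
          π w * (π w ^ k * π x * (π w ^ k)⁻¹) * (π w)⁻¹ by group, ih, ← conj_pow, hi, ← pow_mul,
          ← pow_succ']
    have hsame : π b * π x * (π b)⁻¹ = π w ^ k * π x * (π w ^ k)⁻¹ := by
      rw [hi', hwk, pow_eq_pow_iff_modEq, hπx, ← ZMod.natCast_eq_natCast_iff, Nat.cast_pow, hk]
    set g := (w ^ k)⁻¹ * b with hg
    have hgN : g ∈ N := mul_mem (inv_mem (pow_mem hwN k)) hb
    have hwb : Commute b w := mem_cen.1 hbw
    have hgq : IsPel q g := (hwq.pow k).inv.mul hbq ((hwb.symm.pow_left k).inv_left)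
    have hgx : g ∈ modCen x := by
      rw [mem_modCen, ← hπ1, hg]
      simp only [map_mul, map_inv, map_pow, mul_inv_rev, inv_inv]
      rw [show (π w ^ k)⁻¹ * π b * π x * ((π b)⁻¹ * π w ^ k) * (π x)⁻¹ =
        (π w ^ k)⁻¹ * (π b * π x * (π b)⁻¹) * π w ^ k * (π x)⁻¹ by group, hsame]
      group
    have hgZ : g ∈ Subgroup.center G := by
      by_contra hgZ
      refine hcomb g hgN hgZ hgq ?_ ?_
      · exact mem_cen.2 (((Commute.refl w).pow_left k).inv_left.mul_left hwb)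
      · rw [← hxvC]
        exact mem_cen.2 (commute_of_modCen hq hr.out hqr hgq hxr hgx)
    have h3 := (hπ1 g).2 hgZ
    rw [hg, map_mul, map_inv, map_pow, inv_mul_eq_one] at h3
    exact h3.symm
  -- an element of order `r` modulo the centre acting on that part
  obtain ⟨x₁, hx₁, hx₁Z, hx₁r, hx₁w⟩ := h.exists_r hwN hwZ
  obtain ⟨m, hm, hx₁R, -⟩ := h.position hx₁r
  set x₁' := m * x₁ * m⁻¹ with hx₁'
  have hx₁'Z : x₁' ∉ Subgroup.center G := conj_not_center hx₁Z m
  obtain ⟨u, hu, hux⟩ := SetLike.not_le_iff_exists.1 (h.noZ x₁' hx₁R hx₁'Z)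
  have hgx₁ := hgood x₁' hx₁R hx₁'Z
  set w₁ := m * w * m⁻¹ with hw₁
  have hcw : cen x₁' = cen w₁ := cen_eq_of_coprime h.size (h.le hx₁R) hx₁'Z (h.nrm.conj_mem w hwN m)
    (conj_not_center hwZ m) (hx₁w.map (MulAut.conj m))
    ((hx₁r.conj m).coprime hr.out hq hqr.symm (hwq.conj m))
  have h1 : u * w₁ * u⁻¹ ∈ cen w₁ := by
    rw [← hcw]
    exact hgx₁.conj_cen hu (hcw.symm ▸ mem_cen.2 (Commute.refl w₁))
  obtain ⟨k, hk⟩ := hqpart (m⁻¹ * (u * w₁ * u⁻¹) * m⁻¹⁻¹)
    (h.nrm.conj_mem _ (h.nrm.conj_mem _ (h.nrm.conj_mem w hwN m) u) _)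
    (((hwq.conj m).conj u).conj _) (by rw [inv_inv]; exact cen_conj.1 h1)
  have hk' : π u * π w₁ * (π u)⁻¹ = π w₁ ^ k := by
    rw [hw₁] at hk ⊢
    simp only [map_mul, map_inv, inv_inv] at hk ⊢
    rw [conj_pow, ← hk]
    group
  have hπw₁ : orderOf (π w₁) = q := by
    refine orderOf_eq_prime ?_ fun e => conj_not_center hwZ m ((hπ1 _).1 e)
    rw [hw₁, map_mul, map_mul, map_inv, conj_pow, hwq1, mul_one, mul_inv_cancel]
  have huq : π u ^ r = 1 := by
    rw [← map_pow, hπ1]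
    exact pow_mem_center h.size hr.out (h.le hu) (isPel_of_mem R.2 hu) (hgx₁.2.2 u hu)
      (fun e => hux (mem_cen.2 e))
  have hne : π u * π w₁ * (π u)⁻¹ ≠ π w₁ := by
    intro e
    apply hux
    rw [hcw]
    refine mem_cen.2 (commute_of_modCen hr.out hq hqr.symm (isPel_of_mem R.2 hu) (hwq.conj m)
      (mem_modCen.2 ?_))
    rw [← hπ1, map_mul, map_mul, map_mul, map_inv, map_inv, e, mul_inv_cancel]
  obtain ⟨-, -, hdvd2⟩ := pow_action huq hπw₁ hk' hne
  have h4 := hq.two_le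
  have h5 := hr.out.two_le
  have h6 := Nat.le_of_dvd (by omega) hdvd1
  have h7 := Nat.le_of_dvd (by omega) hdvd2
  omega

/-- the theorem -/
theorem isNilpotent_of_oneSize (R : Sylow r G) (hR : ¬ (R : Subgroup G) ≤ Subgroup.center G)
    (N : Subgroup G) (hN : N.Normal) (hRN : (R : Subgroup G) ≤ N) (hsize : OneSizeOn N) :
    Group.IsNilpotent N := by
  classical
  haveI := hN
  by_cases hz : ∃ x ∈ (R : Subgroup G), x ∉ Subgroup.center G ∧ (R : Subgroup G) ≤ cen x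
  · obtain ⟨x₀, hx₀R, hx₀Z, hx₀⟩ := hz
    -- every element centralises a conjugate of `R`
    have hcover : (Subgroup.centralizer ((R : Subgroup G) : Set G)).subgroupOf N = ⊤ := by
      refine H75.eq_top_of_conj_cover _ fun g => ?_
      by_cases hgZ : (g : G) ∈ Subgroup.center G
      · exact ⟨1, by
          rw [one_mul, inv_one, mul_one, Subgroup.mem_subgroupOf]
          exact Subgroup.center_le_centralizer _ hgZ⟩
      obtain ⟨T⟩ : Nonempty (Sylow r (cen (g : G))) := inferInstance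
      set T' := (T : Subgroup (cen (g : G))).map (cen (g : G)).subtype
      obtain ⟨R', hR'⟩ := (T.2.map (cen (g : G)).subtype).exists_le_sylow
      have hcard : Nat.card (R' : Subgroup G) ≤ Nat.card T' := by
        rw [Subgroup.card_map_of_injective (Subgroup.subtype_injective _), T.card_eq_multiplicity,
          hsize g g.2 hgZ x₀ (hRN hx₀R) hx₀Z, R'.card_eq_multiplicity, ← R.card_eq_multiplicity]
        exact card_le_of_le hr.out R.2 hx₀
      have hR'C : (R' : Subgroup G) ≤ cen (g : G) :=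
        (Subgroup.eq_of_le_of_card_ge hR' hcard).symm.le.trans (Subgroup.map_subtype_le _)
      obtain ⟨a, ha⟩ := MulAction.exists_smul_eq G R R'
      have hR'N : (R' : Subgroup G) ≤ N := by
        intro v hv
        rw [← ha, Sylow.coe_subgroup_smul] at hv
        obtain ⟨v', hv', rfl⟩ := hv
        exact hN.conj_mem v' (hRN hv') a
      obtain ⟨m, hm⟩ := MulAction.exists_smul_eq N (R'.subtype hR'N) (R.subtype hRN)
      refine ⟨m, Subgroup.mem_subgroupOf.2 (Subgroup.mem_centralizer_iff.2 fun v hv => ?_)⟩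
      have hv' : (m : G)⁻¹ * v * (m : G) ∈ (R' : Subgroup G) := by
        have h1 : (⟨v, hRN hv⟩ : N) ∈ ((R.subtype hRN : Sylow r N) : Subgroup N) := hv
        rw [← hm, Sylow.coe_subgroup_smul, Subgroup.mem_pointwise_smul_iff_inv_smul_mem] at h1
        simpa [MulAut.smul_def, MulAut.conj_symm_apply, Subgroup.mem_subgroupOf] using h1
      have := (mem_cen.1 (hR'C hv')).map (MulAut.conj (m : G))
      simp only [MulAut.conj_apply] at this
      rw [show (m : G) * ((m : G)⁻¹ * v * (m : G)) * (m : G)⁻¹ = v by group] at this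
      exact this.eq
    have hNR : ∀ g ∈ N, ∀ v ∈ (R : Subgroup G), Commute g v := fun g hg v hv =>
      (Subgroup.mem_centralizer_iff.1 (Subgroup.subgroupOf_eq_top.1 hcover hg) v hv).symm
    by_cases hmix : ∃ q y, Nat.Prime q ∧ q ≠ r ∧ y ∈ N ∧ y ∉ Subgroup.center G ∧ IsPel q y
    · obtain ⟨q, y, hq, hqr, hy, hyZ, hyq⟩ := hmix
      letI : CommGroup N :=
        { (inferInstance : Group N) with
          mul_comm := fun a b => Subtype.ext (comm_of_mixed hsize hr.out hq hqr.symm (hRN hx₀R) hx₀Z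
            (isPel_of_mem R.2 hx₀R) hy hyZ hyq (hNR y hy x₀ hx₀R).symm
            ⟨a.2, mem_cen.2 (hNR a a.2 x₀ hx₀R)⟩ ⟨b.2, mem_cen.2 (hNR b b.2 x₀ hx₀R)⟩).eq }
      exact CommGroup.isNilpotent
    · have hcen : ∀ g : N, g ∈ Subgroup.center N := by
        intro g
        rw [Subgroup.mem_center_iff]
        intro b
        refine Subtype.ext (Commute.eq (mem_cen.1 ?_)).symm
        refine mem_of_parts (cen (b : G)) g fun v hv s hs hvs => ?_
        have hvN : v ∈ N := (Subgroup.zpowers_le.2 g.2) hv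
        by_cases hvZ : v ∈ Subgroup.center G
        · exact mem_cen.2 (Subgroup.mem_center_iff.1 hvZ b).symm
        have hsr : s = r := by_contra fun hne => hmix ⟨s, v, hs, hne, hvN, hvZ, hvs⟩
        subst hsr
        obtain ⟨R', hR'⟩ := hvs.isPGroup_zpowers.exists_le_sylow
        obtain ⟨a, ha⟩ := MulAction.exists_smul_eq G R R'
        have h1 := hR' (Subgroup.mem_zpowers v)
        rw [← ha, Sylow.coe_subgroup_smul] at h1
        obtain ⟨v', hv', e⟩ := h1
        refine mem_cen.2 ?_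
        have h2 := (hNR (a⁻¹ * b * a⁻¹⁻¹) (hN.conj_mem b b.2 _) v' hv').map (MulAut.conj a)
        simp only [MulAut.conj_apply] at h2
        rw [show a * (a⁻¹ * (b : G) * a⁻¹⁻¹) * a⁻¹ = b by group] at h2
        rw [← e]
        exact h2.symm
      letI : CommGroup N :=
        { (inferInstance : Group N) with
          mul_comm := fun a b => (Subgroup.mem_center_iff.1 (hcen b) a) }
      exact CommGroup.isNilpotent
  push Not at hz
  have h : Hyp r N R := ⟨hN, hsize, hRN, hR, hz⟩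
  by_cases hmix : ∃ q y, Nat.Prime q ∧ q ≠ r ∧ y ∈ N ∧ y ∉ Subgroup.center G ∧ IsPel q y
  · obtain ⟨q, y, hq, hqr, hy, hyZ, hyq⟩ := hmix
    exact (h.false_of_mixed hq hqr hy hyZ hyq).elim
  have hp : IsPGroup r (N ⧸ Subgroup.center N) := by
    refine IsPGroup.of_card (n := (Nat.card (N ⧸ Subgroup.center N)).primeFactorsList.length)
      (Nat.eq_prime_pow_of_unique_prime_dvd Nat.card_pos.ne' fun {s} hs hsd => ?_)
    by_contra hne
    haveI := Fact.mk hs
    obtain ⟨S⟩ : Nonempty (Sylow s N) := inferInstance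
    refine S.not_dvd_index (hsd.trans (Subgroup.index_dvd_of_le fun v hv => ?_))
    have hvs : IsPel s (v : G) := by
      obtain ⟨e, he⟩ := isPel_of_mem S.2 hv
      exact ⟨e, by simpa using congrArg Subtype.val he⟩
    have hvZ : (v : G) ∈ Subgroup.center G := by_contra fun hvZ => hmix ⟨s, v, hs, hne, v.2, hvZ, hvs⟩
    exact Subgroup.mem_center_iff.2 fun b => Subtype.ext (Subgroup.mem_center_iff.1 hvZ b)
  haveI : Group.IsNilpotent (N ⧸ Subgroup.center N) := hp.isNilpotent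
  exact Subgroup.isNilpotent_of_ker_le_center (QuotientGroup.mk' (Subgroup.center N))
    (QuotientGroup.ker_mk' _).le

end Cfsg.Agent.H34.OneSize
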