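import Cfsg.Agent.H34.OneSizeBasic
import Cfsg.Agent.S0065

/-!
A normal subgroup whose non-central elements have one class size in the whole group, part 2:
every element central modulo the centre in a Sylow subgroup has a mixed centraliser.
-/

set_option autoImplicit false
set_option linter.style.haveILetI false

namespace Cfsg.Agent.H34.OneSize

open Subgroup
open scoped Pointwise

variable {G : Type*} [Group G]

/-- norms over all the lines -/
theorem no_pair {A : Type*} [CommGroup A] [Finite A] {p q : ℕ} [hp : Fact p.Prime] (hq : q.Prime)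
    (hpq : p ≠ q) (Z₀ : Subgroup A) (a b : MulAut A) (hab : Commute a b) (ha : a ^ p = 1)
    (hb : b ^ p = 1) (hfb : ∀ w : A, IsPel q w → b w = w → w ∈ Z₀)
    (hfab : ∀ (j : ℕ) (w : A), IsPel q w → (a * b ^ j) w = w → w ∈ Z₀) {v : A}
    (hv : IsPel q v) : v ∈ Z₀ := by
  classical
  -- a norm is fixed
  have hN : ∀ (g : MulAut A) (x : A), g ^ p = 1 →
      g (∏ i ∈ Finset.range p, (g ^ i) x) = ∏ i ∈ Finset.range p, (g ^ i) x := by
    intro g x hg
    rw [map_prod]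
    have h1 : ∀ i ∈ Finset.range p, g ((g ^ i) x) = (g ^ (i + 1)) x := fun i _ => by
      rw [pow_succ', MulAut.mul_apply]
    rw [Finset.prod_congr rfl h1]
    have h2 := Finset.prod_range_succ' (fun i => (g ^ i) x) p
    rw [Finset.prod_range_succ, hg, pow_zero] at h2
    exact (mul_right_cancel h2).symm
  have hpel : ∀ (g : MulAut A) (x : A), IsPel q x → IsPel q (g x) := fun g x ⟨k, hk⟩ =>
    ⟨k, by rw [← map_pow, hk, map_one]⟩
  have hprod : ∀ F : ℕ → A, (∀ i, IsPel q (F i)) → IsPel q (∏ i ∈ Finset.range p, F i) :=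
    fun F hF => Finset.prod_induction _ (IsPel q) (fun _ _ h1 h2 => h1.mul h2 (Commute.all _ _))
      IsPel.one fun i _ => hF i
  have hNb : ∀ x : A, IsPel q x → ∏ i ∈ Finset.range p, (b ^ i) x ∈ Z₀ := fun x hx =>
    hfb _ (hprod _ fun i => hpel _ _ hx) (hN b x hb)
  have hab' : ∀ j, (a * b ^ j) ^ p = 1 := fun j => by
    rw [(hab.pow_right j).mul_pow, ha, one_mul, ← pow_mul, mul_comm, pow_mul, hb, one_pow]
  have hNa : ∀ j, ∏ i ∈ Finset.range p, ((a * b ^ j) ^ i) v ∈ Z₀ := fun j =>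
    hfab j _ (hprod _ fun i => hpel _ _ hv) (hN _ v (hab' j))
  have htot : (∏ i ∈ Finset.range p, ∏ j ∈ Finset.range p, ((a * b ^ j) ^ i) v) ∈ Z₀ := by
    rw [Finset.prod_comm]
    exact Subgroup.prod_mem _ fun j _ => hNa j
  have hterm : ∀ i ∈ (Finset.range p).erase 0,
      (∏ j ∈ Finset.range p, ((a * b ^ j) ^ i) v) ∈ Z₀ := by
    intro i hi
    obtain ⟨hi0, hip⟩ := Finset.mem_erase.1 hi
    have hco : Nat.Coprime i p := ((hp.out.coprime_iff_not_dvd).2
      (Nat.not_dvd_of_pos_of_lt (Nat.pos_of_ne_zero hi0) (Finset.mem_range.1 hip))).symm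
    have hexp : ∀ j, ((a * b ^ j) ^ i) v = (b ^ (i * j % p)) ((a ^ i) v) := by
      intro j
      have hmod : b ^ (i * j % p) = b ^ (i * j) := by
        conv_rhs => rw [← Nat.mod_add_div (i * j) p, pow_add, pow_mul, hb, one_pow, mul_one]
      rw [(hab.pow_right j).mul_pow, ((hab.pow_right j).pow_pow i i).eq, MulAut.mul_apply,
        hmod, ← pow_mul, mul_comm j i]
    have hre : (∏ j ∈ Finset.range p, (b ^ (i * j % p)) ((a ^ i) v)) =
        ∏ j ∈ Finset.range p, (b ^ j) ((a ^ i) v) := by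
      have hinj : Set.InjOn (fun j => i * j % p) (Finset.range p : Set ℕ) := by
        intro j hj k hk e
        simp only [Finset.coe_range, Set.mem_Iio] at hj hk
        have h1 : j ≡ k [MOD p] := Nat.ModEq.cancel_left_of_coprime (by rw [Nat.gcd_comm]; exact hco) e
        rwa [Nat.ModEq, Nat.mod_eq_of_lt hj, Nat.mod_eq_of_lt hk] at h1
      have himg : (Finset.range p).image (fun j => i * j % p) = Finset.range p := by
        refine Finset.eq_of_subset_of_card_le (fun j hj => ?_) ?_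
        · obtain ⟨k, -, rfl⟩ := Finset.mem_image.1 hj
          exact Finset.mem_range.2 (Nat.mod_lt _ hp.out.pos)
        · rw [Finset.card_image_of_injOn hinj]
      conv_rhs => rw [← himg]
      rw [Finset.prod_image hinj]
    rw [Finset.prod_congr rfl fun j _ => hexp j, hre]
    exact hNb _ (hpel _ _ hv)
  have h0 : (0 : ℕ) ∈ Finset.range p := Finset.mem_range.2 hp.out.pos
  rw [← Finset.mul_prod_erase _ _ h0] at htot
  have h1 := (Z₀.mul_mem_cancel_right (Subgroup.prod_mem _ hterm)).1 htot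
  simp only [pow_zero, MulAut.one_apply, Finset.prod_const, Finset.card_range] at h1
  obtain ⟨k, hk⟩ := hv
  obtain ⟨i, hi⟩ := exists_pow_eq_self_of_coprime (x := v) (n := p)
    (Nat.Coprime.coprime_dvd_right (orderOf_dvd_of_pow_eq_one hk)
      (((Nat.coprime_primes hp.out hq).2 hpq).pow_right k))
  rw [← hi]
  exact pow_mem h1 i

variable [Finite G]

/-- two commuting operators of order `p` without fixed points are dependent -/
theorem exists_mul_pow_mem {N : Subgroup G} (h : OneSizeOn N) {p q : ℕ} [hp : Fact p.Prime]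
    (hq : q.Prime) (hpq : p ≠ q) {x y : G} (hx : x ∈ N) (hxZ : x ∉ Subgroup.center G)
    (hxp : IsPel p x) (hy : y ∈ N) (hyZ : y ∉ Subgroup.center G) (hyq : IsPel q y)
    (hxy : Commute x y) {u w : G} (huN : u ∈ N) (hwN : w ∈ N)
    (hun : ∀ g ∈ N ⊓ cen x, u * g * u⁻¹ ∈ N ⊓ cen x)
    (hwn : ∀ g ∈ N ⊓ cen x, w * g * w⁻¹ ∈ N ⊓ cen x)
    (hup : u ^ p ∈ Subgroup.center G) (hwp : w ^ p ∈ Subgroup.center G)
    (huw : u * w * u⁻¹ * w⁻¹ ∈ N ⊓ cen x) (hw : w ∉ cen x) :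
    ∃ j : ℕ, u * w ^ j ∈ cen x := by
  classical
  by_contra hno
  push Not at hno
  set A := N ⊓ cen x with hA
  letI : CommGroup A :=
    { (inferInstance : Group A) with
      mul_comm := fun a b => Subtype.ext (comm_of_mixed h hp.out hq hpq hx hxZ hxp hy hyZ hyq hxy a.2 b.2).eq }
  have hnorm : ∀ u : G, (∀ g ∈ A, u * g * u⁻¹ ∈ A) → u ∈ Subgroup.normalizer (A : Set G) :=
    fun u hu => Subgroup.mem_normalizer_fintype hu
  let φ := Subgroup.normalizerMonoidHom A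
  let u' : Subgroup.normalizer (A : Set G) := ⟨u, hnorm u hun⟩
  let w' : Subgroup.normalizer (A : Set G) := ⟨w, hnorm w hwn⟩
  have happ : ∀ (s : Subgroup.normalizer (A : Set G)) (g : A),
      ((φ s g : A) : G) = (s : G) * g * (s : G)⁻¹ := fun s g => rfl
  have htriv : ∀ s : Subgroup.normalizer (A : Set G), (∀ g ∈ A, Commute (s : G) g) → φ s = 1 :=
    fun s hs => MulEquiv.ext fun g => Subtype.ext (by
      rw [happ]; exact mul_inv_eq_iff_eq_mul.2 (hs g g.2))
  have hcen : ∀ s : Subgroup.normalizer (A : Set G), (s : G) ∈ Subgroup.center G → φ s = 1 :=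
    fun s hs => htriv s fun g _ => (Subgroup.mem_center_iff.1 hs g).symm
  have hab : Commute (φ u') (φ w') := by
    have h1 : φ (u' * w' * u'⁻¹ * w'⁻¹) = 1 := htriv _ fun g hg =>
      comm_of_mixed h hp.out hq hpq hx hxZ hxp hy hyZ hyq hxy huw hg
    rw [map_mul, map_mul, map_mul, map_inv, map_inv, mul_inv_eq_one, mul_inv_eq_iff_eq_mul] at h1
    exact h1
  let Z₀ : Subgroup A := (Subgroup.center G).subgroupOf A
  have hfix : ∀ s : Subgroup.normalizer (A : Set G), (s : G) ∈ N → (s : G) ∉ cen x →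
      ∀ v : A, IsPel q v → φ s v = v → v ∈ Z₀ := by
    intro s hsN hs v hv hfix
    by_contra hvZ
    have hvq : IsPel q (v : G) := by
      obtain ⟨k, hk⟩ := hv
      exact ⟨k, by rw [← Subgroup.coe_pow, hk]; rfl⟩
    have hc : Commute (s : G) (v : G) := by
      have h1 := congrArg Subtype.val hfix
      rw [happ] at h1
      exact mul_inv_eq_iff_eq_mul.1 h1
    exact hs (cen_eq_of_coprime h hx hxZ v.2.1 hvZ (mem_cen.1 v.2.2).symm
      (hxp.coprime hp.out hq hpq hvq) ▸ mem_cen.2 hc)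
  have hyA : y ∈ A := ⟨hy, mem_cen.2 hxy.symm⟩
  refine hyZ (Subgroup.mem_subgroupOf.1 (no_pair hq hpq Z₀ (φ u') (φ w') hab
    (by rw [← map_pow]; exact hcen _ hup) (by rw [← map_pow]; exact hcen _ hwp)
    (hfix w' hwN hw) (fun j v hv hfv => hfix (u' * w' ^ j) (N.mul_mem huN (N.pow_mem hwN j))
      (hno j) v hv (by rw [map_mul, map_pow]; exact hfv)) (v := ⟨y, hyA⟩) ?_))
  obtain ⟨k, hk⟩ := hyq
  exact ⟨k, Subtype.ext (by simpa using hk)⟩

/-- an element of a normal section of a `p`-group central modulo the smaller subgroup -/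
theorem exists_step {p : ℕ} [Fact p.Prime] {R X Y : Subgroup G} (hR : IsPGroup p R) (hXR : X ≤ R)
    (hX : ∀ w ∈ R, ∀ g ∈ X, w * g * w⁻¹ ∈ X) (hY : ∀ w ∈ R, ∀ g ∈ Y, w * g * w⁻¹ ∈ Y)
    (hXY : ¬ X ≤ Y) : ∃ u ∈ X, u ∉ Y ∧ ∀ w ∈ R, w * u * w⁻¹ * u⁻¹ ∈ Y := by
  haveI : (Y.subgroupOf R).Normal := ⟨fun g hg w => hY w w.2 g hg⟩
  haveI : (X.subgroupOf R).Normal := ⟨fun g hg w => hX w w.2 g hg⟩
  set π := QuotientGroup.mk' (Y.subgroupOf R)
  haveI : ((X.subgroupOf R).map π).Normal :=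
    Subgroup.Normal.map ‹_› _ (QuotientGroup.mk'_surjective _)
  haveI : Group.IsNilpotent (R ⧸ Y.subgroupOf R) := (hR.to_quotient _).isNilpotent
  have hne : (X.subgroupOf R).map π ≠ ⊥ := by
    rw [Ne, Subgroup.map_eq_bot_iff, QuotientGroup.ker_mk']
    intro hle
    exact hXY fun g hg => hle (show (⟨g, hXR hg⟩ : R) ∈ X.subgroupOf R from hg)
  obtain ⟨⟨v, hv⟩, hv1⟩ := Subgroup.ne_bot_iff_exists_ne_one.1 (Cfsg.Agent.S0065.result _ hne)
  replace hv1 : v ≠ 1 := fun e => hv1 (Subtype.ext e)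
  obtain ⟨u, hu, rfl⟩ := hv.1
  refine ⟨u, hu, fun huY => hv1 ((QuotientGroup.eq_one_iff u).2 huY), fun w hw => ?_⟩
  have h1 := Subgroup.mem_center_iff.1 hv.2 (π ⟨w, hw⟩)
  have h2 : π (⟨w, hw⟩ * u * (⟨w, hw⟩ : R)⁻¹ * u⁻¹) = 1 := by
    rw [map_mul, map_mul, map_mul, map_inv, map_inv, h1]; group
  exact (QuotientGroup.eq_one_iff ((⟨w, hw⟩ : R) * u * (⟨w, hw⟩ : R)⁻¹ * u⁻¹)).1 h2

/-- the standing hypotheses -/
structure Hyp (r : ℕ) [Fact r.Prime] (N : Subgroup G) (R : Sylow r G) : Prop where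
  nrm : N.Normal
  size : OneSizeOn N
  le : (R : Subgroup G) ≤ N
  ncen : ¬ (R : Subgroup G) ≤ Subgroup.center G
  noZ : ∀ x ∈ (R : Subgroup G), x ∉ Subgroup.center G → ¬ (R : Subgroup G) ≤ cen x

/-- `g` commutes with a non-central `q`-element of `N` -/
def Has (N : Subgroup G) (q : ℕ) (g : G) : Prop :=
  ∃ y ∈ N, y ∉ Subgroup.center G ∧ IsPel q y ∧ Commute g y

/-- the intersection with `R` is a Sylow subgroup of the centraliser -/
def Full {r : ℕ} (R : Sylow r G) (x : G) : Prop :=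
  Nat.card ↥((R : Subgroup G) ⊓ cen x) = r ^ (Nat.card (cen x)).factorization r

/-- central modulo the centre in `R` -/
def Good {r : ℕ} (R : Sylow r G) (z : G) : Prop :=
  z ∈ (R : Subgroup G) ∧ z ∉ Subgroup.center G ∧
    ∀ u ∈ (R : Subgroup G), u * z * u⁻¹ * z⁻¹ ∈ Subgroup.center G

variable {r : ℕ} [hr : Fact r.Prime] {N : Subgroup G} {R : Sylow r G}

theorem Good.conj_cen {z : G} (hz : Good R z) {u : G} (hu : u ∈ (R : Subgroup G)) {g : G}
    (hg : g ∈ cen z) : u * g * u⁻¹ ∈ cen z := by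
  have h1 : u * g * u⁻¹ ∈ cen (u * z * u⁻¹) := cen_conj.2 (by simpa [mul_assoc] using hg)
  rw [show u * z * u⁻¹ = (u * z * u⁻¹ * z⁻¹) * z by group,
    ← Subgroup.mem_center_iff.1 (hz.2.2 u hu) z] at h1
  exact (mem_cen_conj_iff_of_central (hz.2.2 u hu)).1 h1

theorem Good.full {z : G} (hz : Good R z) : Full R z :=
  card_inf_of_normalized R (cen z) fun _ hu _ hg => hz.conj_cen hu hg

theorem Hyp.mem_of_pel (h : Hyp r N R) {g : G} (hg : IsPel r g) : g ∈ N := by
  obtain ⟨R', hR'⟩ := hg.isPGroup_zpowers.exists_le_sylow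
  obtain ⟨a, rfl⟩ := MulAction.exists_smul_eq G R R'
  obtain ⟨w, hw, e⟩ := hR' (Subgroup.mem_zpowers g)
  simp only [MulDistribMulAction.toMonoidEnd_apply, MulDistribMulAction.toMonoidHom_apply,
    MulAut.smul_def, MulAut.conj_apply] at e
  rw [← e]
  exact h.nrm.conj_mem w (h.le hw) a

theorem Hyp.position (h : Hyp r N R) {x : G} (hx : IsPel r x) :
    ∃ n ∈ N, n * x * n⁻¹ ∈ (R : Subgroup G) ∧ Full R (n * x * n⁻¹) := by
  classical
  have hxC : Subgroup.zpowers x ≤ cen x := Subgroup.zpowers_le.2 (mem_cen.2 (Commute.refl x))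
  have hp : IsPGroup r ((Subgroup.zpowers x).subgroupOf (cen x)) :=
    hx.isPGroup_zpowers.comap_subtype
  obtain ⟨T, hT⟩ := hp.exists_le_sylow
  obtain ⟨R', hR'⟩ := (T.2.map (cen x).subtype).exists_le_sylow
  have hR'N : (R' : Subgroup G) ≤ N := fun g hg => h.mem_of_pel (isPel_of_mem R'.2 hg)
  obtain ⟨n, hn⟩ := MulAction.exists_smul_eq N (R'.subtype hR'N) (R.subtype h.le)
  have hmem : ∀ g ∈ (R' : Subgroup G), (n : G) * g * (n : G)⁻¹ ∈ (R : Subgroup G) := by
    intro g hg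
    have h2 : MulAut.conj n • (⟨g, hR'N hg⟩ : N) ∈
        MulAut.conj n • ((R'.subtype hR'N : Sylow r N) : Subgroup N) :=
      Subgroup.smul_mem_pointwise_smul _ _ _ (show (⟨g, hR'N hg⟩ : N) ∈ (R' : Subgroup G).subgroupOf N from hg)
    rw [← Sylow.coe_subgroup_smul, hn] at h2
    exact h2
  have hxR' : x ∈ (R' : Subgroup G) := hR' ⟨⟨x, mem_cen.2 (Commute.refl x)⟩,
    hT (Subgroup.mem_subgroupOf.2 (Subgroup.mem_zpowers x)), rfl⟩
  refine ⟨n, n.2, hmem x hxR', le_antisymm (card_le_of_le hr.out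
    (R.2.to_le inf_le_left) inf_le_right) ?_⟩
  rw [card_cen_conj, ← T.card_eq_multiplicity]
  refine Nat.card_le_card_of_injective (fun t => ⟨(n : G) * ((t : cen x) : G) * (n : G)⁻¹,
    hmem _ (hR' ⟨_, t.2, rfl⟩), cen_conj.2 (by simpa [mul_assoc] using (t : cen x).2)⟩) ?_
  intro a b e
  exact Subtype.ext (Subtype.ext (mul_left_cancel (mul_right_cancel (congrArg Subtype.val e))))

theorem Hyp.exists_r (h : Hyp r N R) {y : G} (hy : y ∈ N) (hyZ : y ∉ Subgroup.center G) :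
    ∃ x ∈ N, x ∉ Subgroup.center G ∧ IsPel r x ∧ Commute x y := by
  by_contra hno
  push Not at hno
  obtain ⟨x0, hx0R, hx0Z⟩ := SetLike.not_le_iff_exists.1 h.ncen
  obtain ⟨T⟩ : Nonempty (Sylow r (cen y)) := inferInstance
  set T' := (T : Subgroup (cen y)).map (cen y).subtype
  have hT'c : Nat.card T' = r ^ (Nat.card (cen y)).factorization r := by
    rw [Subgroup.card_map_of_injective (Subgroup.subtype_injective _), T.card_eq_multiplicity]
  have hT'Z : T' ≤ (R : Subgroup G) ⊓ Subgroup.center G := by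
    intro t ht
    have htr : IsPel r t := isPel_of_mem (T.2.map (cen y).subtype) ht
    have htC : t ∈ Subgroup.center G := by_contra fun htZ =>
      hno t (h.mem_of_pel htr) htZ htr (mem_cen.1 (Subgroup.map_subtype_le _ ht))
    obtain ⟨n, -, hn, -⟩ := h.position htr
    exact ⟨by rwa [Subgroup.mem_center_iff.1 htC n, mul_inv_cancel_right] at hn, htC⟩
  set U := Subgroup.zpowers x0 ⊔ ((R : Subgroup G) ⊓ Subgroup.center G)
  have hUR : U ≤ (R : Subgroup G) := sup_le (Subgroup.zpowers_le.2 hx0R) inf_le_left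
  have hUC : U ≤ cen x0 := sup_le (Subgroup.zpowers_le.2 (mem_cen.2 (Commute.refl _)))
    (inf_le_right.trans (Subgroup.center_le_centralizer _))
  have h1 := card_le_of_le hr.out (R.2.to_le hUR) hUC
  rw [h.size x0 (h.le hx0R) hx0Z y hy hyZ, ← hT'c] at h1
  have h2 : Nat.card ↥((R : Subgroup G) ⊓ Subgroup.center G) < Nat.card U := by
    refine lt_of_le_of_ne (Subgroup.card_le_of_le le_sup_right) fun e => hx0Z ?_
    have := Subgroup.eq_of_le_of_card_ge (le_sup_right : (R : Subgroup G) ⊓ Subgroup.center G ≤ U) e.ge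
    exact (this.symm ▸ Subgroup.mem_sup_left (Subgroup.mem_zpowers x0) :
      x0 ∈ (R : Subgroup G) ⊓ Subgroup.center G).2
  exact absurd (h1.trans (Subgroup.card_le_of_le hT'Z)) (not_le.2 h2)

theorem Hyp.exists_good (h : Hyp r N R) : ∃ z, Good R z := by
  obtain ⟨u, hu, hu1, hu2⟩ := exists_step (X := (R : Subgroup G))
    (Y := Subgroup.center G) R.2 le_rfl
    (fun w hw g hg => mul_mem (mul_mem hw hg) (inv_mem hw))
    (fun w _ g hg => (inferInstance : (Subgroup.center G).Normal).conj_mem g hg w) h.ncen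
  exact ⟨u, hu, hu1, hu2⟩

/-- commutators of `R` with an element central modulo `⟨z⟩Z` separate -/
theorem card_le_of_separating (Y T : Subgroup G) (f : G → G)
    (hf : ∀ t ∈ T, f t ∈ Y)
    (hker : ∀ t ∈ T, ∀ t' ∈ T, (f t)⁻¹ * f t' ∈ Subgroup.center G → t⁻¹ * t' ∈ Subgroup.center G)
    (hinf : T ⊓ Subgroup.center G ≤ Y ⊓ Subgroup.center G) :
    Nat.card T ≤ Nat.card Y := by
  classical
  set π := QuotientGroup.mk' (Subgroup.center G)
  have hc : ∀ H : Subgroup G,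
      Nat.card ↥(H ⊓ Subgroup.center G) * Nat.card (H.map π) = Nat.card H := by
    intro H
    rw [← Subgroup.relIndex_ker, QuotientGroup.ker_mk', ← Subgroup.inf_relIndex_left H,
      ← Subgroup.relIndex_bot_left, ← Subgroup.relIndex_bot_left]
    exact Subgroup.relIndex_mul_relIndex _ _ _ bot_le inf_le_left
  rw [← hc T, ← hc Y]
  refine Nat.mul_le_mul (Subgroup.card_le_of_le hinf) ?_
  choose sec hsec hsecπ using fun x : T.map π => x.2
  refine Nat.card_le_card_of_injective (fun x => ⟨π (f (sec x)), ⟨_, hf _ (hsec x), rfl⟩⟩) ?_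
  intro a b e
  apply Subtype.ext
  rw [← hsecπ a, ← hsecπ b]
  exact QuotientGroup.eq.2 (hker _ (hsec a) _ (hsec b)
    (QuotientGroup.eq.1 (congrArg Subtype.val e)))

/-- the centraliser of a good element without mixed centraliser is small -/
theorem Hyp.cen_le_of_not_has (h : Hyp r N R) {z : G} (hz : Good R z) {q : ℕ} (hq : q.Prime)
    (hqr : q ≠ r) (hno : ¬ Has N q z) {a y : G} (haR : a ∈ (R : Subgroup G)) (haF : Full R a)
    (haZ : a ∉ Subgroup.center G) (hy : y ∈ N) (hyZ : y ∉ Subgroup.center G) (hyq : IsPel q y)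
    (hay : Commute a y) :
    (R : Subgroup G) ⊓ cen z ≤ Subgroup.zpowers z ⊔ Subgroup.center G := by
  classical
  set ZZ := Subgroup.zpowers z ⊔ Subgroup.center G with hZZ
  set AR := (R : Subgroup G) ⊓ cen z with hAR
  set T := (R : Subgroup G) ⊓ cen a with hT
  set Y := (R : Subgroup G) ⊓ ZZ with hYdef
  have hzN := h.le hz.1
  have haN := h.le haR
  have har : IsPel r a := isPel_of_mem R.2 haR
  have htcen : ∀ t ∈ T, t ∉ Subgroup.center G → cen t = cen a := by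
    intro t ht htZ
    have hya : cen a = cen y := cen_eq_of_coprime h.size haN haZ hy hyZ hay
      (har.coprime hr.out hq hqr.symm hyq)
    rw [hya]
    exact cen_eq_of_coprime h.size (h.le ht.1) htZ hy hyZ (mem_cen.1 (hya ▸ ht.2))
      ((isPel_of_mem R.2 ht.1).coprime hr.out hq hqr.symm hyq)
  have hdisj : ∀ t ∈ T, t ∈ AR → t ∈ Subgroup.center G := by
    intro t ht htA
    by_contra htZ
    have hzt : z ∈ cen t := mem_cen.2 (mem_cen.1 htA.2).symm
    rw [htcen t ht htZ] at hzt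
    have hya : cen a = cen y := cen_eq_of_coprime h.size haN haZ hy hyZ hay
      (har.coprime hr.out hq hqr.symm hyq)
    exact hno ⟨y, hy, hyZ, hyq, mem_cen.1 (hya ▸ hzt)⟩
  have hzT : z ∉ cen a := fun e => hz.2.1 (hdisj z ⟨hz.1, e⟩ ⟨hz.1, mem_cen.2 (Commute.refl z)⟩)
  -- fixed points of an element of `T` on `AR` modulo the centre lie in `ZZ`
  have hP : ∀ u ∈ AR, ∀ t ∈ T, t ∉ Subgroup.center G →
      u * t * u⁻¹ * t⁻¹ ∈ Subgroup.center G → u ∈ ZZ := by
    intro u hu t ht htZ hc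
    by_contra huZZ
    have huZ : u ∉ Subgroup.center G := fun e => huZZ (Subgroup.mem_sup_right e)
    have hut : ¬ Commute u t := fun e => huZ (hdisj u ⟨hu.1, htcen t ht htZ ▸ mem_cen.2 e⟩ hu)
    have hzc : z * t * z⁻¹ * t⁻¹ ∈ Subgroup.center G := by
      rw [show z * t * z⁻¹ * t⁻¹ = (t * z * t⁻¹ * z⁻¹)⁻¹ by group]
      exact inv_mem (hz.2.2 t ht.1)
    have hzt : ¬ Commute z t := fun e => hzT (htcen t ht htZ ▸ mem_cen.2 e)
    have hnorm : ∀ s : G, s * t * s⁻¹ * t⁻¹ ∈ Subgroup.center G → s ∈ N →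
        ∀ g ∈ N ⊓ cen a, s * g * s⁻¹ ∈ N ⊓ cen a := by
      intro s hs hsN g hg
      refine ⟨N.mul_mem (N.mul_mem hsN hg.1) (N.inv_mem hsN), ?_⟩
      rw [← htcen t ht htZ] at hg ⊢
      have h1 : s * g * s⁻¹ ∈ cen (s * t * s⁻¹) := cen_conj.2 (by simpa [mul_assoc] using hg.2)
      rw [show s * t * s⁻¹ = (s * t * s⁻¹ * t⁻¹) * t by group,
        ← Subgroup.mem_center_iff.1 hs t] at h1
      exact (mem_cen_conj_iff_of_central hs).1 h1
    have huN := h.le hu.1
    obtain ⟨j, hj⟩ := exists_mul_pow_mem h.size hq hqr.symm haN haZ har hy hyZ hyq hay huN hzN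
      (hnorm u hc huN) (hnorm z hzc hzN)
      (pow_mem_center h.size hr.out huN (isPel_of_mem R.2 hu.1) hc hut)
      (pow_mem_center h.size hr.out hzN (isPel_of_mem R.2 hz.1) hzc hzt)
      (by rw [(mem_cen.1 hu.2).eq, mul_inv_cancel_right, mul_inv_cancel]; exact one_mem _) hzT
    have h1 : u * z ^ j ∈ Subgroup.center G := hdisj _
      ⟨mul_mem hu.1 (pow_mem hz.1 j), hj⟩
      ⟨mul_mem hu.1 (pow_mem hz.1 j), mul_mem hu.2 (pow_mem (mem_cen.2 (Commute.refl z)) j)⟩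
    exact huZZ (by
      have h2 := mul_mem (Subgroup.mem_sup_right h1 : u * z ^ j ∈ ZZ)
        (inv_mem (Subgroup.mem_sup_left (pow_mem (Subgroup.mem_zpowers z) j) : z ^ j ∈ ZZ))
      rwa [mul_inv_cancel_right] at h2)
  by_contra hle
  have hRY : ∀ w ∈ (R : Subgroup G), ∀ g ∈ Y, w * g * w⁻¹ ∈ Y := by
    intro w hw g hg
    refine Subgroup.mem_inf.2 ⟨mul_mem (mul_mem hw (Subgroup.mem_inf.1 hg).1) (inv_mem hw), ?_⟩
    obtain ⟨a', ha', b', hb', rfl⟩ := Subgroup.mem_sup_of_normal_right.1 hg.2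
    obtain ⟨i, rfl⟩ := Subgroup.mem_zpowers_iff.1 ha'
    rw [show w * (z ^ i * b') * w⁻¹ = (w * z * w⁻¹) ^ i * (w * b' * w⁻¹) by
      rw [conj_zpow]; group, Subgroup.mem_center_iff.1 hb' w, mul_inv_cancel_right]
    refine mul_mem (zpow_mem ?_ i) (Subgroup.mem_sup_right hb')
    rw [show w * z * w⁻¹ = (w * z * w⁻¹ * z⁻¹) * z by group]
    exact mul_mem (Subgroup.mem_sup_right (hz.2.2 w hw))
      (Subgroup.mem_sup_left (Subgroup.mem_zpowers z))
  obtain ⟨u, hu, huY, hu2⟩ := exists_step (X := AR) (Y := Y) R.2 inf_le_left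
    (fun w hw g hg => Subgroup.mem_inf.2 ⟨mul_mem (mul_mem hw (Subgroup.mem_inf.1 hg).1) (inv_mem hw),
      hz.conj_cen hw (Subgroup.mem_inf.1 hg).2⟩) hRY
    (fun e => hle fun g hg => (e hg).2)
  have huZZ : u ∉ ZZ := fun e => huY ⟨hu.1, e⟩
  -- counting
  have hcard : Nat.card T = Nat.card AR := by
    rw [haF, hz.full, h.size a haN haZ z hzN hz.2.1]
  have hlt : Nat.card Y < Nat.card AR := by
    refine lt_of_le_of_ne (Subgroup.card_le_of_le fun g hg => ⟨hg.1, ?_⟩) fun e => huY ?_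
    · exact sup_le (Subgroup.zpowers_le.2 (mem_cen.2 (Commute.refl z)))
        (Subgroup.center_le_centralizer _) hg.2
    · have hYA : Y ≤ AR := fun g hg => ⟨hg.1, sup_le (Subgroup.zpowers_le.2
        (mem_cen.2 (Commute.refl z))) (Subgroup.center_le_centralizer _) hg.2⟩
      exact (Subgroup.eq_of_le_of_card_ge hYA e.ge).symm ▸ hu
  refine absurd ((hcard.symm ▸ card_le_of_separating Y T (fun t => t * u * t⁻¹ * u⁻¹)
    (fun t ht => hu2 t ht.1) ?_ (fun g hg => ⟨⟨hg.1.1, Subgroup.mem_sup_right hg.2⟩, hg.2⟩))) (not_le.2 hlt)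
  intro t ht t' ht' hc
  by_contra htZ
  have hs : t⁻¹ * t' ∈ T := mul_mem (inv_mem ht) ht'
  -- `z` is fixed by `R` modulo the centre, hence so is `Y`
  have hd := hu2 _ hs.1
  set s := t⁻¹ * t' with hsdef
  set d := s * u * s⁻¹ * u⁻¹ with hddef
  have hfix : t * d * t⁻¹ * d⁻¹ ∈ Subgroup.center G := by
    obtain ⟨a', ha', b', hb', e⟩ := Subgroup.mem_sup_of_normal_right.1 hd.2
    obtain ⟨i, rfl⟩ := Subgroup.mem_zpowers_iff.1 ha'
    have e1 : t * d * t⁻¹ * d⁻¹ = (t * z * t⁻¹) ^ i * (z ^ i)⁻¹ := by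
      rw [← e, conj_zpow, show t * (z ^ i * b') * t⁻¹ * (z ^ i * b')⁻¹ =
        t * z ^ i * t⁻¹ * (t * b' * t⁻¹) * b'⁻¹ * (z ^ i)⁻¹ by group,
        Subgroup.mem_center_iff.1 hb' t]
      group
    rw [e1, show t * z * t⁻¹ = (t * z * t⁻¹ * z⁻¹) * z by group,
      Commute.mul_zpow (Subgroup.mem_center_iff.1 (hz.2.2 t ht.1) z).symm, mul_inv_cancel_right]
    exact zpow_mem (hz.2.2 t ht.1) i
  have hdc : d ∈ Subgroup.center G := by
    have e1 : t' * u * t'⁻¹ * u⁻¹ = t * d * t⁻¹ * (t * u * t⁻¹ * u⁻¹) := by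
      rw [show t' = t * s by rw [hsdef, mul_inv_cancel_left], hddef]; group
    rw [e1] at hc
    set c := t * d * t⁻¹ * d⁻¹
    have e2 : t * d * t⁻¹ = c * d := (inv_mul_cancel_right _ d).symm
    rw [e2] at hc
    set k := t * u * t⁻¹ * u⁻¹
    have h3 : k * (k⁻¹ * (c * d * k)) * k⁻¹ ∈ Subgroup.center G :=
      (inferInstance : (Subgroup.center G).Normal).conj_mem _ hc k
    rw [show k * (k⁻¹ * (c * d * k)) * k⁻¹ = c * d by group] at h3
    exact (Subgroup.mul_mem_cancel_left _ hfix).1 h3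
  refine huZZ (hP u hu s hs htZ ?_)
  rw [show u * s * u⁻¹ * s⁻¹ = d⁻¹ by rw [hddef]; group]
  exact inv_mem hdc

/-- every good element commutes with a non-central `q`-element -/
theorem Hyp.good_has (h : Hyp r N R) {z : G} (hz : Good R z) {q : ℕ} (hq : q.Prime)
    (hqr : q ≠ r) {y : G} (hy : y ∈ N) (hyZ : y ∉ Subgroup.center G) (hyq : IsPel q y) :
    Has N q z := by
  classical
  by_contra hno
  haveI := Fact.mk hq
  obtain ⟨x, hx, hxZ, hxr, hxy⟩ := h.exists_r hy hyZ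
  obtain ⟨n, hn, haR, haF⟩ := h.position hxr
  set a := n * x * n⁻¹ with ha
  set y' := n * y * n⁻¹ with hy'def
  have hy'N : y' ∈ N := h.nrm.conj_mem y hy n
  have hconjZ : ∀ g : G, g ∉ Subgroup.center G → n * g * n⁻¹ ∉ Subgroup.center G := fun g hg e => hg (by
    have := (inferInstance : (Subgroup.center G).Normal).conj_mem _ e n⁻¹
    simpa [mul_assoc] using this)
  have haZ : a ∉ Subgroup.center G := hconjZ x hxZ
  have hy'Z : y' ∉ Subgroup.center G := hconjZ y hyZ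
  have hay : Commute a y' := hxy.map (MulAut.conj n)
  have hAR := h.cen_le_of_not_has hz hq hqr hno haR haF haZ hy'N hy'Z (hyq.conj n) hay
  set ZZ := Subgroup.zpowers z ⊔ Subgroup.center G
  -- the preimage of the centraliser of `z` modulo the centre
  let X : Subgroup G :=
    { carrier := {g | g ∈ N ∧ g * z * g⁻¹ * z⁻¹ ∈ Subgroup.center G}
      one_mem' := ⟨one_mem _, by simp⟩
      mul_mem' := fun {g k} hg hk => ⟨mul_mem hg.1 hk.1, by
        have e : g * k * z * (g * k)⁻¹ * z⁻¹ =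
            g * (k * z * k⁻¹ * z⁻¹) * g⁻¹ * (g * z * g⁻¹ * z⁻¹) := by group
        rw [e]
        exact mul_mem ((inferInstance : (Subgroup.center G).Normal).conj_mem _ hk.2 g) hg.2⟩
      inv_mem' := fun {g} hg => ⟨inv_mem hg.1, by
        have e : g⁻¹ * z * (g⁻¹)⁻¹ * z⁻¹ = g⁻¹ * (g * z * g⁻¹ * z⁻¹)⁻¹ * (g⁻¹)⁻¹ := by group
        rw [e]
        exact (inferInstance : (Subgroup.center G).Normal).conj_mem _ (inv_mem hg.2) _⟩ }
  have hRX : (R : Subgroup G) ≤ X := fun u hu => ⟨h.le hu, hz.2.2 u hu⟩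
  have hXq : ∀ g ∈ X, IsPel q g → g ∈ Subgroup.center G := by
    intro g hg hgq
    by_contra hgZ
    refine hno ⟨g, hg.1, hgZ, hgq, ?_⟩
    set c := g * z * g⁻¹ * z⁻¹ with hc
    obtain ⟨k, hk⟩ := hgq
    obtain ⟨l, hl⟩ := isPel_of_mem R.2 hz.1
    have h1 := conj_pow_of_central (u := g) (t := z) hg.2 (q ^ k)
    rw [hk, one_mul, inv_one, mul_one] at h1
    have h2 := conj_pow_of_central' (u := g) (t := z) hg.2 (r ^ l)
    rw [hl, mul_one, mul_inv_cancel, one_mul] at h2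
    have hc1 : c = 1 := orderOf_eq_one_iff.1 (Nat.eq_one_of_dvd_coprimes
      (((Nat.coprime_primes hq hr.out).2 hqr).pow k l)
      (orderOf_dvd_of_pow_eq_one (mul_eq_left.1 h1.symm)) (orderOf_dvd_of_pow_eq_one h2.symm))
    exact (mul_inv_eq_iff_eq_mul.1 (mul_inv_eq_one.1 hc1)).symm
  -- a Sylow subgroup of `cen z` acting on the Sylow subgroups of `X`
  obtain ⟨S₀⟩ : Nonempty (Sylow q (cen z)) := inferInstance
  set S := (S₀ : Subgroup (cen z)).map (cen z).subtype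
  have hSz : S ≤ cen z := Subgroup.map_subtype_le _
  have hSq : IsPGroup q S := S₀.2.map _
  have hSX : S ≤ Subgroup.normalizer (X : Set G) := fun s hs => by
    refine Subgroup.mem_normalizer_fintype fun g hg => ⟨h.nrm.conj_mem g hg.1 s, ?_⟩
    have e : s * g * s⁻¹ * z * (s * g * s⁻¹)⁻¹ * z⁻¹ =
        s * (g * (s⁻¹ * z * s) * g⁻¹ * (s⁻¹ * z⁻¹ * s)) * s⁻¹ := by group
    have hsz := mem_cen.1 (hSz hs)
    rw [e, show s⁻¹ * z * s = z by rw [mul_assoc, ← hsz.eq, inv_mul_cancel_left],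
      show s⁻¹ * z⁻¹ * s = z⁻¹ by rw [mul_assoc, ← hsz.inv_right.eq, inv_mul_cancel_left]]
    exact (inferInstance : (Subgroup.center G).Normal).conj_mem _ hg.2 s
  letI : MulAction S (Sylow r X) := MulAction.compHom _
    ((Subgroup.normalizerMonoidHom X).comp (Subgroup.inclusion hSX))
  set RX : Sylow r X := R.subtype hRX
  have hnd : ¬ q ∣ Nat.card (Sylow r X) := by
    rw [RX.card_eq_index_normalizer]
    obtain ⟨Q₀⟩ : Nonempty (Sylow q X) := inferInstance
    refine fun hd => Q₀.not_dvd_index (hd.trans (Subgroup.index_dvd_of_le fun g hg => ?_))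
    have hgc : (g : G) ∈ Subgroup.center G := hXq g g.2 (by
      obtain ⟨k, hk⟩ := Q₀.2 ⟨g, hg⟩
      exact ⟨k, by simpa using congrArg (fun u : (Q₀ : Subgroup X) => ((u : X) : G)) hk⟩)
    refine Subgroup.centralizer_le_normalizer _ (Subgroup.mem_centralizer_iff.2 fun v _ => Subtype.ext ?_)
    exact Subgroup.mem_center_iff.1 hgc v
  obtain ⟨P', hP'⟩ := hSq.nonempty_fixed_point_of_prime_not_dvd_card (Sylow r X) hnd
  obtain ⟨g₀, hg₀⟩ := MulAction.exists_smul_eq X RX P'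
  set g : G := (g₀ : G)
  -- `P'` is the conjugate of `R`
  have hmem : ∀ v : X, v ∈ (P' : Subgroup X) ↔ g⁻¹ * v * g ∈ (R : Subgroup G) := by
    intro v
    rw [← hg₀, Sylow.coe_subgroup_smul, Subgroup.mem_pointwise_smul_iff_inv_smul_mem]
    show ((((MulAut.conj g₀)⁻¹ • v : X)) : G) ∈ (R : Subgroup G) ↔ _
    simp only [MulAut.smul_def, MulAut.inv_apply, MulAut.conj_symm_apply, Subgroup.coe_mul,
      InvMemClass.coe_inv]
    exact Iff.rfl
  have hfixS : ∀ s ∈ S, ∀ v ∈ (R : Subgroup G), g⁻¹ * (s * (g * v * g⁻¹) * s⁻¹) * g ∈ (R : Subgroup G) := by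
    intro s hs v hv
    let w : X := ⟨g * v * g⁻¹, mul_mem (mul_mem g₀.2 (hRX hv)) (inv_mem g₀.2)⟩
    have hw : w ∈ (P' : Subgroup X) := (hmem w).2 (by
      show g⁻¹ * (g * v * g⁻¹) * g ∈ (R : Subgroup G)
      simpa [mul_assoc] using hv)
    let φ := ((Subgroup.normalizerMonoidHom X).comp (Subgroup.inclusion hSX)) ⟨s, hs⟩
    have h1 : φ • w ∈ φ • (P' : Subgroup X) := Subgroup.smul_mem_pointwise_smul _ _ _ hw
    have h2 : φ • (P' : Subgroup X) = (P' : Subgroup X) :=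
      congrArg Sylow.toSubgroup (hP' ⟨s, hs⟩)
    rw [h2, hmem] at h1
    exact h1
  -- `g` moves `z` by a central element
  have hgz : g⁻¹ * z * g * z⁻¹ ∈ Subgroup.center G := by
    have := (inv_mem g₀.2 : g⁻¹ ∈ X).2
    rwa [inv_inv] at this
  have hkey : ∀ v ∈ (R : Subgroup G), g * v * g⁻¹ ∈ cen z → g * v * g⁻¹ ∈ ZZ := by
    intro v hv hvz
    have h1 : v ∈ cen (g⁻¹ * z * g) := by
      rw [show g⁻¹ * z * g = g⁻¹ * z * g⁻¹⁻¹ by rw [inv_inv]]
      exact cen_conj.2 (by simpa [mul_assoc] using hvz)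
    rw [show g⁻¹ * z * g = (g⁻¹ * z * g * z⁻¹) * z by group,
      ← Subgroup.mem_center_iff.1 hgz z, mem_cen_conj_iff_of_central hgz] at h1
    obtain ⟨a', ha', b', hb', rfl⟩ := Subgroup.mem_sup_of_normal_right.1 (hAR ⟨hv, h1⟩)
    obtain ⟨i, rfl⟩ := Subgroup.mem_zpowers_iff.1 ha'
    rw [show g * (z ^ i * b') * g⁻¹ = (g * z * g⁻¹) ^ i * (g * b' * g⁻¹) by
      rw [conj_zpow]; group, Subgroup.mem_center_iff.1 hb' g, mul_inv_cancel_right]
    refine mul_mem (zpow_mem ?_ i) (Subgroup.mem_sup_right hb')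
    rw [show g * z * g⁻¹ = (g * z * g⁻¹ * z⁻¹) * z by group]
    exact mul_mem (Subgroup.mem_sup_right g₀.2.2) (Subgroup.mem_sup_left (Subgroup.mem_zpowers z))
  -- `S` centralises the conjugate of `R`
  have hcentral : ∀ s ∈ S, ∀ v ∈ (R : Subgroup G), Commute s (g * v * g⁻¹) := by
    intro s hs v hv
    set w := g * v * g⁻¹ with hw
    set d := s * w * s⁻¹ * w⁻¹ with hd
    have hsz := mem_cen.1 (hSz hs)
    have hwX : w ∈ X := mul_mem (mul_mem g₀.2 (hRX hv)) (inv_mem g₀.2)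
    set v₁ := g⁻¹ * d * g with hv₁
    have hv₁R : v₁ ∈ (R : Subgroup G) := by
      rw [show v₁ = (g⁻¹ * (s * (g * v * g⁻¹) * s⁻¹) * g) * v⁻¹ by rw [hv₁, hd, hw]; group]
      exact mul_mem (hfixS s hs v hv) (inv_mem hv)
    have hdv : d = g * v₁ * g⁻¹ := by rw [hv₁]; group
    have hdz : d ∈ cen z := by
      refine mem_cen.2 ?_
      set c := w * z * w⁻¹ * z⁻¹ with hc
      have hcZ : c ∈ Subgroup.center G := hwX.2
      have e2 : d * z * d⁻¹ = z := by
        rw [show d * z * d⁻¹ = s * (w * (s⁻¹ * (w⁻¹ * z * w) * s) * w⁻¹) * s⁻¹ by rw [hd]; group]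
        have e3 : w⁻¹ * z * w = c⁻¹ * z := by
          have e4 : w⁻¹ * z * w = (w⁻¹ * c * w)⁻¹ * z := by rw [hc]; group
          rw [e4, Subgroup.mem_center_iff.1 hcZ w⁻¹, inv_mul_cancel_right]
        rw [e3, show s⁻¹ * (c⁻¹ * z) * s = c⁻¹ * z by
          rw [← mul_assoc s⁻¹ c⁻¹ z, Subgroup.mem_center_iff.1 (inv_mem hcZ) s⁻¹,
            mul_assoc c⁻¹, mul_assoc c⁻¹, mul_assoc s⁻¹, ← hsz.eq, inv_mul_cancel_left],
          show w * (c⁻¹ * z) * w⁻¹ = z by
            rw [← mul_assoc w c⁻¹ z, Subgroup.mem_center_iff.1 (inv_mem hcZ) w, hc]; group,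
          hsz.eq, mul_inv_cancel_right]
      exact mul_inv_eq_iff_eq_mul.1 e2
    rw [hdv] at hdz
    have hdZZ : d ∈ ZZ := hdv ▸ hkey v₁ hv₁R hdz
    have hsd : Commute s d := by
      obtain ⟨a', ha', b', hb', e⟩ := Subgroup.mem_sup_of_normal_right.1 hdZZ
      obtain ⟨i, rfl⟩ := Subgroup.mem_zpowers_iff.1 ha'
      rw [← e]
      exact (hsz.zpow_right i).mul_right (Subgroup.mem_center_iff.1 hb' s)
    have hpow : ∀ k : ℕ, s ^ k * w * (s ^ k)⁻¹ = d ^ k * w := by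
      intro k
      induction k with
      | zero => simp
      | succ k ih =>
        rw [pow_succ', mul_inv_rev, show s * s ^ k * w * ((s ^ k)⁻¹ * s⁻¹) =
          s * (s ^ k * w * (s ^ k)⁻¹) * s⁻¹ by group, ih, show s * (d ^ k * w) * s⁻¹ =
          (s * d ^ k) * w * s⁻¹ by group, (hsd.pow_right k).eq, pow_succ, hd]
        group
    obtain ⟨k, hk⟩ := isPel_of_mem hSq hs
    have h1 := hpow (q ^ k)
    rw [hk, one_mul, inv_one, mul_one] at h1
    obtain ⟨l, hl⟩ := (hdv ▸ (isPel_of_mem R.2 hv₁R).conj g : IsPel r d)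
    have hd1 : d = 1 := orderOf_eq_one_iff.1 (Nat.eq_one_of_dvd_coprimes
      (((Nat.coprime_primes hq hr.out).2 hqr).pow k l)
      (orderOf_dvd_of_pow_eq_one (mul_eq_right.1 h1.symm)) (orderOf_dvd_of_pow_eq_one hl))
    exact mul_inv_eq_iff_eq_mul.1 (mul_inv_eq_one.1 hd1)
  -- hence `S` contains a non-central `q`-element of `N`
  have hgN : g ∈ N := g₀.2.1
  set a₁ := g * a * g⁻¹ with ha₁
  set y₁ := g * y' * g⁻¹ with hy₁
  have hconjZ' : ∀ v : G, v ∉ Subgroup.center G → g * v * g⁻¹ ∉ Subgroup.center G := fun v hv e => hv (by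
    have := (inferInstance : (Subgroup.center G).Normal).conj_mem _ e g⁻¹
    simpa [mul_assoc] using this)
  have ha₁N : a₁ ∈ N := h.nrm.conj_mem a (h.le haR) g
  have hy₁N : y₁ ∈ N := h.nrm.conj_mem y' hy'N g
  have hy₁q : IsPel q y₁ := (hyq.conj n).conj g
  have hcy : cen a₁ = cen y₁ := cen_eq_of_coprime h.size ha₁N (hconjZ' a haZ) hy₁N
    (hconjZ' y' hy'Z) (hay.map (MulAut.conj g))
    (((isPel_of_mem R.2 haR).conj g).coprime hr.out hq hqr.symm hy₁q)
  have hSa : S ≤ cen a₁ := fun s hs => mem_cen.2 (hcentral s hs a haR)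
  have hSy : ∀ s ∈ S, Commute s y₁ := fun s hs => mem_cen.1 (hcy ▸ hSa hs)
  have hTq : IsPGroup q ↥(Subgroup.zpowers y₁ ⊔ S) := by
    refine hy₁q.isPGroup_zpowers.to_sup_of_normal_left' hSq fun s hs => ?_
    refine Subgroup.mem_normalizer_fintype fun v hv => ?_
    obtain ⟨i, rfl⟩ := Subgroup.mem_zpowers_iff.1 hv
    rw [((hSy s hs).zpow_right i).eq, mul_inv_cancel_right]
    exact hv
  have h1 := card_le_of_le hq hTq (U := cen a₁) (sup_le (Subgroup.zpowers_le.2 (mem_cen.2 (hay.map (MulAut.conj g)).symm))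
    hSa)
  have hSc : Nat.card S = q ^ (Nat.card (cen z)).factorization q := by
    rw [Subgroup.card_map_of_injective (Subgroup.subtype_injective _), S₀.card_eq_multiplicity]
  rw [h.size a₁ ha₁N (hconjZ' a haZ) z (h.le hz.1) hz.2.1, ← hSc] at h1
  have hy₁S : y₁ ∈ S := by
    rw [Subgroup.eq_of_le_of_card_ge le_sup_right h1]
    exact Subgroup.mem_sup_left (Subgroup.mem_zpowers y₁)
  exact hno ⟨y₁, hy₁N, hconjZ' y' hy'Z, hy₁q, (mem_cen.1 (hSz hy₁S)).symm⟩

end Cfsg.Agent.H34.OneSize
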