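import Cfsg.Agent.H34.RelGlaubermanExt

/-!
Relative Glauberman correspondence, part 3: reduction to the inertia group and the bijection.
-/

set_option autoImplicit false
set_option linter.style.haveILetI false

namespace Cfsg.Agent.H34.RelGlauberman

open scoped ComplexConjugate
open Cfsg.Agent.CharBasic Cfsg.Agent.CharInduce

universe u v

variable {K : Type u} [Group K] [Fintype K] {P : Type v} [Group P] [MulDistribMulAction P K]
  {p : ℕ} {Q C : Subgroup K}

theorem invOn_iff_isInv {L : Subgroup K} (hL : ∀ (s : P), ∀ g ∈ L, s • g ∈ L) (f : L → ℂ) :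
    InvOn P L f ↔ @H80.IsInv L _ P _ (resAction L hL) f := by
  letI := resAction L hL
  exact ⟨fun h s g => h s g (s • g) rfl, fun h s n n' e => by
    rw [show n' = s • n from Subtype.ext e]; exact h s n⟩

theorem indFun_comp_smul (L : Subgroup K) (hL : ∀ (s : P), ∀ g ∈ L, s • g ∈ L) (f : L → ℂ) (s : P)
    (g : K) : indFun L f (s • g) = indFun L (fun l => f ⟨s • (l : K), hL s l l.2⟩) g := by
  rw [indFun_apply, indFun_apply]
  congr 1
  refine (Fintype.sum_equiv (MulDistribMulAction.toMulEquiv K s).toEquiv _ _ fun y => ?_).symm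
  show extendByZero L (fun l => f ⟨s • (l : K), hL s l l.2⟩) (y⁻¹ * g * y) =
    extendByZero L f ((s • y)⁻¹ * (s • g) * (s • y))
  rw [← smul_inv', ← smul_mul', ← smul_mul']
  by_cases hy : y⁻¹ * g * y ∈ L
  · rw [extendByZero_of_mem _ hy, extendByZero_of_mem _ (hL s _ hy)]
  · rw [extendByZero_of_not_mem _ hy, extendByZero_of_not_mem _ (fun hm => hy ?_)]
    simpa using hL s⁻¹ _ hm

theorem ind_inv (L : Subgroup K) (hL : ∀ (s : P), ∀ g ∈ L, s • g ∈ L) {f : L → ℂ}
    (hf : InvOn P L f) : H80.IsInv P (indFun L f) := fun s g => by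
  rw [indFun_comp_smul L hL f s g,
    show (fun l : L => f ⟨s • (l : K), hL s l l.2⟩) = f from funext fun l => hf s l _ rfl]

/-- the Clifford correspondent of an invariant character over an invariant character is invariant -/
theorem correspondent_inv [Q.Normal] [Fintype Q] (hQ : ∀ (s : P), ∀ q ∈ Q, s • q ∈ Q)
    {θ : Q → ℂ} (hθ : Cfsg.IsIrrCharacter Q θ) (hθP : InvOn P Q θ) (hle : Q ≤ inertia Q θ)
    {φ : inertia Q θ → ℂ} (hφ : Cfsg.IsIrrCharacter (inertia Q θ) φ)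
    (hne : Cfsg.classInner (resTo Q hle φ) θ ≠ 0)
    (hinv : H80.IsInv P (indFun (inertia Q θ) φ)) : InvOn P (inertia Q θ) φ := by
  classical
  have hI : ∀ (s : P), ∀ g ∈ inertia Q θ, s • g ∈ inertia Q θ :=
    fun s g hg => inertia_smul_mem hθP hQ s hg
  intro s i i' hii
  letI aI := resAction (inertia Q θ) hI
  letI aQ := resAction Q hQ
  have h1 : Cfsg.IsIrrCharacter (inertia Q θ)
      (fun l : inertia Q θ => φ ⟨s • (l : K), hI s l l.2⟩) :=
    H80.isIrrCharacter_comp_mulEquiv (MulDistribMulAction.toMulEquiv (inertia Q θ) s) hφ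
  have h2 : Cfsg.classInner (resTo Q hle fun l : inertia Q θ => φ ⟨s • (l : K), hI s l l.2⟩) θ
      ≠ 0 := by
    have e1 : θ = fun n : Q => θ (MulDistribMulAction.toMulEquiv Q s n) :=
      funext fun n => (hθP s n (s • n) rfl).symm
    have e2 := CharInduce.classInner_comp_mulEquiv (MulDistribMulAction.toMulEquiv Q s)
      (resTo Q hle φ) θ
    rw [← e1] at e2
    exact e2.trans_ne hne
  have h3 := (clifford_correspondence Q hθ hle hφ hne).2.2 _ h1 h2 (funext fun g => by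
    rw [← indFun_comp_smul (inertia Q θ) hI φ s g]; exact hinv s g)
  rw [show i' = ⟨s • (i : K), hI s i i.2⟩ from Subtype.ext hii]
  exact congrFun h3 i

variable [Fintype C]

/-- a constituent of a constituent of the restriction is a constituent -/
theorem const_of_inner_ne [Fintype Q] (hQC : Q ≤ C) {χ : K → ℂ} (hχ : Cfsg.IsIrrCharacter K χ)
    {ξ : C → ℂ} (hξ : Cfsg.IsIrrCharacter C ξ)
    (hne : Cfsg.classInner (fun c : C => χ c) ξ ≠ 0) {θ : Q → ℂ} (hθ : Cfsg.IsIrrCharacter Q θ)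
    (h1 : Cfsg.classInner (resTo Q hQC ξ) θ ≠ 0) : Cfsg.classInner (fun n : Q => χ n) θ ≠ 0 := by
  obtain ⟨r, hr, he⟩ := CharInduce.IsChar.exists_eq_add
    (CharInduce.IsChar.res (IsIrr.isCharacter hχ) C) hξ hne
  rw [show (fun n : Q => χ n) = resTo Q hQC ξ + resTo Q hQC r by rw [← resTo_add, ← he]; rfl,
    classInner_add_left]
  obtain ⟨a, ha⟩ := classInner_isChar_nat (CharInduce.isCharacter_resTo Q hQC (IsIrr.isCharacter hξ))
    (IsIrr.isCharacter hθ)
  obtain ⟨b, hb⟩ := classInner_isChar_nat (CharInduce.isCharacter_resTo Q hQC hr)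
    (IsIrr.isCharacter hθ)
  rw [ha, Nat.cast_ne_zero] at h1
  rw [ha, hb, ← Nat.cast_add, Nat.cast_ne_zero]
  omega

/-- an invariant character of `C` has an invariant constituent on `Q` -/
theorem exists_inv_constituent_C [hp : Fact p.Prime] (h : RelAct p P Q C) [Q.Normal] [Fintype Q]
    {ξ : C → ℂ} (hξ : Cfsg.IsIrrCharacter C ξ) (hinv : InvOn P C ξ) :
    ∃ θ : Cfsg.IrrCharacter Q, InvOn P Q (θ : Q → ℂ) ∧
      Cfsg.classInner (resTo Q h.le ξ) (θ : Q → ℂ) ≠ 0 := by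
  classical
  have hC : ∀ (s : P), ∀ g ∈ C, s • g ∈ C := fun s g hg => h.smul_mem_C s hg
  letI := resAction C hC
  haveI : Fintype (Q.subgroupOf C) := Fintype.ofFinite _
  obtain ⟨θ', hθ', hne⟩ := exists_inv_constituent (h.sub hC h.le) hξ ((invOn_iff_isInv hC ξ).1 hinv)
  set e := Subgroup.subgroupOfEquivOfLe h.le with he
  refine ⟨H80.irrEquiv e.symm θ', fun s n n' hnn => ?_, ?_⟩
  · exact hθ' s (e.symm n) (e.symm n') (Subtype.ext hnn)
  · have e2 := CharInduce.classInner_comp_mulEquiv e.symm (fun n : Q.subgroupOf C => ξ n)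
      (θ' : Q.subgroupOf C → ℂ)
    exact e2.trans_ne hne

/-- an invariant character occurring in the restriction is over the same invariant character -/
theorem over_of_inner_ne [hp : Fact p.Prime] (h : RelAct p P Q C) [Q.Normal] [Fintype Q]
    {χ : K → ℂ} (hχ : Cfsg.IsIrrCharacter K χ) {θ : Q → ℂ} (hθ : Cfsg.IsIrrCharacter Q θ)
    (hθP : InvOn P Q θ) (hχθ : Cfsg.classInner (fun n : Q => χ n) θ ≠ 0) {ξ : C → ℂ}
    (hξ : Cfsg.IsIrrCharacter C ξ) (hinv : InvOn P C ξ)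
    (hne : Cfsg.classInner (fun c : C => χ c) ξ ≠ 0) :
    Cfsg.classInner (resTo Q h.le ξ) θ ≠ 0 := by
  classical
  obtain ⟨θ', hθ', hne'⟩ := exists_inv_constituent_C h hξ hinv
  obtain ⟨k, hk⟩ := exists_conjFun_eq_of_constituent Q hχ hθ θ'.2 hχθ
    (const_of_inner_ne h.le hχ hξ hne θ'.2 hne')
  obtain ⟨c, hc, hθc⟩ := exists_conj_fixed h (IsIrr.isClassFunction hθ) hθP hθ' hk
  rw [hθc] at hne'
  have e : conjFun Q (resTo Q h.le ξ) c = resTo Q h.le ξ := funext fun n =>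
    IsIrr.isClassFunction hξ ⟨n, h.le n.2⟩ ⟨c, hc⟩
  rwa [← e, classInner_conjFun_conjFun] at hne'

set_option maxHeartbeats 2000000 in
/-- The correspondence over an invariant character of `Q`. -/
theorem over_case [hp : Fact p.Prime] (h : RelAct p P Q C) [Q.Normal] [Fintype Q] {θ : Q → ℂ}
    (hθ : Cfsg.IsIrrCharacter Q θ) (hθP : InvOn P Q θ) :
    (∀ χ : K → ℂ, Cfsg.IsIrrCharacter K χ → H80.IsInv P χ →
      Cfsg.classInner (fun n : Q => χ n) θ ≠ 0 →
      ∃ ξ : C → ℂ, Cfsg.IsIrrCharacter C ξ ∧ InvOn P C ξ ∧ Spec p χ ξ ∧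
        ∀ ξ' : C → ℂ, Cfsg.IsIrrCharacter C ξ' → InvOn P C ξ' → Corr p χ ξ' → ξ' = ξ) ∧
    (∀ ξ : C → ℂ, Cfsg.IsIrrCharacter C ξ → InvOn P C ξ →
      Cfsg.classInner (resTo Q h.le ξ) θ ≠ 0 →
      ∃ χ : K → ℂ, Cfsg.IsIrrCharacter K χ ∧ H80.IsInv P χ ∧ Corr p χ ξ) ∧
    (∀ χ χ' : K → ℂ, Cfsg.IsIrrCharacter K χ → H80.IsInv P χ →
      Cfsg.classInner (fun n : Q => χ n) θ ≠ 0 → Cfsg.IsIrrCharacter K χ' → H80.IsInv P χ' →
      Cfsg.classInner (fun n : Q => χ' n) θ ≠ 0 →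
      ∀ ξ : C → ℂ, Cfsg.IsIrrCharacter C ξ → InvOn P C ξ →
        Cfsg.classInner (resTo Q h.le ξ) θ ≠ 0 → Corr p χ ξ → Corr p χ' ξ → χ = χ') := by
  classical
  have hQ : ∀ (s : P), ∀ q ∈ Q, s • q ∈ Q := fun s q hq => h.smul_mem s hq
  have hCs : ∀ (s : P), ∀ g ∈ C, s • g ∈ C := fun s g hg => h.smul_mem_C s hg
  -- the inertia group in `K`
  set I := inertia Q θ with hIdef
  have hleI : Q ≤ I := le_inertia Q (IsIrr.isClassFunction hθ)
  have hIs : ∀ (s : P), ∀ g ∈ I, s • g ∈ I := fun s g hg => inertia_smul_mem hθP hQ s hg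
  letI actI := resAction I hIs
  have hI := h.sub hIs hleI
  haveI : Fintype (Q.subgroupOf I) := Fintype.ofFinite _
  haveI : Fintype (C.subgroupOf I) := Fintype.ofFinite _
  set eI := Subgroup.subgroupOfEquivOfLe hleI with heI
  let θI : Q.subgroupOf I → ℂ := fun n => θ (eI n)
  have hθI : Cfsg.IsIrrCharacter (Q.subgroupOf I) θI :=
    CharInduce.IsIrr.comp hθ eI.toMonoidHom eI.surjective
  obtain ⟨E1, E2, E3⟩ := ext_case hI hθI
    (fun s n n' e => hθP s (eI n) (eI n') (congrArg Subtype.val e))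
    (fun i => funext fun n => congrFun ((mem_inertia Q).1 i.2) (eI n))
  have overI : ∀ φ : I → ℂ, Cfsg.classInner (fun n : Q.subgroupOf I => φ n) θI
      = Cfsg.classInner (resTo Q hleI φ) θ := fun φ =>
    CharInduce.classInner_comp_mulEquiv eI (resTo Q hleI φ) θ
  -- the inertia group in `C`
  set N := Q.subgroupOf C with hNdef
  haveI : Fintype N := Fintype.ofFinite _
  set eC := Subgroup.subgroupOfEquivOfLe h.le with heC
  let θC : N → ℂ := fun n => θ (eC n)
  have hθC : Cfsg.IsIrrCharacter N θC :=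
    CharInduce.IsIrr.comp hθ eC.toMonoidHom eC.surjective
  letI actC := resAction C hCs
  have hθCP : InvOn P N θC := fun s n n' e => hθP s (eC n) (eC n') (congrArg Subtype.val e)
  have hNs : ∀ (s : P), ∀ n ∈ N, s • n ∈ N := fun s n hn => hQ s _ hn
  set J := inertia N θC with hJdef
  have hleJ : N ≤ J := le_inertia N (IsIrr.isClassFunction hθC)
  have hJ : ∀ c : C, c ∈ J ↔ (c : K) ∈ I := by
    intro c
    constructor
    · intro hc
      funext n
      exact congrFun hc (eC.symm n)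
    · intro hc
      funext n
      exact congrFun hc (eC n)
  haveI : Fintype J := Fintype.ofFinite _
  have hJs : ∀ (s : P), ∀ c ∈ J, s • c ∈ J := fun s c hc => (hJ _).2 (hIs s _ ((hJ c).1 hc))
  let e2 : J ≃* C.subgroupOf I :=
    { toFun := fun j => ⟨⟨((j : C) : K), (hJ j).1 j.2⟩, (j : C).2⟩
      invFun := fun x => ⟨⟨((x : I) : K), x.2⟩, (hJ ⟨_, x.2⟩).2 (x : I).2⟩
      left_inv := fun j => rfl
      right_inv := fun x => rfl
      map_mul' := fun a b => rfl }
  have overC : ∀ ξ : C → ℂ, Cfsg.classInner (fun n : N => ξ n) θC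
      = Cfsg.classInner (resTo Q h.le ξ) θ := fun ξ =>
    CharInduce.classInner_comp_mulEquiv eC (resTo Q h.le ξ) θ
  have overJ : ∀ ζ : C.subgroupOf I → ℂ, Cfsg.classInner (resTo N hleJ fun j => ζ (e2 j)) θC
      = Cfsg.classInner (resTo (Q.subgroupOf I) hI.le ζ) θI := by
    intro ζ
    let ζQ : Q → ℂ := fun n => ζ ⟨⟨n, hleI n.2⟩, h.le n.2⟩
    exact (CharInduce.classInner_comp_mulEquiv eC ζQ θ).trans
      (CharInduce.classInner_comp_mulEquiv eI ζQ θ).symm
  -- invariance across `e2`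
  have invJ : ∀ ζ : C.subgroupOf I → ℂ,
      InvOn P (C.subgroupOf I) ζ ↔ InvOn P J (fun j => ζ (e2 j)) := by
    intro ζ
    refine ⟨fun hz s j j' e => hz s (e2 j) (e2 j') (Subtype.ext ?_), fun hz s x x' e => ?_⟩
    · show ((j' : C) : K) = s • ((j : C) : K)
      exact congrArg Subtype.val e
    · have h1 := hz s (e2.symm x) (e2.symm x') (Subtype.ext ?_)
      · simpa using h1
      · show ((x' : I) : K) = s • ((x : I) : K)
        exact congrArg Subtype.val e
  -- multiplicities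
  have hmult : ∀ φ : I → ℂ, Cfsg.IsIrrCharacter I φ → Cfsg.classInner (resTo Q hleI φ) θ ≠ 0 →
      ∀ ζ : C.subgroupOf I → ℂ, Cfsg.IsIrrCharacter (C.subgroupOf I) ζ →
      Cfsg.classInner (resTo (Q.subgroupOf I) hI.le ζ) θI ≠ 0 →
      Cfsg.classInner (fun c : C => indFun I φ c) (indFun J fun j => ζ (e2 j))
        = Cfsg.classInner (fun x : C.subgroupOf I => φ x) ζ := by
    intro φ hφ hφθ ζ hζ hζθ
    obtain ⟨hirr, hcnt, -⟩ := clifford_correspondence Q hθ hleI hφ hφθ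
    have hξ' : Cfsg.IsIrrCharacter J (fun j => ζ (e2 j)) :=
      CharInduce.IsIrr.comp hζ e2.toMonoidHom e2.surjective
    have hone : Cfsg.classInner (fun t : I => indFun I φ t) φ ≠ 0 := by
      rw [← classInner_indFun_right I φ _ (isClassFunction_indFun I φ), classInner_irr_self hirr]
      exact one_ne_zero
    obtain ⟨r, hr, her⟩ := CharInduce.IsChar.exists_eq_add
      (CharInduce.IsChar.res (IsIrr.isCharacter hirr) I) hφ hone
    have hrθ : Cfsg.classInner (resTo Q hleI r) θ = 0 := by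
      rw [show (fun n : Q => indFun I φ n) = resTo Q hleI φ + resTo Q hleI r by
        rw [← resTo_add, ← her]; rfl, classInner_add_left] at hcnt
      exact add_eq_left.1 hcnt
    let ι : J →* I :=
      { toFun := fun j => ⟨((j : C) : K), (hJ j).1 j.2⟩
        map_one' := rfl
        map_mul' := fun a b => rfl }
    have hrJ : Cfsg.classInner (fun j : J => r (ι j)) (fun j => ζ (e2 j)) = 0 := by
      by_contra hne
      obtain ⟨r', hr', he'⟩ := CharInduce.IsChar.exists_eq_add (CharInduce.IsChar.comp hr ι) hξ' hne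
      have h1 : Cfsg.classInner (resTo N hleJ fun j : J => r (ι j)) θC = 0 :=
        (CharInduce.classInner_comp_mulEquiv eC (resTo Q hleI r) θ).trans hrθ
      rw [he', resTo_add, classInner_add_left, overJ] at h1
      obtain ⟨a, ha⟩ := classInner_isChar_nat
        (CharInduce.isCharacter_resTo (Q.subgroupOf I) hI.le (IsIrr.isCharacter hζ))
        (IsIrr.isCharacter hθI)
      obtain ⟨b, hb⟩ := classInner_isChar_nat (CharInduce.isCharacter_resTo N hleJ hr')
        (IsIrr.isCharacter hθC)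
      rw [ha, hb, ← Nat.cast_add, Nat.cast_eq_zero] at h1
      rw [ha, Nat.cast_ne_zero] at hζθ
      omega
    rw [classInner_indFun_right J _ _ (IsChar.isClassFunction
        (CharInduce.IsChar.res (IsIrr.isCharacter hirr) C)),
      show (fun j : J => indFun I φ ((j : C) : K))
        = (fun j : J => φ (ι j)) + fun j : J => r (ι j) from funext fun j => congrFun her (ι j),
      classInner_add_left, hrJ, add_zero]
    exact CharInduce.classInner_comp_mulEquiv e2 (fun x : C.subgroupOf I => φ x) ζ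
  -- Clifford on `C`
  have overJind : ∀ ζ : C.subgroupOf I → ℂ, Cfsg.IsIrrCharacter (C.subgroupOf I) ζ →
      Cfsg.classInner (resTo (Q.subgroupOf I) hI.le ζ) θI ≠ 0 →
      Cfsg.IsIrrCharacter C (indFun J fun j => ζ (e2 j)) := by
    intro ζ hζ hne
    exact (clifford_correspondence N hθC hleJ (CharInduce.IsIrr.comp hζ e2.toMonoidHom e2.surjective)
      ((overJ ζ).trans_ne hne)).1
  have decompC : ∀ ξ : C → ℂ, Cfsg.IsIrrCharacter C ξ → InvOn P C ξ →
      Cfsg.classInner (resTo Q h.le ξ) θ ≠ 0 →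
      ∃ ζ : C.subgroupOf I → ℂ, Cfsg.IsIrrCharacter (C.subgroupOf I) ζ ∧
        InvOn P (C.subgroupOf I) ζ ∧
        Cfsg.classInner (resTo (Q.subgroupOf I) hI.le ζ) θI ≠ 0 ∧
        indFun J (fun j => ζ (e2 j)) = ξ := by
    intro ξ hξ hξi hne
    rw [← overC] at hne
    obtain ⟨η, hη, hind, f, hf, hres⟩ := exists_clifford_correspondent N hξ hθC hne
    have hηne : Cfsg.classInner (resTo N hleJ η) θC ≠ 0 := by
      rw [show resTo N hleJ η = (f : ℂ) • θC from funext hres, classInner_smul_left,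
        classInner_irr_self hθC, mul_one, Nat.cast_ne_zero]
      exact hf.ne'
    have hηi : InvOn P J η := correspondent_inv hNs hθC hθCP hleJ hη hηne
      (hind.symm ▸ (invOn_iff_isInv hCs ξ).1 hξi)
    refine ⟨fun x => η (e2.symm x), CharInduce.IsIrr.comp hη e2.symm.toMonoidHom e2.symm.surjective,
      ?_, ?_, ?_⟩
    · rw [invJ]; simpa using hηi
    · rw [← overJ]; simpa using hηne
    · simpa using hind
  -- Clifford on `K`
  have decompK : ∀ χ : K → ℂ, Cfsg.IsIrrCharacter K χ → H80.IsInv P χ →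
      Cfsg.classInner (fun n : Q => χ n) θ ≠ 0 →
      ∃ φ : I → ℂ, Cfsg.IsIrrCharacter I φ ∧ H80.IsInv P φ ∧
        Cfsg.classInner (resTo Q hleI φ) θ ≠ 0 ∧ indFun I φ = χ := by
    intro χ hχ hχi hne
    obtain ⟨φ, hφ, hind, f, hf, hres⟩ := exists_clifford_correspondent Q hχ hθ hne
    have hφne : Cfsg.classInner (resTo Q hleI φ) θ ≠ 0 := by
      rw [show resTo Q hleI φ = (f : ℂ) • θ from funext hres, classInner_smul_left,
        classInner_irr_self hθ, mul_one, Nat.cast_ne_zero]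
      exact hf.ne'
    exact ⟨φ, hφ, (invOn_iff_isInv hIs φ).1
      (correspondent_inv hQ hθ hθP hleI hφ hφne (hind.symm ▸ hχi)), hφne, hind⟩
  -- degrees
  have hidx : (I.index : ZMod p) = (J.index : ZMod p) := by
    have h1 := h.index_cast
    have h2 := hI.index_cast
    have k1 : Q.relIndex I * I.index = Q.index := Subgroup.relIndex_mul_index hleI
    have k2 : N.relIndex J * J.index = N.index := Subgroup.relIndex_mul_index hleJ
    have k3 : N.relIndex J = (Q.subgroupOf I).relIndex (C.subgroupOf I) := by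
      show (N.subgroupOf J).index = ((Q.subgroupOf I).subgroupOf (C.subgroupOf I)).index
      have c1 := (N.subgroupOf J).card_mul_index
      have c2 := ((Q.subgroupOf I).subgroupOf (C.subgroupOf I)).card_mul_index
      have d1 : Nat.card (N.subgroupOf J) = Nat.card Q :=
        (Nat.card_congr (Subgroup.subgroupOfEquivOfLe hleJ).toEquiv).trans
          (Nat.card_congr eC.toEquiv)
      have d2 : Nat.card ((Q.subgroupOf I).subgroupOf (C.subgroupOf I)) = Nat.card Q :=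
        (Nat.card_congr (Subgroup.subgroupOfEquivOfLe hI.le).toEquiv).trans
          (Nat.card_congr eI.toEquiv)
      rw [d1, Nat.card_congr e2.toEquiv] at c1
      rw [d2] at c2
      exact Nat.eq_of_mul_eq_mul_left Nat.card_pos (c1.trans c2.symm)
    have hne : (Q.relIndex I : ZMod p) ≠ 0 := fun e =>
      hI.hidx ((CharP.cast_eq_zero_iff (ZMod p) p _).1 e)
    apply mul_left_cancel₀ hne
    rw [← Nat.cast_mul, k1, h1, show Q.relIndex C = N.index from rfl, ← k2, Nat.cast_mul, k3, ← h2]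
    rfl
  refine ⟨fun χ hχ hχi hne => ?_, fun ξ hξ hξi hne => ?_,
    fun χ χ' hχ hχi hne hχ' hχi' hne' ξ hξ hξi hξne hc hc' => ?_⟩
  · obtain ⟨φ, hφ, hφi, hφne, hind⟩ := decompK χ hχ hχi hne
    obtain ⟨ζ, hζ, hζi, hζne, hspec, huniq⟩ := E1 φ hφ hφi (by rw [overI]; exact hφne)
    have hm := hmult φ hφ hφne ζ hζ hζne
    rw [hind] at hm
    refine ⟨indFun J fun j => ζ (e2 j), overJind ζ hζ hζne,
      (invOn_iff_isInv hCs _).2 (ind_inv J hJs ((invJ ζ).1 hζi)), ?_, ?_⟩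
    · obtain ⟨m, a, b, hm1, hm2, ha, hb, hab⟩ := hspec
      refine ⟨m, I.index * a, J.index * b, hm.trans hm1, hm2, ?_, ?_, ?_⟩
      · rw [← hind, indFun_one, ha, Nat.cast_mul]
      · rw [indFun_one, map_one, hb, Nat.cast_mul]
      · rw [Nat.cast_mul, Nat.cast_mul, hidx]
        rcases hab with e | e
        · left; rw [e]
        · right; rw [e, mul_neg]
    · intro ξ' hξ' hξi' hc
      have hover : Cfsg.classInner (resTo Q h.le ξ') θ ≠ 0 := by
        obtain ⟨m, hm', hpm⟩ := hc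
        exact over_of_inner_ne h hχ hθ hθP hne hξ' hξi' (by
          rw [hm', Nat.cast_ne_zero]; exact fun e => hpm (e ▸ dvd_zero p))
      obtain ⟨ζ', hζ', hζi', hζne', hind'⟩ := decompC ξ' hξ' hξi' hover
      obtain ⟨m, hm', hpm⟩ := hc
      have hm2 := hmult φ hφ hφne ζ' hζ' hζne'
      rw [hind, hind', hm'] at hm2
      rw [huniq ζ' hζ' hζne' ⟨m, hm2.symm, hpm⟩] at hind'
      exact hind'.symm
  · obtain ⟨ζ, hζ, hζi, hζne, hind⟩ := decompC ξ hξ hξi hne
    obtain ⟨-, φ, hφ, hφi, hφne, m, hm, hpm⟩ := E2 ζ hζ hζne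
    rw [overI] at hφne
    refine ⟨indFun I φ, (clifford_correspondence Q hθ hleI hφ hφne).1,
      ind_inv I hIs ((invOn_iff_isInv hIs φ).2 hφi), m, ?_, hpm⟩
    rw [← hind, hmult φ hφ hφne ζ hζ hζne, hm]
  · obtain ⟨φ, hφ, hφi, hφne, hind⟩ := decompK χ hχ hχi hne
    obtain ⟨φ', hφ', hφi', hφne', hind'⟩ := decompK χ' hχ' hχi' hne'
    obtain ⟨ζ, hζ, hζi, hζne, hindC⟩ := decompC ξ hξ hξi hξne
    obtain ⟨m, hm, hpm⟩ := hc
    obtain ⟨m', hm', hpm'⟩ := hc'
    rw [← hind, ← hindC, hmult φ hφ hφne ζ hζ hζne] at hm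
    rw [← hind', ← hindC, hmult φ' hφ' hφne' ζ hζ hζne] at hm'
    rw [← hind, ← hind', E3 φ φ' hφ hφi (by rw [overI]; exact hφne) hφ' hφi'
      (by rw [overI]; exact hφne') ζ hζ hζne ⟨m, hm, hpm⟩ ⟨m', hm', hpm'⟩]

/-- The relative correspondence: a bijection between the invariant characters of `K` and `C`. -/
theorem exists_corr [hp : Fact p.Prime] (h : RelAct p P Q C) :
    ∃ f : {χ : Cfsg.IrrCharacter K // H80.IsInv P (χ : K → ℂ)} →
        {ξ : Cfsg.IrrCharacter C // InvOn P C (ξ : C → ℂ)},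
      Function.Bijective f ∧ ∀ χ, Spec p (χ.1 : K → ℂ) ((f χ).1 : C → ℂ) ∧
        ∀ ξ, ξ ≠ f χ → ¬ Corr p (χ.1 : K → ℂ) (ξ.1 : C → ℂ) := by
  classical
  haveI := h.hQn
  haveI : Fintype Q := Fintype.ofFinite _
  have key : ∀ χ : {χ : Cfsg.IrrCharacter K // H80.IsInv P (χ : K → ℂ)},
      ∃ ξ : {ξ : Cfsg.IrrCharacter C // InvOn P C (ξ : C → ℂ)}, Spec p (χ.1 : K → ℂ) (ξ.1 : C → ℂ) ∧
        ∀ ξ', ξ' ≠ ξ → ¬ Corr p (χ.1 : K → ℂ) (ξ'.1 : C → ℂ) := by
    intro χ
    obtain ⟨θ, hθP, hne⟩ := exists_inv_constituent h χ.1.2 χ.2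
    obtain ⟨ξ, hξ, hξi, hs, hu⟩ := (over_case h θ.2 hθP).1 _ χ.1.2 χ.2 hne
    exact ⟨⟨⟨ξ, hξ⟩, hξi⟩, hs, fun ξ' hne' hc =>
      hne' (Subtype.ext (Subtype.ext (hu _ ξ'.1.2 ξ'.2 hc)))⟩
  choose f hs hu using key
  refine ⟨f, ⟨fun χ χ' e => ?_, fun ξ => ?_⟩, fun χ => ⟨hs χ, hu χ⟩⟩
  · obtain ⟨θ, hθP, hne⟩ := exists_inv_constituent_C h (f χ).1.2 (f χ).2
    have hne0 : ∀ η, Cfsg.classInner (fun c : C => (η : {χ : Cfsg.IrrCharacter K //
        H80.IsInv P (χ : K → ℂ)}).1.1 c) ((f η).1 : C → ℂ) ≠ 0 := fun η => by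
      obtain ⟨m, hm, hpm⟩ := (hs η).corr
      rw [hm, Nat.cast_ne_zero]
      exact fun e => hpm (e ▸ dvd_zero p)
    have hχ' := const_of_inner_ne h.le χ'.1.2 (f χ').1.2 (hne0 χ') θ.2 (e ▸ hne)
    exact Subtype.ext (Subtype.ext ((over_case h θ.2 hθP).2.2 _ _ χ.1.2 χ.2
      (const_of_inner_ne h.le χ.1.2 (f χ).1.2 (hne0 χ) θ.2 hne) χ'.1.2 χ'.2 hχ' _ (f χ).1.2 (f χ).2
      hne (hs χ).corr (e ▸ (hs χ').corr)))
  · obtain ⟨θ, hθP, hne⟩ := exists_inv_constituent_C h ξ.1.2 ξ.2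
    obtain ⟨χ, hχ, hχi, hc⟩ := (over_case h θ.2 hθP).2.1 _ ξ.1.2 ξ.2 hne
    exact ⟨⟨⟨χ, hχ⟩, hχi⟩, (by_contra fun hne' => hu ⟨⟨χ, hχ⟩, hχi⟩ ξ (Ne.symm hne') hc)⟩

end Cfsg.Agent.H34.RelGlauberman
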