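import Mathlib
import Cfsg.Agent.H80.GlaubermanAmbient
import Cfsg.Agent.H26.HallExtend
import Cfsg.Agent.CharInduce.CoprimeExt
import Cfsg.Agent.CharInduce.Correspondence
import Cfsg.Agent.CharBasic.Virtual

/-!
Relative Glauberman correspondence, part 1: a p-group acting on a group with normal Sylow
p-subgroup; invariant constituents and canonical extensions.
-/

set_option autoImplicit false
set_option linter.style.haveILetI false

namespace Cfsg.Agent.H34.RelGlauberman

open scoped ComplexConjugate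
open Cfsg.Agent.CharBasic Cfsg.Agent.CharInduce

universe u v

variable {K : Type u} [Group K] {P : Type v} [Group P] [MulDistribMulAction P K] {p : ℕ}

/-- `P` acts, `Q` is a normal Sylow `p`-subgroup, `C` is the preimage of the fixed points -/
structure RelAct (p : ℕ) (P : Type v) [Group P] [MulDistribMulAction P K] (Q C : Subgroup K) : Prop where
  hP : IsPGroup p P
  hQp : IsPGroup p Q
  hQn : Q.Normal
  hidx : ¬ p ∣ Q.index
  hC : ∀ k : K, k ∈ C ↔ ∀ s : P, (s • k) * k⁻¹ ∈ Q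

variable {Q C : Subgroup K}

theorem RelAct.smul_mem [Finite K] [hp : Fact p.Prime] (h : RelAct p P Q C) (s : P) {q : K}
    (hq : q ∈ Q) : s • q ∈ Q := by
  haveI := h.hQn
  obtain ⟨j, hj⟩ := IsPGroup.iff_orderOf.1 h.hQp ⟨q, hq⟩
  rw [Subgroup.orderOf_mk] at hj
  have h1 : (s • q) ^ p ^ j = 1 := by rw [← smul_pow', ← hj, pow_orderOf_eq_one, smul_one]
  have h2 : orderOf (QuotientGroup.mk' Q (s • q)) ∣ p ^ j :=
    orderOf_dvd_of_pow_eq_one (by rw [← map_pow, h1, map_one])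
  have h3 : orderOf (QuotientGroup.mk' Q (s • q)) ∣ Q.index := orderOf_dvd_natCard _
  have h4 := Nat.eq_one_of_dvd_coprimes
    (((hp.out.coprime_iff_not_dvd).2 h.hidx).pow_left j) h2 h3
  exact (QuotientGroup.eq_one_iff _).1 (orderOf_eq_one_iff.1 h4)

theorem RelAct.le [Finite K] [Fact p.Prime] (h : RelAct p P Q C) : Q ≤ C := fun q hq =>
  (h.hC q).2 fun s => Q.mul_mem (h.smul_mem s hq) (Q.inv_mem hq)

theorem RelAct.smul_mem_C [Finite K] [Fact p.Prime] (h : RelAct p P Q C) (s : P) {c : K}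
    (hc : c ∈ C) : s • c ∈ C := by
  have : s • c = (s • c * c⁻¹) * c := by group
  rw [this]
  exact C.mul_mem (h.le ((h.hC c).1 hc s)) hc

/-- the action restricted to an invariant subgroup -/
@[reducible] def resAction (L : Subgroup K) (hL : ∀ (s : P), ∀ g ∈ L, s • g ∈ L) :
    MulDistribMulAction P L where
  smul s g := ⟨s • (g : K), hL s g g.2⟩
  one_smul g := Subtype.ext (one_smul P (g : K))
  mul_smul s t g := Subtype.ext (mul_smul s t (g : K))
  smul_mul s g h := Subtype.ext (smul_mul' s (g : K) (h : K))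
  smul_one s := Subtype.ext (smul_one s : s • (1 : K) = 1)

theorem RelAct.sub [Finite K] [Fact p.Prime] (h : RelAct p P Q C) {L : Subgroup K}
    (hL : ∀ (s : P), ∀ g ∈ L, s • g ∈ L) (hQL : Q ≤ L) :
    @RelAct L _ p P _ (resAction L hL) (Q.subgroupOf L) (C.subgroupOf L) := by
  letI := resAction L hL
  haveI := h.hQn
  refine ⟨h.hP, h.hQp.comap_subtype, inferInstance, fun hd => h.hidx ?_, fun k => ?_⟩
  · exact hd.trans (Subgroup.relIndex_dvd_index_of_normal Q L)
  · rw [Subgroup.mem_subgroupOf, h.hC]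
    rfl

/-- the action on the quotient -/
@[reducible] def quotAction [Finite K] [Fact p.Prime] (h : RelAct p P Q C) [Q.Normal] :
    MulDistribMulAction P (K ⧸ Q) where
  smul s := QuotientGroup.map Q Q (MulDistribMulAction.toMonoidHom K s)
    (fun q hq => h.smul_mem s hq)
  one_smul x := by
    induction x using QuotientGroup.induction_on with
    | H g => exact congrArg QuotientGroup.mk (one_smul P g)
  mul_smul s t x := by
    induction x using QuotientGroup.induction_on with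
    | H g => exact congrArg QuotientGroup.mk (mul_smul s t g)
  smul_mul s x y := map_mul _ x y
  smul_one s := map_one _

theorem RelAct.mem_map_iff [Finite K] [Fact p.Prime] (h : RelAct p P Q C) [Q.Normal] (x : K ⧸ Q) :
    letI := quotAction h
    x ∈ C.map (QuotientGroup.mk' Q) ↔ ∀ s : P, s • x = x := by
  letI := quotAction h
  obtain ⟨k, rfl⟩ := QuotientGroup.mk'_surjective Q x
  have hfix : (∀ s : P, s • (QuotientGroup.mk' Q k) = QuotientGroup.mk' Q k) ↔ k ∈ C := by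
    rw [h.hC]
    refine forall_congr' fun s => ?_
    show QuotientGroup.mk' Q (s • k) = QuotientGroup.mk' Q k ↔ _
    rw [← mul_inv_eq_one, ← map_inv, ← map_mul]
    exact QuotientGroup.eq_one_iff _
  rw [hfix]
  refine ⟨fun hx => ?_, fun hk => ⟨k, hk, rfl⟩⟩
  obtain ⟨c, hc, hck⟩ := hx
  have hm : c⁻¹ * k ∈ Q := by
    rw [← QuotientGroup.eq]
    exact hck
  rw [show k = c * (c⁻¹ * k) by group]
  exact C.mul_mem hc (h.le hm)

theorem RelAct.index_cast [Finite K] [Fact p.Prime] (h : RelAct p P Q C) :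
    (Q.index : ZMod p) = (Q.relIndex C : ZMod p) := by
  haveI := h.hQn
  letI := quotAction h
  have h1 := h.hP.card_modEq_card_fixedPoints (α := K ⧸ Q)
  have h2 : Nat.card (MulAction.fixedPoints P (K ⧸ Q)) = Nat.card (C.map (QuotientGroup.mk' Q)) :=
    Nat.card_congr (Equiv.subtypeEquivRight fun x => (h.mem_map_iff x).symm)
  rw [h2] at h1
  have h3 : Q.relIndex C = Nat.card (C.map (QuotientGroup.mk' Q)) := by
    have e := Subgroup.relIndex_ker (K := C) (QuotientGroup.mk' Q)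
    rwa [QuotientGroup.ker_mk'] at e
  rw [h3]
  exact (ZMod.natCast_eq_natCast_iff _ _ _).2 h1

/-- invariance of a function on a subgroup -/
def InvOn (P : Type v) [Group P] [MulDistribMulAction P K] (L : Subgroup K) (f : L → ℂ) : Prop :=
  ∀ (s : P) (n n' : L), (n' : K) = s • (n : K) → f n' = f n

theorem InvOn.conjFun [Q.Normal] {θ : Q → ℂ} (hθ : InvOn P Q θ)
    (hQ : ∀ (s : P), ∀ q ∈ Q, s • q ∈ Q) (s : P) (x : K) (n : Q) :
    CharInduce.conjFun Q θ (s • x) ⟨s • (n : K), hQ s n n.2⟩ = CharInduce.conjFun Q θ x n := by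
  refine hθ s ⟨_, _⟩ ⟨_, _⟩ ?_
  simp only [smul_mul', smul_inv']

/-- the inertia group of an invariant character is invariant -/
theorem inertia_smul_mem [Fintype K] [Q.Normal] {θ : Q → ℂ} (hθ : InvOn P Q θ)
    (hQ : ∀ (s : P), ∀ q ∈ Q, s • q ∈ Q) (s : P) {x : K} (hx : x ∈ CharInduce.inertia Q θ) :
    s • x ∈ CharInduce.inertia Q θ := by
  rw [CharInduce.mem_inertia] at hx ⊢
  funext n
  have h1 := hθ.conjFun hQ s x ⟨s⁻¹ • (n : K), hQ s⁻¹ n n.2⟩
  rw [show (⟨s • ((⟨s⁻¹ • (n : K), hQ s⁻¹ n n.2⟩ : Q) : K), hQ s _ (hQ s⁻¹ n n.2)⟩ : Q) = n from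
    Subtype.ext (smul_inv_smul s (n : K)), hx] at h1
  rw [h1]
  exact (hθ s _ _ (smul_inv_smul s (n : K)).symm).symm

/-- an invariant character has an invariant constituent on `Q` -/
theorem exists_inv_constituent [Fintype K] [hp : Fact p.Prime] (h : RelAct p P Q C) [Q.Normal]
    [Fintype Q] {χ : K → ℂ} (hχ : Cfsg.IsIrrCharacter K χ) (hinv : H80.IsInv P χ) :
    ∃ θ : Cfsg.IrrCharacter Q, InvOn P Q (θ : Q → ℂ) ∧
      Cfsg.classInner (fun n : Q => χ n) (θ : Q → ℂ) ≠ 0 := by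
  classical
  have hres := CharInduce.IsChar.res (IsIrr.isCharacter hχ) Q
  obtain ⟨θ₀, hθ₀⟩ := exists_constituent hres
    (fun e => IsIrr.one_ne_zero hχ (by simpa using congrFun e 1))
  let S := {ψ : Cfsg.IrrCharacter Q // Cfsg.classInner (fun n : Q => χ n) (ψ : Q → ℂ) ≠ 0}
  letI aQ : MulDistribMulAction P Q := resAction Q (fun s q hq => h.smul_mem s hq)
  letI aI : MulAction P (Cfsg.IrrCharacter Q) := H80.irrAction P
  have hclosed : ∀ (s : P) (ψ : Cfsg.IrrCharacter Q),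
      Cfsg.classInner (fun n : Q => χ n) (ψ : Q → ℂ) ≠ 0 →
      Cfsg.classInner (fun n : Q => χ n) ((s • ψ : Cfsg.IrrCharacter Q) : Q → ℂ) ≠ 0 := by
    intro s ψ hψ
    have e : (fun n : Q => χ n) = fun n : Q => (fun m : Q => χ m) (MulDistribMulAction.toMulEquiv Q s⁻¹ n) :=
      funext fun n => (hinv s⁻¹ (n : K)).symm
    rw [e]
    show Cfsg.classInner (fun n : Q => (fun m : Q => χ m) (MulDistribMulAction.toMulEquiv Q s⁻¹ n))
      (fun n : Q => (ψ : Q → ℂ) (MulDistribMulAction.toMulEquiv Q s⁻¹ n)) ≠ 0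
    have h1 := CharInduce.classInner_comp_mulEquiv (MulDistribMulAction.toMulEquiv Q s⁻¹)
      (fun m : Q => χ m) (ψ : Q → ℂ)
    exact h1.trans_ne hψ
  letI : MulAction P S :=
    { smul := fun s ψ => ⟨s • ψ.1, hclosed s ψ.1 ψ.2⟩
      one_smul := fun ψ => Subtype.ext (one_smul P ψ.1)
      mul_smul := fun s t ψ => Subtype.ext (mul_smul s t ψ.1) }
  have hcard : Nat.card S = (CharInduce.inertia Q (θ₀ : Q → ℂ)).index := by
    set I := CharInduce.inertia Q (θ₀ : Q → ℂ) with hI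
    have hcl := IsIrr.isClassFunction hχ
    have hrel : ∀ x y : K, x⁻¹ * y ∈ I ↔
        CharInduce.conjFun Q (θ₀ : Q → ℂ) x⁻¹ = CharInduce.conjFun Q (θ₀ : Q → ℂ) y⁻¹ := by
      intro x y
      rw [CharInduce.conjFun_eq_iff, inv_inv]
    let f : K → S := fun x => ⟨⟨CharInduce.conjFun Q (θ₀ : Q → ℂ) x⁻¹, isIrrCharacter_conjFun Q θ₀.2 x⁻¹⟩,
      by show Cfsg.classInner (fun n : Q => χ n) (CharInduce.conjFun Q (θ₀ : Q → ℂ) x⁻¹) ≠ 0
         rw [classInner_res_conjFun Q hcl]; exact hθ₀⟩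
    let F : K ⧸ I → S := Quotient.lift f fun x y hxy => by
      have : x⁻¹ * y ∈ I := QuotientGroup.leftRel_apply.1 hxy
      exact Subtype.ext (Subtype.ext ((hrel x y).1 this))
    have hF : Function.Bijective F := by
      constructor
      · intro a b
        induction a using QuotientGroup.induction_on with
        | H x =>
          induction b using QuotientGroup.induction_on with
          | H y =>
            intro e
            exact QuotientGroup.eq.2 ((hrel x y).2 (congrArg (fun z : S => ((z.1 : Q → ℂ))) e))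
      · intro ψ
        obtain ⟨x, hx⟩ := exists_conjFun_eq_of_constituent Q hχ θ₀.2 ψ.1.2 hθ₀ ψ.2
        refine ⟨((x⁻¹ : K) : K ⧸ I), Subtype.ext (Subtype.ext ?_)⟩
        show CharInduce.conjFun Q (θ₀ : Q → ℂ) x⁻¹⁻¹ = _
        rw [inv_inv, hx]
    rw [← Nat.card_eq_of_bijective F hF]
    rfl
  have hndvd : ¬ p ∣ Nat.card S := by
    rw [hcard]
    exact fun hd => h.hidx (hd.trans (Subgroup.index_dvd_of_le
      (CharInduce.le_inertia Q (IsIrr.isClassFunction θ₀.2))))
  obtain ⟨ψ, hψ⟩ := h.hP.nonempty_fixed_point_of_prime_not_dvd_card S hndvd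
  refine ⟨ψ.1, fun s n n' e => ?_, ψ.2⟩
  have h1 : (ψ.1 : Q → ℂ) ((s⁻¹)⁻¹ • n) = (ψ.1 : Q → ℂ) n :=
    congrFun (congrArg (fun z : S => (z.1 : Q → ℂ)) (hψ s⁻¹)) n
  rw [inv_inv] at h1
  rwa [show n' = s • n from Subtype.ext e]

/-- conjugate invariant characters are conjugate under the fixed points -/
theorem exists_conj_fixed [Fintype K] [hp : Fact p.Prime] (h : RelAct p P Q C) [Q.Normal]
    {θ θ' : Q → ℂ} (hθc : Cfsg.IsClassFunction Q θ) (hθ : InvOn P Q θ) (hθ' : InvOn P Q θ')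
    {k : K} (hk : θ' = CharInduce.conjFun Q θ k) :
    ∃ c ∈ C, θ' = CharInduce.conjFun Q θ c := by
  classical
  letI := quotAction h
  have hQ : ∀ (s : P), ∀ q ∈ Q, s • q ∈ Q := fun s q hq => h.smul_mem s hq
  set I := CharInduce.inertia Q θ with hI
  set T := I.map (QuotientGroup.mk' Q) with hT
  have hsk : ∀ s : P, (s • k) * k⁻¹ ∈ I := by
    intro s
    rw [hI, ← CharInduce.conjFun_eq_iff, ← hk]
    funext n
    have h1 := hθ.conjFun hQ s k ⟨s⁻¹ • (n : K), hQ s⁻¹ n n.2⟩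
    rw [show (⟨s • ((⟨s⁻¹ • (n : K), hQ s⁻¹ n n.2⟩ : Q) : K), hQ s _ (hQ s⁻¹ n n.2)⟩ : Q) = n from
      Subtype.ext (smul_inv_smul s (n : K)), ← hk] at h1
    rw [h1]
    exact (hθ' s _ _ (smul_inv_smul s (n : K)).symm).symm
  let X := {x : K ⧸ Q // x * (QuotientGroup.mk' Q k)⁻¹ ∈ T}
  have hclosed : ∀ (s : P) (x : K ⧸ Q), x * (QuotientGroup.mk' Q k)⁻¹ ∈ T →
      s • x * (QuotientGroup.mk' Q k)⁻¹ ∈ T := by
    rintro s x ⟨i, hi, hix⟩
    refine ⟨(s • i) * ((s • k) * k⁻¹), I.mul_mem (inertia_smul_mem hθ hQ s hi) (hsk s), ?_⟩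
    have hx : x = QuotientGroup.mk' Q (i * k) := by
      rw [map_mul, hix, inv_mul_cancel_right]
    rw [hx]
    show _ = QuotientGroup.mk' Q (s • (i * k)) * _
    rw [← map_inv, ← map_mul, smul_mul', mul_assoc]
  letI : MulAction P X :=
    { smul := fun s x => ⟨s • x.1, hclosed s x.1 x.2⟩
      one_smul := fun x => Subtype.ext (one_smul P x.1)
      mul_smul := fun s t x => Subtype.ext (mul_smul s t x.1) }
  have hcard : Nat.card X = Nat.card T := Nat.card_congr
    { toFun := fun x => ⟨x.1 * (QuotientGroup.mk' Q k)⁻¹, x.2⟩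
      invFun := fun t => ⟨t.1 * QuotientGroup.mk' Q k, by rw [mul_inv_cancel_right]; exact t.2⟩
      left_inv := fun x => Subtype.ext (inv_mul_cancel_right _ _)
      right_inv := fun t => Subtype.ext (mul_inv_cancel_right _ _) }
  have hndvd : ¬ p ∣ Nat.card X := by
    rw [hcard]
    exact fun hd => h.hidx (hd.trans (Subgroup.card_subgroup_dvd_card T))
  obtain ⟨x, hx⟩ := h.hP.nonempty_fixed_point_of_prime_not_dvd_card X hndvd
  obtain ⟨c, hc, hcx⟩ := (h.mem_map_iff x.1).2 fun s => congrArg Subtype.val (hx s)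
  obtain ⟨i, hi, hix⟩ := x.2
  refine ⟨c, hc, ?_⟩
  have hmem : c * k⁻¹ ∈ I := by
    have h1 : QuotientGroup.mk' Q (c * k⁻¹) = QuotientGroup.mk' Q i := by
      rw [map_mul, hcx, map_inv, hix]
    have h2 : i⁻¹ * (c * k⁻¹) ∈ Q := QuotientGroup.eq.1 h1.symm
    rw [show c * k⁻¹ = i * (i⁻¹ * (c * k⁻¹)) by group]
    exact I.mul_mem hi (CharInduce.le_inertia Q hθc h2)
  rw [hk]
  exact ((CharInduce.conjFun_eq_iff Q θ c k).2 hmem).symm

/-- a character with irreducible restriction is irreducible -/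
theorem isIrr_of_res_irr [Fintype K] (N : Subgroup K) [Fintype N] {χ : K → ℂ}
    (hχ : Cfsg.IsCharacter K χ) {θ : N → ℂ} (hθ : Cfsg.IsIrrCharacter N θ)
    (hres : ∀ n : N, χ n = θ n) : Cfsg.IsIrrCharacter K χ := by
  classical
  obtain ⟨ψ, hψ⟩ := exists_constituent hχ (fun e => IsIrr.one_ne_zero hθ (by
    rw [← hres 1, e]; rfl))
  obtain ⟨r, hr, he⟩ := CharInduce.IsChar.exists_eq_add hχ ψ.2 hψ
  by_cases hr0 : r = 0
  · rw [he, hr0, add_zero]; exact ψ.2
  exfalso
  have key : ∀ a b : N → ℂ, Cfsg.IsCharacter N a → Cfsg.IsCharacter N b → a + b = θ → a ≠ 0 →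
      ∃ m : ℕ, 0 < m ∧ Cfsg.classInner a θ = m := by
    intro a b ha hb hab ha0
    obtain ⟨φ, hφ⟩ := exists_constituent ha ha0
    obtain ⟨i, hi⟩ := classInner_isChar_nat ha (IsIrr.isCharacter φ.2)
    obtain ⟨j, hj⟩ := classInner_isChar_nat hb (IsIrr.isCharacter φ.2)
    have hi0 : 0 < i := Nat.pos_of_ne_zero fun h0 => hφ (by rw [hi, h0, Nat.cast_zero])
    by_cases hφθ : (φ : N → ℂ) = θ
    · exact ⟨i, hi0, hφθ ▸ hi⟩
    · exfalso
      have h1 := classInner_irr_of_ne hθ φ.2 (Ne.symm hφθ)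
      rw [← hab, classInner_add_left, hi, hj, ← Nat.cast_add, Nat.cast_eq_zero] at h1
      omega
  have hadd : (fun n : N => (ψ : K → ℂ) n) + (fun n : N => r n) = θ := by
    funext n
    rw [← hres n, he]; rfl
  obtain ⟨a, ha0, ha⟩ := key _ _ (CharInduce.IsChar.res (IsIrr.isCharacter ψ.2) N)
    (CharInduce.IsChar.res hr N) hadd (fun e => IsIrr.one_ne_zero ψ.2 (by simpa using congrFun e 1))
  obtain ⟨b, hb0, hb⟩ := key _ _ (CharInduce.IsChar.res hr N)
    (CharInduce.IsChar.res (IsIrr.isCharacter ψ.2) N) (by rw [add_comm]; exact hadd)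
    (fun e => hr0 (CharInduce.IsChar.eq_zero_of_one_eq_zero hr (by simpa using congrFun e 1)))
  have h1 := classInner_irr_self hθ
  conv_lhs at h1 => arg 1; rw [← hadd]
  rw [classInner_add_left, ha, hb, ← Nat.cast_add, Nat.cast_eq_one] at h1
  omega

/-- the canonical extension: determinantal order prime to the index -/
def IsCanonExt (N : Subgroup K) (θ : N → ℂ) (χ : K → ℂ) : Prop :=
  Cfsg.IsIrrCharacter K χ ∧ (∀ n : N, χ n = θ n) ∧
    ∃ μ : K →* ℂˣ, detChar χ = (fun g => (μ g : ℂ)) ∧ N.index.Coprime (orderOf μ)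

variable [Fintype K]

theorem exists_canonExt (N : Subgroup K) [N.Normal] (hcop : (Nat.card N).Coprime N.index)
    {θ : N → ℂ} (hθ : Cfsg.IsIrrCharacter N θ) (hinv : ∀ x : K, CharInduce.conjFun N θ x = θ) :
    ∃ χ : K → ℂ, IsCanonExt N θ χ ∧ ∀ χ' : K → ℂ, IsCanonExt N θ χ' → χ' = χ := by
  haveI : Fintype N := Fintype.ofFinite _
  obtain ⟨η, hη, hres⟩ := H26.HallExtend.exists_extension_hall (K := N) hcop hθ hinv
  obtain ⟨d, -, hd, hdvd, -⟩ := IsIrr.degree_dvd hθ
  have hcd : N.index.Coprime d := (hcop.coprime_dvd_left hdvd).symm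
  obtain ⟨D, hD⟩ := exists_detChar_eq_hom (IsIrr.isCharacter hη)
  obtain ⟨l, hl⟩ := exists_detChar_eq_hom (IsIrr.isCharacter hθ)
  have hDl : ∀ n : N, D (n : K) = l n := fun n => Units.ext (by
    have h1 : detChar η (n : K) = detChar θ n := detChar_res N (IsIrr.isCharacter hη) hres n
    rw [hD, hl] at h1
    exact h1)
  obtain ⟨μ, hμN, hμo, hμu⟩ := exists_hom_extension_coprime (N := N) l (fun g n => by
      rw [← hDl, ← hDl]
      show D (g * n * g⁻¹) = D n
      rw [map_mul, map_mul, map_inv, mul_comm (D g), mul_assoc, mul_inv_cancel, mul_one])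
    (hcop.coprime_dvd_left (orderOf_hom_dvd_card l)).symm
  have hμ' : ∀ n : N, (μ n : ℂ) = detChar θ n := fun n => by
    rw [hμN n, hl]
  obtain ⟨χ, ⟨hχ, hχres, hχdet⟩, huniq⟩ := exists_unique_extension_det hθ hd hcd hη hres μ hμ'
  refine ⟨χ, ⟨hχ, hχres, μ, hχdet, by rw [hμo]; exact (hcop.coprime_dvd_left (orderOf_hom_dvd_card l)).symm⟩, ?_⟩
  rintro χ' ⟨hχ', hres', μ', hdet', hcop'⟩
  have hμ'N : ∀ n : N, μ' (n : K) = l n := fun n => Units.ext (by
    have h1 : detChar χ' (n : K) = detChar θ n := detChar_res N (IsIrr.isCharacter hχ') hres' n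
    rw [hdet', hl] at h1
    exact h1)
  rw [hμu μ' hμ'N hcop'] at hdet'
  exact huniq χ' ⟨hχ', hres', hdet'⟩

/-- uniqueness makes the canonical extension invariant -/
theorem canonExt_inv {N : Subgroup K} (hN : ∀ (s : P), ∀ n ∈ N, s • n ∈ N) {θ : N → ℂ}
    (hθ : InvOn P N θ) {χ : K → ℂ} (hχ : IsCanonExt N θ χ)
    (huniq : ∀ χ' : K → ℂ, IsCanonExt N θ χ' → χ' = χ) : H80.IsInv P χ := by
  intro s g
  obtain ⟨hirr, hres, μ, hdet, hcop⟩ := hχ
  set e : K ≃* K := MulDistribMulAction.toMulEquiv K s with he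
  have key : (fun x => χ (e x)) = χ := by
    refine huniq _ ⟨H80.isIrrCharacter_comp_mulEquiv e hirr, fun n => ?_, μ.comp e.toMonoidHom, ?_, ?_⟩
    · show χ (s • (n : K)) = θ n
      rw [show s • (n : K) = ((⟨s • (n : K), hN s n n.2⟩ : N) : K) from rfl, hres]
      exact hθ s n _ rfl
    · obtain ⟨m, ρ, hρ, hρχ⟩ := id hirr
      funext x
      have h1 := congrFun (detChar_eq ρ hρχ) (e x)
      rw [hdet] at h1
      rw [detChar_eq (ρ.comp e.toMonoidHom : Representation ℂ K (Fin m → ℂ)) (funext fun y => by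
        show LinearMap.trace ℂ (Fin m → ℂ) (ρ (e y)) = χ (e y)
        rw [← hρχ]; rfl)]
      exact h1.symm
    · refine hcop.coprime_dvd_right (orderOf_dvd_of_pow_eq_one ?_)
      refine MonoidHom.ext fun x => ?_
      exact DFunLike.congr_fun (pow_orderOf_eq_one μ) (e x)
  exact congrFun key g

end Cfsg.Agent.H34.RelGlauberman
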