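import Cfsg.Agent.H34.RelGlaubermanAct

/-!
Relative Glauberman correspondence, part 2: the case of a character of `Q` invariant in `K`.
-/

set_option autoImplicit false
set_option linter.style.haveILetI false

namespace Cfsg.Agent.H34.RelGlauberman

open scoped ComplexConjugate
open Cfsg.Agent.CharBasic Cfsg.Agent.CharInduce Cfsg.Agent.BlockBasic

universe u v

section Gallagher

variable {G : Type u} [Group G] [Fintype G] {H : Type u} [Group H] [Finite H]

/-- an irreducible character trivial on the kernel of a surjection is inflated -/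
theorem exists_deflate_surj (f : G →* H) (hf : Function.Surjective f) {χ : G → ℂ}
    (hχ : Cfsg.IsIrrCharacter G χ) (hker : ∀ n ∈ f.ker, χ n = χ 1) :
    ∃ γ : Cfsg.IrrCharacter H, ∀ g : G, χ g = (γ : H → ℂ) (f g) := by
  obtain ⟨ψ, -, hψ, hirr⟩ := CharInduce.IsChar.exists_deflate (IsIrr.isCharacter hχ) f.ker hker
  set e := QuotientGroup.quotientKerEquivOfSurjective f hf with he
  refine ⟨⟨fun x => ψ (e.symm x), CharInduce.IsIrr.comp (hirr hχ) e.symm.toMonoidHom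
    e.symm.surjective⟩, fun g => ?_⟩
  show χ g = ψ (e.symm (f g))
  rw [hψ g, show e.symm (f g) = (g : G ⧸ f.ker) from
    e.injective (by rw [MulEquiv.apply_symm_apply]; rfl)]

/-- Gallagher's theorem for a surjection with kernel `N` -/
theorem gallagher_quot (f : G →* H) (hf : Function.Surjective f) (N : Subgroup G) [N.Normal]
    [Fintype N] (hker : f.ker = N) {θ : N → ℂ} (hθ : Cfsg.IsIrrCharacter N θ)
    (hinv : ∀ x : G, CharInduce.conjFun N θ x = θ) {η : G → ℂ} (hη : Cfsg.IsIrrCharacter G η)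
    (hext : ∀ n : N, η n = θ n) :
    (∀ γ : Cfsg.IrrCharacter H, Cfsg.IsIrrCharacter G (fun g => (γ : H → ℂ) (f g) * η g) ∧
      Cfsg.classInner (fun n : N => (γ : H → ℂ) (f n) * η n) θ ≠ 0) ∧
    (∀ γ γ' : Cfsg.IrrCharacter H, (∀ g, (γ : H → ℂ) (f g) * η g = (γ' : H → ℂ) (f g) * η g) →
      γ = γ') ∧
    (∀ ψ : G → ℂ, Cfsg.IsIrrCharacter G ψ → Cfsg.classInner (fun n : N => ψ n) θ ≠ 0 →
      ∃ γ : Cfsg.IrrCharacter H, ∀ g, ψ g = (γ : H → ℂ) (f g) * η g) := by
  classical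
  cases nonempty_fintype H
  have hmul : ((fun _ : N => (1 : ℂ)) * θ) = θ := funext fun n => one_mul _
  obtain ⟨h1, h2, h3⟩ := gallagher N (φ := fun _ => 1) isIrrCharacter_one hθ
    (conjFun_one_char N) hinv (hmul.symm ▸ hθ) hη hext
  rw [hmul] at h1 h3
  have habove : ∀ β : Cfsg.IrrCharacter G,
      β ∈ above N (fun _ => 1) ↔ ∀ n ∈ N, (β : G → ℂ) n = (β : G → ℂ) 1 := by
    intro β
    rw [mem_above, ← constituent_one_iff N β.2,
      classInner_indFun_left N _ _ (IsIrr.isClassFunction β.2), ← conj_classInner (fun _ : N => (1 : ℂ))]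
    simp
  let B : Cfsg.IrrCharacter H → Cfsg.IrrCharacter G := fun γ =>
    ⟨fun g => (γ : H → ℂ) (f g), CharInduce.IsIrr.comp γ.2 f hf⟩
  have hB : ∀ γ, B γ ∈ above N (fun _ => 1) := fun γ => (habove _).2 fun n hn => by
    show (γ : H → ℂ) (f n) = (γ : H → ℂ) (f 1)
    rw [map_one, (MonoidHom.mem_ker).1 (hker.symm ▸ hn : n ∈ f.ker)]
  refine ⟨fun γ => ⟨(h1 _ (hB γ)).1, ?_⟩, fun γ γ' e => ?_, fun ψ hψ hne => ?_⟩
  · rw [show (fun n : N => (γ : H → ℂ) (f n) * η n) = (γ : H → ℂ) 1 • θ from funext fun n => by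
      rw [Pi.smul_apply, smul_eq_mul, hext,
        (MonoidHom.mem_ker).1 (hker.symm ▸ n.2 : (n : G) ∈ f.ker)],
      classInner_smul_left, classInner_irr_self hθ, mul_one]
    exact IsIrr.one_ne_zero γ.2
  · have h4 := h2 _ (hB γ) _ (hB γ') (funext e)
    refine Subtype.ext (funext fun x => ?_)
    obtain ⟨g, rfl⟩ := hf x
    exact congrFun (congrArg Subtype.val h4) g
  · obtain ⟨β, hβ, he⟩ := h3 ψ hψ (by
      rw [classInner_indFun_left N _ _ (IsIrr.isClassFunction hψ)]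
      intro h0
      apply hne
      rw [← conj_classInner, h0, map_zero])
    obtain ⟨γ, hγ⟩ := exists_deflate_surj f hf β.2 (fun n hn => (habove β).1 hβ n (hker ▸ hn))
    exact ⟨γ, fun g => by rw [← he, Pi.mul_apply, hγ]⟩

end Gallagher

variable {K : Type u} [Group K] [Fintype K] {P : Type v} [Group P] [MulDistribMulAction P K]
  {p : ℕ} {Q C : Subgroup K} [Fintype C]

/-- multiplicity prime to `p` -/
def Corr (p : ℕ) (χ : K → ℂ) (ξ : C → ℂ) : Prop :=
  ∃ m : ℕ, Cfsg.classInner (fun c : C => χ c) ξ = (m : ℂ) ∧ ¬ p ∣ m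

/-- the numerical properties of corresponding characters -/
def Spec (p : ℕ) (χ : K → ℂ) (ξ : C → ℂ) : Prop :=
  ∃ m a b : ℕ, Cfsg.classInner (fun c : C => χ c) ξ = (m : ℂ) ∧
    ((m : ZMod p) = 1 ∨ (m : ZMod p) = -1) ∧ χ 1 = (a : ℂ) ∧ ξ 1 = (b : ℂ) ∧
    ((b : ZMod p) = (a : ZMod p) ∨ (b : ZMod p) = -(a : ZMod p))

theorem Spec.corr [hp : Fact p.Prime] {χ : K → ℂ} {ξ : C → ℂ} (h : Spec p χ ξ) : Corr p χ ξ := by
  obtain ⟨m, a, b, hm, hm1, -⟩ := h
  refine ⟨m, hm, fun hd => ?_⟩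
  rw [(CharP.cast_eq_zero_iff (ZMod p) p _).2 hd] at hm1
  rcases hm1 with h | h
  · exact zero_ne_one h
  · exact one_ne_zero (neg_eq_zero.1 h.symm)

set_option maxHeartbeats 1000000 in
/-- The correspondence over a character of `Q` that is invariant in `K`. -/
theorem ext_case [hp : Fact p.Prime] (h : RelAct p P Q C) [Q.Normal] [Fintype Q] {θ : Q → ℂ}
    (hθ : Cfsg.IsIrrCharacter Q θ) (hθP : InvOn P Q θ)
    (hθK : ∀ x : K, CharInduce.conjFun Q θ x = θ) :
    (∀ χ : K → ℂ, Cfsg.IsIrrCharacter K χ → H80.IsInv P χ →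
      Cfsg.classInner (fun n : Q => χ n) θ ≠ 0 →
      ∃ ξ : C → ℂ, Cfsg.IsIrrCharacter C ξ ∧ InvOn P C ξ ∧
        Cfsg.classInner (resTo Q h.le ξ) θ ≠ 0 ∧ Spec p χ ξ ∧
        ∀ ξ' : C → ℂ, Cfsg.IsIrrCharacter C ξ' → Cfsg.classInner (resTo Q h.le ξ') θ ≠ 0 →
          Corr p χ ξ' → ξ' = ξ) ∧
    (∀ ξ : C → ℂ, Cfsg.IsIrrCharacter C ξ → Cfsg.classInner (resTo Q h.le ξ) θ ≠ 0 →
      InvOn P C ξ ∧ ∃ χ : K → ℂ, Cfsg.IsIrrCharacter K χ ∧ H80.IsInv P χ ∧
        Cfsg.classInner (fun n : Q => χ n) θ ≠ 0 ∧ Corr p χ ξ) ∧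
    (∀ χ χ' : K → ℂ, Cfsg.IsIrrCharacter K χ → H80.IsInv P χ →
      Cfsg.classInner (fun n : Q => χ n) θ ≠ 0 → Cfsg.IsIrrCharacter K χ' → H80.IsInv P χ' →
      Cfsg.classInner (fun n : Q => χ' n) θ ≠ 0 →
      ∀ ξ : C → ℂ, Cfsg.IsIrrCharacter C ξ → Cfsg.classInner (resTo Q h.le ξ) θ ≠ 0 →
        Corr p χ ξ → Corr p χ' ξ → χ = χ') := by
  classical
  have hQ : ∀ (s : P), ∀ q ∈ Q, s • q ∈ Q := fun s q hq => h.smul_mem s hq
  have hcop : (Nat.card Q).Coprime Q.index := by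
    obtain ⟨a, ha⟩ := IsPGroup.iff_card.1 h.hQp
    rw [ha]
    exact ((hp.out.coprime_iff_not_dvd).2 h.hidx).pow_left a
  obtain ⟨η, hη, hηu⟩ := exists_canonExt Q hcop hθ hθK
  have hηinv : H80.IsInv P η := canonExt_inv hQ hθP hη hηu
  obtain ⟨G1, G2, G3⟩ := gallagher_quot (QuotientGroup.mk' Q) (QuotientGroup.mk'_surjective Q) Q
    (QuotientGroup.ker_mk' Q) hθ hθK hη.1 hη.2.1
  -- the fixed points
  set N : Subgroup C := Q.subgroupOf C with hN
  haveI : Fintype N := Fintype.ofFinite _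
  set φ : C →* (C.map (QuotientGroup.mk' Q)) := (QuotientGroup.mk' Q).subgroupMap C with hφ
  have hφker : φ.ker = N := by
    ext c
    rw [MonoidHom.mem_ker, ← Subtype.coe_inj, hN, Subgroup.mem_subgroupOf]
    exact QuotientGroup.eq_one_iff _
  set e := Subgroup.subgroupOfEquivOfLe h.le with he
  let θC : N → ℂ := fun n => θ (e n)
  have hθC : Cfsg.IsIrrCharacter N θC := CharInduce.IsIrr.comp hθ e.toMonoidHom e.surjective
  have hθCinv : ∀ x : C, CharInduce.conjFun N θC x = θC := fun x => funext fun n =>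
    congrFun (hθK (x : K)) (e n)
  let ηC : C → ℂ := fun c => η c
  have hηC : Cfsg.IsIrrCharacter C ηC := isIrr_of_res_irr N
    (CharInduce.IsChar.res (IsIrr.isCharacter hη.1) C) hθC (fun n => hη.2.1 (e n))
  obtain ⟨C1, C2, C3⟩ := gallagher_quot φ (MonoidHom.subgroupMap_surjective _ _) N hφker hθC hθCinv
    hηC (fun n => hη.2.1 (e n))
  have htr : ∀ ξ : C → ℂ, Cfsg.classInner (fun n : N => ξ n) θC
      = Cfsg.classInner (resTo Q h.le ξ) θ := fun ξ =>
    CharInduce.classInner_comp_mulEquiv e (resTo Q h.le ξ) θ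
  -- the action on the quotient
  letI := quotAction h
  haveI : Fintype (K ⧸ Q) := Fintype.ofFinite _
  haveI : Fintype (C.map (QuotientGroup.mk' Q)) := Fintype.ofFinite _
  have hG : ¬ p ∣ Nat.card (K ⧸ Q) := h.hidx
  have hfix : ∀ x : K ⧸ Q, x ∈ C.map (QuotientGroup.mk' Q) ↔ ∀ s : P, s • x = x := h.mem_map_iff
  obtain ⟨M, hM⟩ := exists_isPModular hp.out
  haveI : M.IsMaximal := hM.2.1
  haveI := H80.charP_quot M hM
  have h0 : ∀ n : ℕ, (n : AlgInt ⧸ M) = 0 ↔ p ∣ n := H80.natCast_quot_eq_zero_iff hM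
  have hinv_iff : ∀ β : Cfsg.IrrCharacter (K ⧸ Q),
      H80.IsInv P (fun g : K => (β : K ⧸ Q → ℂ) (QuotientGroup.mk' Q g) * η g) ↔
        H80.IsInv P (β : K ⧸ Q → ℂ) := by
    intro β
    refine ⟨fun hi s x => ?_, fun hi s g => ?_⟩
    · let β' : Cfsg.IrrCharacter (K ⧸ Q) :=
        ⟨fun x => (β : K ⧸ Q → ℂ) (MulDistribMulAction.toMulEquiv (K ⧸ Q) s x),
          H80.isIrrCharacter_comp_mulEquiv _ β.2⟩
      have e1 : β' = β := G2 β' β fun g => by
        have h1 : (β : K ⧸ Q → ℂ) (QuotientGroup.mk' Q (s • g)) * η (s • g) = _ := hi s g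
        rwa [hηinv] at h1
      exact congrFun (congrArg Subtype.val e1) x
    · show (β : K ⧸ Q → ℂ) (s • QuotientGroup.mk' Q g) * η (s • g) = _
      rw [hi, hηinv]
  have hmult : ∀ (β : Cfsg.IrrCharacter (K ⧸ Q))
      (γ : Cfsg.IrrCharacter (C.map (QuotientGroup.mk' Q))) (χ : K → ℂ) (ξ : C → ℂ),
      (∀ g, χ g = (β : K ⧸ Q → ℂ) (QuotientGroup.mk' Q g) * η g) →
      (∀ c, ξ c = (γ : _ → ℂ) (φ c) * ηC c) →
      Cfsg.classInner (fun c : C => χ c) ξ
        = (H80.mult (C.map (QuotientGroup.mk' Q)) β γ : ℂ) := by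
    intro β γ χ ξ hχ hξ
    have hexp := classFunction_expansion (IsChar.isClassFunction
      (H80.isCharacter_res (C.map (QuotientGroup.mk' Q)) β))
    rw [show (fun c : C => χ c) = ∑ δ : Cfsg.IrrCharacter (C.map (QuotientGroup.mk' Q)),
        (H80.mult (C.map (QuotientGroup.mk' Q)) β δ : ℂ) •
          fun c : C => (δ : _ → ℂ) (φ c) * ηC c from funext fun c => by
      rw [hχ, show (β : K ⧸ Q → ℂ) (QuotientGroup.mk' Q c) = _ from congrFun hexp (φ c)]
      simp only [Finset.sum_apply, Pi.smul_apply, smul_eq_mul, H80.classInner_res, Finset.sum_mul,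
        mul_assoc, ηC],
      funext hξ, classInner_sum_left, Finset.sum_eq_single γ]
    · rw [classInner_smul_left, classInner_irr_self (C1 γ).1, mul_one]
    · intro δ _ hne
      rw [classInner_smul_left, classInner_irr_of_ne (C1 δ).1 (C1 γ).1
        (fun e => hne (C2 δ γ (congrFun e))), mul_zero]
    · exact fun hno => absurd (Finset.mem_univ γ) hno
  refine ⟨fun χ hχ hχi hne => ?_, fun ξ hξ hne => ?_, fun χ χ' hχ hχi hne hχ' hχi' hne' ξ hξ hξne hc hc' => ?_⟩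
  · obtain ⟨β, hβ⟩ := G3 χ hχ hne
    have hβi : H80.IsInv P (β : K ⧸ Q → ℂ) := (hinv_iff β).1 (funext hβ ▸ hχi)
    obtain ⟨γ, hγ0, hγ1⟩ := H80.exists_mult_ne_zero h.hP hG _ hfix M hM hβi
    have hinner := hmult β γ χ _ hβ (fun c => rfl)
    refine ⟨fun c => (γ : _ → ℂ) (φ c) * ηC c, (C1 γ).1, ?_, by rw [← htr]; exact (C1 γ).2, ?_, ?_⟩
    · intro s c c' hcc
      show (γ : _ → ℂ) (φ c') * η c' = (γ : _ → ℂ) (φ c) * η c
      rw [show η (c' : K) = η c by rw [hcc, hηinv], show φ c' = φ c from Subtype.ext ?_]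
      show QuotientGroup.mk' Q (c' : K) = QuotientGroup.mk' Q c
      rw [hcc]
      exact (hfix _).1 (φ c).2 s
    · obtain ⟨a, -, ha⟩ := IsIrr.exists_degree β.2
      obtain ⟨b, -, hb⟩ := IsIrr.exists_degree γ.2
      obtain ⟨t, -, ht⟩ := IsIrr.exists_degree hθ
      have hη1 : η 1 = (t : ℂ) := (hη.2.1 1).trans ht
      set m := H80.mult (C.map (QuotientGroup.mk' Q)) β γ with hm
      have hm1 : (m : ZMod p) = 1 ∨ (m : ZMod p) = -1 := by
        rw [← mul_self_eq_one_iff, ← Nat.cast_mul, ← Nat.cast_one (R := ZMod p),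
          ZMod.natCast_eq_natCast_iff]
        exact (CharP.natCast_eq_natCast (AlgInt ⧸ M) p).1 (by rw [Nat.cast_mul, Nat.cast_one]; exact hγ1)
      refine ⟨m, a * t, b * t, hinner, hm1, ?_, ?_, ?_⟩
      · rw [hβ, map_one, ha, hη1, Nat.cast_mul]
      · show (γ : _ → ℂ) (φ 1) * η ((1 : C) : K) = _
        rw [map_one, hb, OneMemClass.coe_one, hη1, Nat.cast_mul]
      · choose d _ hd using fun δ : Cfsg.IrrCharacter (C.map (QuotientGroup.mk' Q)) =>
          IsIrr.exists_degree δ.2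
        have hsum : a = ∑ δ, H80.mult (C.map (QuotientGroup.mk' Q)) β δ * d δ := by
          have h1 := congrFun (classFunction_expansion (IsChar.isClassFunction
            (H80.isCharacter_res (C.map (QuotientGroup.mk' Q)) β))) 1
          simp only [Finset.sum_apply, Pi.smul_apply, smul_eq_mul, H80.classInner_res,
            OneMemClass.coe_one, ha, hd] at h1
          exact_mod_cast h1
        have hbd : b = d γ := Nat.cast_injective (R := ℂ) (hb.symm.trans (hd γ))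
        have hab : (a : ZMod p) = (m : ZMod p) * (b : ZMod p) := by
          rw [hsum, hbd, Nat.cast_sum, Finset.sum_eq_single γ]
          · rw [Nat.cast_mul]
          · intro δ _ hne
            have hz := H80.mult_mul_mult_eq_zero h.hP hG _ hfix M hM hβi hne
            rw [mul_eq_zero, or_iff_left hγ0, h0] at hz
            rw [Nat.cast_mul, (CharP.cast_eq_zero_iff (ZMod p) p _).2 hz, zero_mul]
          · exact fun hno => absurd (Finset.mem_univ γ) hno
        rw [Nat.cast_mul, Nat.cast_mul, hab]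
        rcases hm1 with e | e
        · left; rw [e, one_mul]
        · right; rw [e]; ring
    · intro ξ' hξ' hne' hc
      obtain ⟨δ, hδ⟩ := C3 ξ' hξ' (by rw [htr]; exact hne')
      obtain ⟨m', hm', hpm'⟩ := hc
      rw [hmult β δ χ ξ' hβ hδ, Nat.cast_inj] at hm'
      have : δ = γ := by
        by_contra hne2
        have hz := H80.mult_mul_mult_eq_zero h.hP hG _ hfix M hM hβi hne2
        rw [mul_eq_zero, or_iff_left hγ0, h0, hm'] at hz
        exact hpm' hz
      subst this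
      exact funext hδ
  · obtain ⟨γ, hγ⟩ := C3 ξ hξ (by rw [htr]; exact hne)
    refine ⟨fun s c c' hcc => ?_, ?_⟩
    · rw [hγ, hγ]
      show (γ : _ → ℂ) (φ c') * η c' = (γ : _ → ℂ) (φ c) * η c
      rw [show η (c' : K) = η c by rw [hcc, hηinv], show φ c' = φ c from Subtype.ext ?_]
      show QuotientGroup.mk' Q (c' : K) = QuotientGroup.mk' Q c
      rw [hcc]
      exact (hfix _).1 (φ c).2 s
    obtain ⟨β, hβi, hne0⟩ := H80.exists_inv_mult_ne_zero h.hP hG _ hfix M hM γ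
    exact ⟨fun g => (β : K ⧸ Q → ℂ) (QuotientGroup.mk' Q g) * η g, (G1 β).1, (hinv_iff β).2 hβi,
      (G1 β).2, _, hmult β γ _ ξ (fun g => rfl) hγ, fun hd => hne0 ((h0 _).2 hd)⟩
  · obtain ⟨β, hβ⟩ := G3 χ hχ hne
    obtain ⟨β', hβ'⟩ := G3 χ' hχ' hne'
    obtain ⟨γ, hγ⟩ := C3 ξ hξ (by rw [htr]; exact hξne)
    have hβi : H80.IsInv P (β : K ⧸ Q → ℂ) := (hinv_iff β).1 (funext hβ ▸ hχi)
    have hβi' : H80.IsInv P (β' : K ⧸ Q → ℂ) := (hinv_iff β').1 (funext hβ' ▸ hχi')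
    obtain ⟨m, hm, hpm⟩ := hc
    obtain ⟨m', hm', hpm'⟩ := hc'
    rw [hmult β γ χ ξ hβ hγ, Nat.cast_inj] at hm
    rw [hmult β' γ χ' ξ hβ' hγ, Nat.cast_inj] at hm'
    suffices β = β' from funext fun g => by rw [hβ, hβ', this]
    by_contra hne2
    have hs := H80.sum_mult_mul h.hP hG _ hfix M hM hβi hβi'
    simp only [hne2, if_false] at hs
    rw [Finset.sum_eq_single γ] at hs
    · rw [mul_eq_zero, h0, h0, hm, hm'] at hs
      exact hs.elim hpm hpm'
    · intro δ _ hδ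
      have hz := H80.mult_mul_mult_eq_zero h.hP hG _ hfix M hM hβi hδ
      rw [mul_eq_zero, or_iff_left (fun e => hpm (hm ▸ (h0 _).1 e))] at hz
      rw [hz, zero_mul]
    · exact fun hno => absurd (Finset.mem_univ γ) hno

end Cfsg.Agent.H34.RelGlauberman
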