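import Cfsg.Prelude.Def_ClassicalGeometry

/-! Elementary identities for quadratic forms given on coordinate spaces and Siegel matrices. -/

set_option autoImplicit false

namespace Cfsg.Agent.H34

open Matrix QuadraticMap

variable {F : Type*} [Field F] {ι : Type} [Fintype ι] [DecidableEq ι] (Q : QuadraticForm F (ι → F))

theorem polarVec_dot (u x : ι → F) : Cfsg.polarVec ⇑Q u ⬝ᵥ x = polar ⇑Q u x := by
  conv_rhs => rw [pi_eq_sum_univ' x, ← polarBilin_apply_apply, map_sum]
  refine Finset.sum_congr rfl fun j _ => ?_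
  simp [polarVec, map_smul, mul_comm]

theorem Q_add_smul (x u : ι → F) (a : F) : Q (x + a • u) = Q x + a * a * Q u + a * polar ⇑Q x u := by
  rw [QuadraticMap.map_add ⇑Q x (a • u), QuadraticMap.map_smul, polar_smul_right]
  simp [smul_eq_mul]

theorem polar_self_eq (u : ι → F) : polar ⇑Q u u = 2 * Q u := by
  rw [polar_self]; simp [two_mul]

theorem siegel_mulVec (u v : ι → F) (c : F) (x : ι → F) :
    Cfsg.siegelMatrix ⇑Q u v c *ᵥ x = x + (c * polar ⇑Q u x) • v + (-(c * polar ⇑Q v x)) • u := by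
  rw [siegelMatrix, add_mulVec, one_mulVec, smul_mulVec, sub_mulVec, vecMulVec_mulVec,
    vecMulVec_mulVec, op_smul_eq_smul, op_smul_eq_smul, polarVec_dot, polarVec_dot]
  module

variable {u v : ι → F}

theorem siegel_preserves (hu : Q u = 0) (hv : Q v = 0) (huv : polar ⇑Q u v = 0) (c : F) (x : ι → F) :
    Q (Cfsg.siegelMatrix ⇑Q u v c *ᵥ x) = Q x := by
  rw [siegel_mulVec, Q_add_smul, Q_add_smul, hu, hv, polar_add_left, polar_smul_left,
    polar_comm ⇑Q v u, huv, polar_comm ⇑Q x v, polar_comm ⇑Q x u, smul_eq_mul]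
  ring

theorem siegel_fix (hu : Q u = 0) (hv : Q v = 0) (huv : polar ⇑Q u v = 0) (c : F) :
    Cfsg.siegelMatrix ⇑Q u v c *ᵥ u = u ∧ Cfsg.siegelMatrix ⇑Q u v c *ᵥ v = v := by
  constructor <;>
    simp [siegel_mulVec, hu, hv, huv, polar_comm ⇑Q v u]

theorem siegel_mul (hu : Q u = 0) (hv : Q v = 0) (huv : polar ⇑Q u v = 0) (c d : F) :
    Cfsg.siegelMatrix ⇑Q u v c * Cfsg.siegelMatrix ⇑Q u v d = Cfsg.siegelMatrix ⇑Q u v (c + d) := by
  refine Matrix.ext_iff_mulVec.mpr fun x => ?_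
  rw [← mulVec_mulVec, siegel_mulVec, siegel_mulVec, siegel_mulVec]
  simp only [polar_add_right, polar_smul_right, huv, polar_self_eq, hu, hv,
    polar_comm ⇑Q v u, smul_eq_mul]
  module

theorem mem_isometryGroup_iff {f : (ι → F) → F} (g : Matrix.GeneralLinearGroup ι F) :
    g ∈ Cfsg.isometryGroup F f ↔ ∀ x, f ((g : Matrix ι ι F) *ᵥ x) = f x :=
  ⟨fun h x => h x x, fun h x _ => h x⟩

/-- A matrix with a two-sided inverse preserving `f` as an element of the isometry group. -/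
def mkIso {f : (ι → F) → F} (M N : Matrix ι ι F) (h1 : M * N = 1) (h2 : N * M = 1)
    (hf : ∀ x, f (M *ᵥ x) = f x) : ↥(Cfsg.isometryGroup F f) :=
  ⟨⟨M, N, h1, h2⟩, (mem_isometryGroup_iff _).mpr hf⟩

theorem mkIso_coe {f : (ι → F) → F} (M N : Matrix ι ι F) (h1 : M * N = 1) (h2 : N * M = 1)
    (hf : ∀ x, f (M *ᵥ x) = f x) :
    (((mkIso M N h1 h2 hf : ↥(Cfsg.isometryGroup F f)) : Matrix.GeneralLinearGroup ι F) : Matrix ι ι F) = M :=
  rfl

/-- The Siegel matrices of a singular orthogonal pair as isometries. -/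
def siegelIso (hu : Q u = 0) (hv : Q v = 0) (huv : polar ⇑Q u v = 0) (c : F) :
    ↥(Cfsg.isometryGroup F ⇑Q) :=
  mkIso (Cfsg.siegelMatrix ⇑Q u v c) (Cfsg.siegelMatrix ⇑Q u v (-c))
    (by rw [siegel_mul Q hu hv huv]; simp [siegelMatrix])
    (by rw [siegel_mul Q hu hv huv]; simp [siegelMatrix])
    (siegel_preserves Q hu hv huv c)

/-- Minus one on the hyperbolic plane of `u, w`, plus one on its orthogonal. -/
def flipMatrix (u w : ι → F) : Matrix ι ι F :=
  1 - (2 : F) • (vecMulVec u (Cfsg.polarVec ⇑Q w) + vecMulVec w (Cfsg.polarVec ⇑Q u))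

theorem flip_mulVec (u w x : ι → F) :
    flipMatrix Q u w *ᵥ x = x + (-(2 * polar ⇑Q w x)) • u + (-(2 * polar ⇑Q u x)) • w := by
  rw [flipMatrix, sub_mulVec, one_mulVec, smul_mulVec, add_mulVec, vecMulVec_mulVec,
    vecMulVec_mulVec, op_smul_eq_smul, op_smul_eq_smul, polarVec_dot, polarVec_dot]
  module

variable {w : ι → F}

theorem flip_preserves (hu : Q u = 0) (hw : Q w = 0) (huw : polar ⇑Q u w = 1) (x : ι → F) :
    Q (flipMatrix Q u w *ᵥ x) = Q x := by
  rw [flip_mulVec, Q_add_smul, Q_add_smul, hu, hw, polar_add_left, polar_smul_left, huw,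
    polar_comm ⇑Q x u, polar_comm ⇑Q x w, smul_eq_mul]
  ring

theorem flip_mul_self (hu : Q u = 0) (hw : Q w = 0) (huw : polar ⇑Q u w = 1) :
    flipMatrix Q u w * flipMatrix Q u w = 1 := by
  refine Matrix.ext_iff_mulVec.mpr fun x => ?_
  rw [← mulVec_mulVec, flip_mulVec, flip_mulVec, one_mulVec]
  simp only [polar_add_right, polar_smul_right, huw, polar_self_eq, hu, hw,
    polar_comm ⇑Q w u, smul_eq_mul]
  module

/-- In a space with nondegenerate polar form a singular `u` outside the line of an orthogonal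
singular `v` has a singular partner orthogonal to `v`. -/
theorem exists_partner (hQ : (polarBilin Q).Nondegenerate) (hu : Q u = 0)
    (huv : polar ⇑Q u v = 0) (hli : LinearIndependent F ![u, v]) :
    ∃ w, Q w = 0 ∧ polar ⇑Q u w = 1 ∧ polar ⇑Q v w = 0 := by
  let Φ : (ι → F) →ₗ[F] F × F := ((polarBilin Q) u).prod ((polarBilin Q) v)
  have hsurj : Function.Surjective Φ := by
    rw [← LinearMap.dualMap_injective_iff]
    rw [← LinearMap.ker_eq_bot, LinearMap.ker_eq_bot']
    intro φ hφ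
    have hzero : φ (1, 0) • u + φ (0, 1) • v = 0 := by
      apply hQ.1
      intro x
      have hx : φ (Φ x) = 0 := congrArg (fun f => f x) hφ
      have e : Φ x = (polar ⇑Q u x) • ((1 : F), (0 : F)) + (polar ⇑Q v x) • ((0 : F), (1 : F)) := by
        simp [Φ]
      rw [e, map_add, map_smul, map_smul, smul_eq_mul, smul_eq_mul] at hx
      simp only [map_add, map_smul, LinearMap.add_apply, LinearMap.smul_apply, polarBilin_apply_apply,
        smul_eq_mul]
      linear_combination hx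
    obtain ⟨h1, h2⟩ := LinearIndependent.pair_iff.mp hli _ _ hzero
    refine LinearMap.ext fun p => ?_
    have e : p = p.1 • ((1 : F), (0 : F)) + p.2 • ((0 : F), (1 : F)) := by simp
    rw [e, map_add, map_smul, map_smul, h1, h2]
    simp
  obtain ⟨w₀, hw₀⟩ := hsurj (1, 0)
  have h1 : polar ⇑Q u w₀ = 1 := congrArg Prod.fst hw₀
  have h2 : polar ⇑Q v w₀ = 0 := congrArg Prod.snd hw₀
  refine ⟨w₀ + (-Q w₀) • u, ?_, ?_, ?_⟩
  · rw [Q_add_smul, hu, polar_comm ⇑Q w₀ u, h1]; ring
  · rw [polar_add_right, polar_smul_right, polar_self_eq, hu, h1]; simp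
  · rw [polar_add_right, polar_smul_right, polar_comm ⇑Q v u, huv, h2]; simp

end Cfsg.Agent.H34
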