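import Cfsg.Agent.H34.Siegel
import Mathlib

/-! Siegel isometries of a pair with a hyperbolic partner lie in `Ω`. -/

set_option autoImplicit false

namespace Cfsg.Agent.H34

open Matrix QuadraticMap
open scoped commutatorElement

variable {F : Type*} [Field F] {ι : Type} [Fintype ι] [DecidableEq ι] (Q : QuadraticForm F (ι → F))
  {u v w : ι → F}

theorem siegelIso_mem_omega (h2 : (2 : F) ≠ 0) (hu : Q u = 0) (hv : Q v = 0)
    (huv : polar ⇑Q u v = 0) (hw : Q w = 0) (huw : polar ⇑Q u w = 1) (hvw : polar ⇑Q v w = 0) (c : F) :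
    siegelIso Q hu hv huv c ∈ Cfsg.Omega F ⇑Q := by
  have hH := flip_mul_self Q hu hw huw
  let h : ↥(Cfsg.isometryGroup F ⇑Q) :=
    mkIso (flipMatrix Q u w) (flipMatrix Q u w) hH hH (flip_preserves Q hu hw huw)
  let T := siegelIso Q hu hv huv (-(c / 2))
  have hconj : flipMatrix Q u w * Cfsg.siegelMatrix ⇑Q u v (-(c / 2)) * flipMatrix Q u w =
      Cfsg.siegelMatrix ⇑Q u v (c / 2) := by
    refine Matrix.ext_iff_mulVec.mpr fun x => ?_
    rw [← mulVec_mulVec, ← mulVec_mulVec, siegel_mulVec, siegel_mulVec, flip_mulVec, flip_mulVec]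
    simp only [polar_add_right, polar_smul_right, huw, hvw, huv, polar_self_eq, hu, hw,
      polar_comm ⇑Q v u, polar_comm ⇑Q w u, polar_comm ⇑Q w v, smul_eq_mul]
    module
  haveI : NeZero (2 : F) := ⟨h2⟩
  have heq : siegelIso Q hu hv huv c = ⁅h, T⁆ := by
    refine Subtype.ext (Units.ext ?_)
    show Cfsg.siegelMatrix ⇑Q u v c =
      flipMatrix Q u w * Cfsg.siegelMatrix ⇑Q u v (-(c / 2)) * flipMatrix Q u w *
        Cfsg.siegelMatrix ⇑Q u v (- -(c / 2))
    rw [hconj, neg_neg, siegel_mul Q hu hv huv, add_halves]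
  rw [heq]
  exact Subgroup.commutator_mem_commutator (Subgroup.mem_top _) (Subgroup.mem_top _)

end Cfsg.Agent.H34
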