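import Cfsg.Agent.Symplectic.Center
import Mathlib

/-! Classes of elements of order two in `PSp_2m(q)`, `q` odd: at most `m / 2 + 1`. -/

set_option autoImplicit false

namespace Cfsg.Agent.H34

open LinearMap (BilinForm)
open Cfsg.Agent.Symplectic

section abstractForm

variable {F : Type*} [Field F] {V : Type*} [AddCommGroup V] [Module F V]
  {B : BilinForm F V} {k : ℕ} {e f : Fin k → V}

theorem IsHypSystem.snoc (hA : B.IsAlt) (h : IsHypSystem B e f) {x y : V} (hxy : B x y = 1)
    (hxe : ∀ i, B x (e i) = 0) (hxf : ∀ i, B x (f i) = 0)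
    (hye : ∀ i, B y (e i) = 0) (hyf : ∀ i, B y (f i) = 0) :
    IsHypSystem B (Fin.snoc e x) (Fin.snoc f y) := by
  have hsw : ∀ (a b : V), B a b = 0 → B b a = 0 := fun a b h => by rw [alt_swap hA, h, neg_zero]
  refine ⟨?_, ?_, ?_⟩ <;> intro i j <;>
    induction i using Fin.lastCases <;> induction j using Fin.lastCases <;>
    simp [h.1, h.2.1, h.2.2, hxe, hxf, hye, hyf, hxy, alt_self hA,
      hsw _ _ (hxe _), hsw _ _ (hxf _), hsw _ _ (hye _), hsw _ _ (hyf _),
      Fin.castSucc_ne_last, (Fin.castSucc_ne_last _).symm]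

/-- the projection to the orthogonal complement of a hyperbolic system -/
def hypProj (B : BilinForm F V) (e f : Fin k → V) (v : V) : V :=
  v - ∑ i, B v (f i) • e i + ∑ i, B v (e i) • f i

theorem hypProj_e (hA : B.IsAlt) (h : IsHypSystem B e f) (v : V) (j : Fin k) :
    B (hypProj B e f v) (e j) = 0 := by
  simp [hypProj, h.2.1, h.1, alt_swap hA (f _) (e j)]

theorem hypProj_f (h : IsHypSystem B e f) (v : V) (j : Fin k) :
    B (hypProj B e f v) (f j) = 0 := by
  simp [hypProj, h.1, h.2.2]

theorem apply_hypProj (x v : V) (hxe : ∀ i, B x (e i) = 0) (hxf : ∀ i, B x (f i) = 0) :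
    B x (hypProj B e f v) = B x v := by
  simp [hypProj, hxe, hxf]

theorem exists_orth_ne_zero [FiniteDimensional F V] (hA : B.IsAlt) (h : IsHypSystem B e f)
    (hk : 2 * k < Module.finrank F V) :
    ∃ x : V, x ≠ 0 ∧ (∀ i, B x (e i) = 0) ∧ (∀ i, B x (f i) = 0) := by
  by_cases hall : ∀ v, hypProj B e f v = 0
  · exfalso
    have hspan : ⊤ ≤ Submodule.span F (Set.range (Sum.elim e f)) := by
      intro v _
      have hv : v = ∑ i, B v (f i) • e i - ∑ i, B v (e i) • f i := by
        have := hall v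
        simp only [hypProj] at this
        rw [← sub_eq_zero, ← this]
        abel
      rw [hv]
      refine Submodule.sub_mem _ (Submodule.sum_mem _ fun i _ => Submodule.smul_mem _ _ ?_)
        (Submodule.sum_mem _ fun i _ => Submodule.smul_mem _ _ ?_)
      · exact Submodule.subset_span ⟨Sum.inl i, rfl⟩
      · exact Submodule.subset_span ⟨Sum.inr i, rfl⟩
    have := finrank_range_le_card (R := F) (Sum.elim e f)
    rw [Set.finrank, top_le_iff.mp hspan, finrank_top] at this
    simp at this
    omega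
  · push Not at hall
    obtain ⟨v, hv⟩ := hall
    exact ⟨_, hv, hypProj_e hA h v, hypProj_f h v⟩

/-- Extension by one step of a system of eigenvectors of an involutory isometry. -/
theorem inv_step [FiniteDimensional F V] (h2 : (2 : F) ≠ 0) (hB : B.Nondegenerate) (hA : B.IsAlt)
    (g : V →ₗ[F] V) (hg : ∀ u v, B (g u) (g v) = B u v) (hgg : ∀ v, g (g v) = v)
    (h : IsHypSystem B e f) (s : Fin k → F) (hs : ∀ i, s i = 1 ∨ s i = -1)
    (he : ∀ i, g (e i) = s i • e i) (hf : ∀ i, g (f i) = s i • f i)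
    (hk : 2 * k < Module.finrank F V) :
    ∃ (x y : V) (t : F), (t = 1 ∨ t = -1) ∧ g x = t • x ∧ g y = t • y ∧
      IsHypSystem B (Fin.snoc e x) (Fin.snoc f y) := by
  have hss : ∀ i, s i * s i = 1 := fun i => by rcases hs i with h | h <;> simp [h]
  have hge : ∀ (v : V) i, B v (e i) = 0 → B (g v) (e i) = 0 := fun v i h0 => by
    have := hg v (e i)
    rw [he, map_smul, h0, smul_eq_mul] at this
    exact (mul_eq_zero.mp this).resolve_left (fun h => by simpa [h] using hss i)
  have hgf : ∀ (v : V) i, B v (f i) = 0 → B (g v) (f i) = 0 := fun v i h0 => by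
    have := hg v (f i)
    rw [hf, map_smul, h0, smul_eq_mul] at this
    exact (mul_eq_zero.mp this).resolve_left (fun h => by simpa [h] using hss i)
  obtain ⟨x₀, hx₀, hx₀e, hx₀f⟩ := exists_orth_ne_zero hA h hk
  obtain ⟨x, t, ht, hx, hgx, hxe, hxf⟩ : ∃ (x : V) (t : F), (t = 1 ∨ t = -1) ∧ x ≠ 0 ∧
      g x = t • x ∧ (∀ i, B x (e i) = 0) ∧ (∀ i, B x (f i) = 0) := by
    by_cases hp : x₀ + g x₀ = 0
    · refine ⟨x₀ - g x₀, -1, Or.inr rfl, ?_, ?_, fun i => ?_, fun i => ?_⟩
      · intro hm
        apply hx₀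
        have : (2 : F) • x₀ = 0 := by
          rw [two_smul]
          calc x₀ + x₀ = (x₀ + g x₀) + (x₀ - g x₀) := by abel
            _ = 0 := by rw [hp, hm, add_zero]
        exact (smul_eq_zero.mp this).resolve_left h2
      · rw [map_sub, hgg, neg_smul, one_smul]; abel
      · simp [hx₀e, hge _ _ (hx₀e i)]
      · simp [hx₀f, hgf _ _ (hx₀f i)]
    · refine ⟨x₀ + g x₀, 1, Or.inl rfl, hp, ?_, fun i => ?_, fun i => ?_⟩
      · rw [map_add, hgg, one_smul, add_comm]
      · simp [hx₀e, hge _ _ (hx₀e i)]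
      · simp [hx₀f, hgf _ _ (hx₀f i)]
  have htt : t * t = 1 := by rcases ht with h | h <;> simp [h]
  obtain ⟨y₀, hy₀⟩ := exists_apply_ne_zero hB hx
  set c := B x y₀ with hc
  obtain ⟨y₁, hxy₁, hy₁e, hy₁f⟩ : ∃ y₁, B x y₁ = 1 ∧ (∀ i, B y₁ (e i) = 0) ∧ (∀ i, B y₁ (f i) = 0) := by
    refine ⟨c⁻¹ • hypProj B e f y₀, ?_, fun i => ?_, fun i => ?_⟩
    · rw [map_smul, apply_hypProj x y₀ hxe hxf, smul_eq_mul, inv_mul_cancel₀ hy₀]
    · rw [map_smul, LinearMap.smul_apply, hypProj_e hA h, smul_zero]
    · rw [map_smul, LinearMap.smul_apply, hypProj_f h, smul_zero]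
  have hxgy : B x (g y₁) = t := by
    have := hg x y₁
    rw [hgx, map_smul, LinearMap.smul_apply, hxy₁, smul_eq_mul] at this
    linear_combination t * this - (B x (g y₁)) * htt
  refine ⟨x, (2 : F)⁻¹ • (y₁ + t • g y₁), t, ht, hgx, ?_, IsHypSystem.snoc hA h ?_ hxe hxf ?_ ?_⟩
  · rw [map_smul, map_add, map_smul, hgg, smul_comm t, smul_add t, smul_smul t t, htt, one_smul,
      add_comm]
  · rw [map_smul, map_add, map_smul, hxy₁, hxgy, smul_eq_mul, smul_eq_mul, htt]
    field_simp
    norm_num
  · intro i; simp [hy₁e, hge _ _ (hy₁e i)]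
  · intro i; simp [hy₁f, hgf _ _ (hy₁f i)]

/-- An involutory isometry has a hyperbolic basis of eigenvectors. -/
theorem inv_system [FiniteDimensional F V] (h2 : (2 : F) ≠ 0) (hB : B.Nondegenerate) (hA : B.IsAlt)
    (g : V →ₗ[F] V) (hg : ∀ u v, B (g u) (g v) = B u v) (hgg : ∀ v, g (g v) = v) (n : ℕ)
    (hn : 2 * n ≤ Module.finrank F V) :
    ∃ (e f : Fin n → V) (s : Fin n → F), IsHypSystem B e f ∧ (∀ i, s i = 1 ∨ s i = -1) ∧
      (∀ i, g (e i) = s i • e i) ∧ (∀ i, g (f i) = s i • f i) := by
  induction n with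
  | zero =>
    exact ⟨Fin.elim0, Fin.elim0, Fin.elim0, ⟨fun i => i.elim0, fun i => i.elim0, fun i => i.elim0⟩,
      fun i => i.elim0, fun i => i.elim0, fun i => i.elim0⟩
  | succ k ih =>
    obtain ⟨e, f, s, h, hs, he, hf⟩ := ih (by omega)
    obtain ⟨x, y, t, ht, hx, hy, h'⟩ := inv_step h2 hB hA g hg hgg h s hs he hf (by omega)
    refine ⟨Fin.snoc e x, Fin.snoc f y, Fin.snoc s t, h', ?_, ?_, ?_⟩ <;>
      intro i <;> induction i using Fin.lastCases <;> simp [ht, hx, hy, hs, he, hf]

/-- An isometry `J` with `J² = -1` has a hyperbolic basis of the shape `(v, J v)`. -/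
theorem cplx_system [Finite F] [FiniteDimensional F V] (h2 : (2 : F) ≠ 0) (hB : B.Nondegenerate)
    (hA : B.IsAlt) (J : V →ₗ[F] V) (hJ : ∀ u v, B (J u) (J v) = B u v) (hJJ : ∀ v, J (J v) = -v)
    (n : ℕ) (hn : 2 * n ≤ Module.finrank F V) :
    ∃ e : Fin n → V, IsHypSystem B e (fun i => J (e i)) := by
  induction n with
  | zero => exact ⟨Fin.elim0, fun i => i.elim0, fun i => i.elim0, fun i => i.elim0⟩
  | succ k ih =>
    obtain ⟨e, h⟩ := ih (by omega)
    set f : Fin k → V := fun i => J (e i) with hfdef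
    have hJe : ∀ (v : V) i, B v (f i) = 0 → B (J v) (e i) = 0 := fun v i h0 => by
      have := hJ v (f i)
      rw [hfdef] at this h0
      simp only at this h0
      rw [hJJ, map_neg, h0, neg_eq_zero] at this
      exact this
    have hJf : ∀ (v : V) i, B v (e i) = 0 → B (J v) (f i) = 0 := fun v i h0 => by
      rw [hfdef]; simp only; rw [hJ]; exact h0
    have hswap : ∀ a b : V, B (J a) b = B (J b) a := fun a b => by
      have := hJ (J a) b
      rw [hJJ, map_neg, LinearMap.neg_apply] at this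
      rw [← this, alt_swap hA a (J b), neg_neg]
    obtain ⟨x, hx, hxe, hxf⟩ := exists_orth_ne_zero hA h (by omega)
    obtain ⟨v, hv, hve, hvf⟩ : ∃ v, B v (J v) ≠ 0 ∧ (∀ i, B v (e i) = 0) ∧ (∀ i, B v (f i) = 0) := by
      by_contra hcon
      push Not at hcon
      obtain ⟨y₀, hy₀⟩ := exists_apply_ne_zero hB hx
      set y := -J (hypProj B e f y₀) with hy
      have hye : ∀ i, B y (e i) = 0 := fun i => by
        rw [hy, map_neg, LinearMap.neg_apply, hJe _ _ (hypProj_f h _ i), neg_zero]
      have hyf : ∀ i, B y (f i) = 0 := fun i => by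
        rw [hy, map_neg, LinearMap.neg_apply, hJf _ _ (hypProj_e hA h _ i), neg_zero]
      have hzero : ∀ v, (∀ i, B v (e i) = 0) → (∀ i, B v (f i) = 0) → B v (J v) = 0 := by
        intro v h1 h1'
        by_contra hne
        obtain ⟨i, hi⟩ := hcon v hne h1
        exact hi (h1' i)
      have hxy : B x (J y) = B x y₀ := by
        rw [hy, map_neg, hJJ, neg_neg, apply_hypProj x y₀ hxe hxf]
      have hsum := hzero (x + y) (fun i => by simp [hxe, hye]) (fun i => by simp [hxf, hyf])
      simp only [map_add, LinearMap.add_apply, hzero x hxe hxf, hzero y hye hyf] at hsum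
      have hsym : B y (J x) = B x (J y) := by
        rw [alt_swap hA y (J x), alt_swap hA x (J y), hswap x y]
      rw [hsym, hxy] at hsum
      apply hy₀
      have : (2 : F) * B x y₀ = 0 := by linear_combination hsum
      exact (mul_eq_zero.mp this).resolve_left h2
    haveI := Fintype.ofFinite F
    obtain ⟨p, hp⟩ := CharP.exists F
    haveI := hp
    haveI : Fact p.Prime := ⟨CharP.char_is_prime F p⟩
    obtain ⟨a, b, hab⟩ := FiniteField.exists_root_sum_quadratic
      (f := Polynomial.X ^ 2) (g := Polynomial.X ^ 2 - Polynomial.C (B v (J v))⁻¹) (R := F)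
      (Polynomial.degree_X_pow 2) (Polynomial.degree_X_pow_sub_C two_pos _) (by
        rw [← Nat.odd_iff, Nat.odd_iff]
        rcases Nat.mod_two_eq_zero_or_one (Fintype.card F) with h0 | h1
        · exfalso
          apply h2
          have : ringChar F = 2 := FiniteField.even_card_iff_char_two.mpr h0
          have h' : ((ringChar F : ℕ) : F) = 0 := ringChar.Nat.cast_ringChar
          rw [this] at h'; exact_mod_cast h'
        · exact h1)
    simp only [Polynomial.eval_pow, Polynomial.eval_X, Polynomial.eval_sub, Polynomial.eval_C] at hab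
    refine ⟨Fin.snoc e (a • v + b • J v), ?_⟩
    have hfs : (fun i => J ((Fin.snoc e (a • v + b • J v) : Fin (k + 1) → V) i)) =
        Fin.snoc f (J (a • v + b • J v)) := by
      funext i; induction i using Fin.lastCases <;> simp [hfdef]
    rw [hfs]
    refine IsHypSystem.snoc hA h ?_ ?_ ?_ ?_ ?_
    · have hvv : B (J v) (J v) = 0 := alt_self hA _
      simp only [map_add, map_smul, hJJ, smul_neg, map_neg, LinearMap.add_apply, LinearMap.smul_apply,
        alt_self hA, hvv, smul_eq_mul, alt_swap hA (J v) v]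
      have : (a ^ 2 + b ^ 2) * B v (J v) = 1 := by
        rw [show a ^ 2 + b ^ 2 = (B v (J v))⁻¹ by linear_combination hab, inv_mul_cancel₀ hv]
      linear_combination this
    · intro i; simp [hve, hJe _ _ (hvf i)]
    · intro i; simp [hvf, hJf _ _ (hve i)]
    · intro i
      apply hJe
      simp [hvf, hJf _ _ (hve i)]
    · intro i
      apply hJf
      simp [hve, hJe _ _ (hvf i)]

end abstractForm

variable {F : Type*} [Field F] {m : ℕ}

theorem span_hypSystem {e f : Fin m → (Fin m ⊕ Fin m → F)} (h : IsHypSystem (spB m F) e f) :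
    Submodule.span F (Set.range (Sum.elim e f)) = ⊤ :=
  (h.linearIndependent (spB_alt m F)).span_eq_top_of_card_eq_finrank' (by
    rw [Module.finrank_fintype_fun_eq_card])

/-- Two symplectic elements with matching action on hyperbolic systems are conjugate. -/
theorem isConj_of_systems (g g' : Matrix.symplecticGroup (Fin m) F)
    {e f e' f' : Fin m → (Fin m ⊕ Fin m → F)} (h : IsHypSystem (spB m F) e f)
    (h' : IsHypSystem (spB m F) e' f')
    (hrel : ∀ p : Matrix.symplecticGroup (Fin m) F,
      (∀ i, (p : Mat m F).mulVec (e i) = e' i) → (∀ i, (p : Mat m F).mulVec (f i) = f' i) →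
      ∀ i, (p : Mat m F).mulVec ((g : Mat m F).mulVec (Sum.elim e f i)) =
        (g' : Mat m F).mulVec ((p : Mat m F).mulVec (Sum.elim e f i))) : IsConj g g' := by
  obtain ⟨p, hp⟩ := exists_sp_map (Sum.elim e f) (Sum.elim e' f')
    (h.linearIndependent (spB_alt m F)) (h'.linearIndependent (spB_alt m F)) (by
      intro i j
      have hs := alt_swap (spB_alt m F)
      rcases i with i | i <;> rcases j with j | j <;>
        simp only [Sum.elim_inl, Sum.elim_inr, ← spB_apply, h.1, h'.1, h.2.1, h'.2.1, h.2.2, h'.2.2,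
          hs (f _) (e _), hs (f' _) (e' _)])
  have hr := hrel p (fun i => hp (Sum.inl i)) (fun i => hp (Sum.inr i))
  have heq : p * g = g' * p := by
    refine sp_ext fun v => ?_
    have hlin : (p * g : Matrix.symplecticGroup (Fin m) F).1.mulVecLin =
        (g' * p : Matrix.symplecticGroup (Fin m) F).1.mulVecLin := by
      refine LinearMap.ext_on_range (span_hypSystem h) fun i => ?_
      simp only [Matrix.mulVecLin_apply, Submonoid.coe_mul, ← Matrix.mulVec_mulVec]
      exact hr i
    exact LinearMap.congr_fun hlin v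
  rw [isConj_iff]
  exact ⟨p, by rw [heq, mul_inv_cancel_right]⟩

/-- An element of order two of `PSp` has type `k`. -/
def HasType (x : Cfsg.PSp m F) (k : ℕ) : Prop :=
  ∃ g : Matrix.symplecticGroup (Fin m) F, QuotientGroup.mk g = x ∧
    ((k = 0 ∧ ∀ v, (g : Mat m F).mulVec ((g : Mat m F).mulVec v) = -v) ∨
      (0 < k ∧ ∃ (e f : Fin m → (Fin m ⊕ Fin m → F)) (s : Fin m → F),
        IsHypSystem (spB m F) e f ∧ (∀ i, s i = 1 ∨ s i = -1) ∧
        (∀ i, (g : Mat m F).mulVec (e i) = s i • e i) ∧ (∀ i, (g : Mat m F).mulVec (f i) = s i • f i) ∧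
        Nat.card {i // s i = 1} = k))

theorem exists_hasType (h2 : (2 : F) ≠ 0) (hm : 1 ≤ m) (x : Cfsg.PSp m F) (hx : orderOf x = 2) :
    ∃ k, k ≤ m / 2 ∧ HasType x k := by
  classical
  obtain ⟨g, rfl⟩ := QuotientGroup.mk_surjective x
  have hsq : g * g ∈ Subgroup.center (Matrix.symplecticGroup (Fin m) F) := by
    rw [← QuotientGroup.eq_one_iff, QuotientGroup.mk_mul, ← sq]
    exact orderOf_dvd_iff_pow_eq_one.mp hx.dvd
  obtain ⟨c, hc⟩ := (mem_center_iff _).mp hsq
  have hc2 := scalar_sq hm _ hc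
  have hcc : (c - 1) * (c + 1) = 0 := by linear_combination hc2
  rcases mul_eq_zero.mp hcc with h | h
  swap
  · refine ⟨0, Nat.zero_le _, g, rfl, Or.inl ⟨rfl, fun v => ?_⟩⟩
    rw [Matrix.mulVec_mulVec, ← Submonoid.coe_mul, hc, eq_neg_of_add_eq_zero_left h, neg_smul, one_smul]
  have hc1 : c = 1 := sub_eq_zero.mp h
  subst hc1
  have hgg : ∀ v, (g : Mat m F).mulVec ((g : Mat m F).mulVec v) = v := fun v => by
    rw [Matrix.mulVec_mulVec, ← Submonoid.coe_mul, hc, one_smul]
  obtain ⟨e, f, s, hsys, hs, he, hf⟩ := inv_system h2 (spB_nondeg m F) (spB_alt m F)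
    (g : Mat m F).mulVecLin (fun u v => toLin'_mem_isom g.2 u v) hgg m
    (by rw [Module.finrank_fintype_fun_eq_card, Fintype.card_sum, Fintype.card_fin]; omega)
  simp only [Matrix.mulVecLin_apply] at he hf
  have hne : ¬ ∃ t : F, ∀ i, s i = t := by
    rintro ⟨t, ht⟩
    have hmem : g ∈ Subgroup.center (Matrix.symplecticGroup (Fin m) F) := by
      refine (mem_center_iff g).mpr ⟨t, fun v => ?_⟩
      have hlin : (g : Mat m F).mulVecLin = t • LinearMap.id := by
        refine LinearMap.ext_on_range (span_hypSystem hsys) fun i => ?_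
        rcases i with i | i
        · simpa [ht] using he i
        · simpa [ht] using hf i
      simpa using LinearMap.congr_fun hlin v
    rw [(QuotientGroup.eq_one_iff g).mpr hmem, orderOf_one] at hx
    omega
  have hne1 : ({i | s i = 1} : Finset (Fin m)).card ≠ 0 := by
    intro h0
    apply hne
    refine ⟨-1, fun i => (hs i).resolve_left fun h1 => ?_⟩
    rw [Finset.card_eq_zero] at h0
    exact Finset.notMem_empty i (h0 ▸ (by simp [h1]))
  have hne2 : ({i | s i = 1} : Finset (Fin m)).card ≠ m := by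
    intro h0
    apply hne
    refine ⟨1, fun i => ?_⟩
    have : ({i | s i = 1} : Finset (Fin m)) = Finset.univ :=
      Finset.eq_univ_of_card _ (by rw [h0, Fintype.card_fin])
    have hi := Finset.mem_univ i
    rw [← this] at hi
    simpa using hi
  have hcard : Nat.card {i // s i = 1} = ({i | s i = 1} : Finset (Fin m)).card := by
    rw [Nat.card_eq_fintype_card, Fintype.card_subtype]
  have hle : ({i | s i = 1} : Finset (Fin m)).card ≤ m := (Finset.card_le_univ _).trans (by simp)
  by_cases hhalf : Nat.card {i // s i = 1} ≤ m / 2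
  · exact ⟨_, hhalf, g, rfl, Or.inr ⟨by omega, e, f, s, hsys, hs, he, hf, rfl⟩⟩
  · let z : Matrix.symplecticGroup (Fin m) F := scalarElt m ⟨-1, by ring⟩
    have hz : z ∈ Subgroup.center (Matrix.symplecticGroup (Fin m) F) :=
      (mem_center_iff z).mpr ⟨-1, scalarElt_mulVec _⟩
    refine ⟨Nat.card {i // -s i = 1}, ?_, z * g, ?_, Or.inr ⟨?_, e, f, fun i => -s i, hsys,
      fun i => ?_, fun i => ?_, fun i => ?_, rfl⟩⟩
    · have : Nat.card {i // -s i = 1} = Nat.card {i // ¬ s i = 1} := by
        refine Nat.card_congr (Equiv.subtypeEquivRight fun i => ?_)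
        rcases hs i with h | h <;> rw [h]
        · simp only [not_true_eq_false, iff_false]
          intro h'; apply h2; linear_combination -h'
        · simp only [neg_neg, true_iff]
          intro h'; apply h2; linear_combination -h'
      rw [this, Nat.card_eq_fintype_card, Fintype.card_subtype_compl, Fintype.card_fin,
        ← Nat.card_eq_fintype_card]
      omega
    · rw [QuotientGroup.mk_mul, (QuotientGroup.eq_one_iff z).mpr hz, one_mul]
    · refine Nat.pos_of_ne_zero fun h0 => hne ⟨1, fun i => (hs i).resolve_right fun h1 => ?_⟩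
      rw [Nat.card_eq_zero] at h0
      rcases h0 with h0 | h0
      · exact h0.elim ⟨i, by simp [h1]⟩
      · exact not_finite {i // -s i = 1}
    · rcases hs i with h | h <;> simp [h]
    · rw [Submonoid.coe_mul, ← Matrix.mulVec_mulVec, he, scalarElt_mulVec, smul_smul, neg_one_mul]
    · rw [Submonoid.coe_mul, ← Matrix.mulVec_mulVec, hf, scalarElt_mulVec, smul_smul, neg_one_mul]

theorem isConj_of_hasType [Finite F] (h2 : (2 : F) ≠ 0) {x y : Cfsg.PSp m F} {k : ℕ}
    (hx : HasType x k) (hy : HasType y k) : IsConj x y := by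
  classical
  obtain ⟨g, rfl, hg⟩ := hx
  obtain ⟨g', rfl, hg'⟩ := hy
  apply MonoidHom.map_isConj (QuotientGroup.mk' _)
  rcases hg with ⟨hk, hg⟩ | ⟨hk, e, f, s, hsys, hs, he, hf, hcard⟩
  · rcases hg' with ⟨-, hg'⟩ | ⟨hk', -⟩
    swap
    · omega
    have hdim : 2 * m ≤ Module.finrank F (Fin m ⊕ Fin m → F) := by
      rw [Module.finrank_fintype_fun_eq_card, Fintype.card_sum, Fintype.card_fin]; omega
    obtain ⟨e, h⟩ := cplx_system h2 (spB_nondeg m F) (spB_alt m F) (g : Mat m F).mulVecLin
      (fun u v => toLin'_mem_isom g.2 u v) hg m hdim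
    obtain ⟨e', h'⟩ := cplx_system h2 (spB_nondeg m F) (spB_alt m F) (g' : Mat m F).mulVecLin
      (fun u v => toLin'_mem_isom g'.2 u v) hg' m hdim
    refine isConj_of_systems g g' h h' fun p hpe hpf i => ?_
    simp only [Matrix.mulVecLin_apply] at hpf
    rcases i with i | i
    · simp only [Sum.elim_inl]; rw [hpe, hpf]
    · simp only [Sum.elim_inr, Matrix.mulVecLin_apply]
      rw [hg, Matrix.mulVec_neg, hpe, hpf, hg']
  · rcases hg' with ⟨hk', -⟩ | ⟨-, e', f', s', hsys', hs', he', hf', hcard'⟩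
    · omega
    have hc : Fintype.card {i // s i = 1} = Fintype.card {i // s' i = 1} := by
      rw [← Nat.card_eq_fintype_card, ← Nat.card_eq_fintype_card, hcard, hcard']
    let σ : Equiv.Perm (Fin m) := (Fintype.equivOfCardEq hc).extendSubtype
    have hσ : ∀ i, s' (σ i) = s i := by
      intro i
      by_cases h : s i = 1
      · rw [h]; exact Equiv.extendSubtype_mem (p := fun i => s i = 1) (q := fun i => s' i = 1) _ i h
      · rw [(hs i).resolve_left h]
        exact (hs' _).resolve_left (Equiv.extendSubtype_not_mem (p := fun i => s i = 1) (q := fun i => s' i = 1) _ i h)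
    have hsys'' : IsHypSystem (spB m F) (e' ∘ σ) (f' ∘ σ) :=
      ⟨fun i j => by simp [hsys'.1, σ.injective.eq_iff], fun i j => hsys'.2.1 _ _, fun i j => hsys'.2.2 _ _⟩
    refine isConj_of_systems g g' hsys hsys'' fun p hpe hpf i => ?_
    rcases i with i | i
    · simp only [Sum.elim_inl]; rw [he, Matrix.mulVec_smul, hpe, Function.comp_apply, he', hσ]
    · simp only [Sum.elim_inr]; rw [hf, Matrix.mulVec_smul, hpf, Function.comp_apply, hf', hσ]

end Cfsg.Agent.H34
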