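import Mathlib
import Cfsg.Prelude.Def_OddOrderChar
import Cfsg.Agent.H34.FreeKernelChar
import Cfsg.Agent.CharInduce.Function
import Cfsg.Agent.CharInduce.Induce

/-!
A trivial intersection subgroup containing the centralisers of its non-identity elements, with a
coherent set of characters of its normaliser: `star χ - χ` is constant on the non-identity
elements, and the other characters of the group are constant there.
-/

set_option autoImplicit false

namespace Cfsg.Agent.H34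

open scoped ComplexConjugate
open Cfsg.Agent.CharBasic Cfsg.Agent.CharInduce

universe u

variable {G : Type u} [Group G] [Fintype G] {K : Subgroup G}

/-- `K` as a normal subgroup of its normaliser -/
abbrev kerN (K : Subgroup G) : Subgroup (Subgroup.normalizer (K : Set G)) :=
  K.subgroupOf (Subgroup.normalizer (K : Set G))

omit [Fintype G] in
theorem freeOutside_kerN (hC : ∀ k ∈ K, k ≠ 1 → Subgroup.centralizer ({k} : Set G) ≤ K) :
    FreeOutside (kerN K) := by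
  intro x hx k hk hxk
  by_contra hk1
  refine hx (Subgroup.mem_subgroupOf.2 (hC k hk (fun h => hk1 (Subtype.ext h)) ?_))
  rw [Subgroup.mem_centralizer_singleton_iff]
  exact congrArg Subtype.val hxk

omit [Fintype G] in
theorem notTrivialOn_iff {χ : Subgroup.normalizer (K : Set G) → ℂ} :
    NotTrivialOn (kerN K) χ ↔ ∃ k : Subgroup.normalizer (K : Set G), (k : G) ∈ K ∧ χ k ≠ χ 1 :=
  Iff.rfl

/-- induction agrees on `K` minus 1 with a function supported there -/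
theorem ind_apply_kerN
    (hTI : ∀ g : G, g ∉ Subgroup.normalizer (K : Set G) → ∀ k ∈ K, g * k * g⁻¹ ∈ K → k = 1)
    {α : Subgroup.normalizer (K : Set G) → ℂ} (hα : Cfsg.IsClassFunction _ α)
    (hsup : ∀ x : Subgroup.normalizer (K : Set G), (x : G) ∉ K → α x = 0)
    {k : Subgroup.normalizer (K : Set G)} (hk : (k : G) ∈ K) (hk1 : k ≠ 1) :
    Cfsg.indFun (Subgroup.normalizer (K : Set G)) α k = α k :=
  CharInduce.indFun_eq_of_ti (T := (K : Set G)) hTI α hα hsup k hk hk1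

variable [Fintype ↥(Subgroup.normalizer (K : Set G))]
  {S : Set (↥(Subgroup.normalizer (K : Set G)) → ℂ)}
  {star : (↥(Subgroup.normalizer (K : Set G)) → ℂ) → (G → ℂ)}

omit [Fintype G] [Fintype ↥(Subgroup.normalizer (K : Set G))] in
theorem mem_zspan {χ : ↥(Subgroup.normalizer (K : Set G)) → ℂ} (h : χ ∈ S) : χ ∈ Cfsg.zspan S :=
  Submodule.subset_span h

/-- the degree-zero combination of two members -/
theorem pair_combination
    (hstar : Cfsg.IsLinearIsometryOn (Cfsg.zspan S) star)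
    (hext : ∀ α ∈ Cfsg.zspanOn S ({1}ᶜ : Set ↥(Subgroup.normalizer (K : Set G))),
      star α = Cfsg.indFun (Subgroup.normalizer (K : Set G)) α)
    {χ ξ : ↥(Subgroup.normalizer (K : Set G)) → ℂ} (hχ : χ ∈ S) (hξ : ξ ∈ S) {a b : ℕ}
    (ha : χ 1 = a) (hb : ξ 1 = b) :
    Cfsg.indFun (Subgroup.normalizer (K : Set G)) ((b : ℂ) • χ - (a : ℂ) • ξ)
      = (b : ℂ) • star χ - (a : ℂ) • star ξ := by
  obtain ⟨hadd, hsmul, -, -⟩ := hstar
  have e : ∀ {X : Type u} (m : ℕ) (f : X → ℂ), ((m : ℤ) • f) = (m : ℂ) • f := fun m f => by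
    rw [natCast_zsmul, Nat.cast_smul_eq_nsmul]
  have h1 : ((b : ℤ) • χ) ∈ Cfsg.zspan S := Submodule.smul_mem _ _ (mem_zspan hχ)
  have h2 : ((-(a : ℤ)) • ξ) ∈ Cfsg.zspan S := Submodule.smul_mem _ _ (mem_zspan hξ)
  have hsum : ((b : ℤ) • χ + (-(a : ℤ)) • ξ) = (b : ℂ) • χ - (a : ℂ) • ξ := by
    rw [neg_smul, e, e, ← sub_eq_add_neg]
  have hmem : ((b : ℤ) • χ + (-(a : ℤ)) • ξ) ∈ Cfsg.zspanOn S ({1}ᶜ) := by
    refine ⟨Submodule.add_mem _ h1 h2, fun x hx => ?_⟩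
    have hx1 : x = 1 := by simpa using hx
    rw [hsum, hx1]
    simp [ha, hb, mul_comm]
  rw [← hsum, ← hext _ hmem, hadd _ h1 _ h2, hsmul _ (mem_zspan hχ), hsmul _ (mem_zspan hξ),
    neg_smul, e, e, ← sub_eq_add_neg]

variable (hC : ∀ k ∈ K, k ≠ 1 → Subgroup.centralizer ({k} : Set G) ≤ K)
  (hTI : ∀ g : G, g ∉ Subgroup.normalizer (K : Set G) → ∀ k ∈ K, g * k * g⁻¹ ∈ K → k = 1)
  (hS : S = {χ : ↥(Subgroup.normalizer (K : Set G)) → ℂ |
    Cfsg.IsIrrCharacter ↥(Subgroup.normalizer (K : Set G)) χ ∧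
    ∃ k : ↥(Subgroup.normalizer (K : Set G)), (k : G) ∈ K ∧ χ k ≠ χ 1})
  (hstar : Cfsg.IsLinearIsometryOn (Cfsg.zspan S) star)
  (hext : ∀ α ∈ Cfsg.zspanOn S ({1}ᶜ : Set ↥(Subgroup.normalizer (K : Set G))),
      star α = Cfsg.indFun (Subgroup.normalizer (K : Set G)) α)

include hC hS hstar hext in
/-- constancy on `K` minus 1, given orthogonality to the degree-zero combinations -/
theorem const_of_orth {χ₀ : ↥(Subgroup.normalizer (K : Set G)) → ℂ} (hχ₀ : χ₀ ∈ S)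
    {f : ↥(Subgroup.normalizer (K : Set G)) → ℂ} (hf : Cfsg.IsClassFunction _ f)
    (horth : ∀ χ ∈ S, ∀ a b : ℕ, χ 1 = a → χ₀ 1 = b →
      Cfsg.classInner f ((b : ℂ) • χ - (a : ℂ) • χ₀) = 0) :
    ∃ c : ℂ, ∀ k : Subgroup.normalizer (K : Set G), (k : G) ∈ K → k ≠ 1 → f k = c := by
  have hi₀ : Cfsg.IsIrrCharacter _ χ₀ := (hS ▸ hχ₀ :).1
  obtain ⟨b, hb0, hb⟩ := IsIrr.exists_degree hi₀
  obtain ⟨c, hc⟩ := const_on_kernel (K := kerN K) (freeOutside_kerN hC) hf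
    (μ := Cfsg.classInner f χ₀ / (b : ℂ)) (fun χ hχ => by
      have hmem : (χ : ↥(Subgroup.normalizer (K : Set G)) → ℂ) ∈ S := by
        rw [hS]; exact ⟨χ.2, hχ⟩
      obtain ⟨a, -, ha⟩ := IsIrr.exists_degree χ.2
      have h := horth _ hmem a b ha hb
      rw [classInner_sub_right, classInner_smul_right, classInner_smul_right, Complex.conj_natCast,
        Complex.conj_natCast] at h
      have hb' : (b : ℂ) ≠ 0 := Nat.cast_ne_zero.2 hb0.ne'
      rw [ha]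
      field_simp
      linear_combination h)
  exact ⟨c, fun k hk hk1 => hc k hk hk1⟩

include hC hTI hS hstar hext in
/-- `star χ - χ` is `χ 1` times a constant -/
theorem star_sub_const {χ₀ : ↥(Subgroup.normalizer (K : Set G)) → ℂ} (hχ₀ : χ₀ ∈ S) :
    ∃ c : ℂ, ∀ χ ∈ S, ∀ k : Subgroup.normalizer (K : Set G), (k : G) ∈ K → k ≠ 1 →
      star χ k - χ k = χ 1 * c := by
  have hi : ∀ χ ∈ S, Cfsg.IsIrrCharacter _ χ := fun χ hχ => (hS ▸ hχ :).1
  have hnt : ∀ χ ∈ S, NotTrivialOn (kerN K) χ := fun χ hχ => (hS ▸ hχ :).2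
  obtain ⟨b, hb0, hb⟩ := IsIrr.exists_degree (hi χ₀ hχ₀)
  have hgcl : ∀ χ ∈ S, Cfsg.IsClassFunction G (star χ) := fun χ hχ =>
    CharInduce.IsGen.isClassFunction (hstar.2.2.2 χ (mem_zspan hχ))
  let f : ↥(Subgroup.normalizer (K : Set G)) → ℂ := fun x => star χ₀ x - χ₀ x
  have hf : Cfsg.IsClassFunction _ f := fun x y => by
    show star χ₀ _ - χ₀ _ = star χ₀ _ - χ₀ _
    rw [IsIrr.isClassFunction (hi χ₀ hχ₀) x y]
    push_cast
    rw [hgcl χ₀ hχ₀ (x : G) (y : G)]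
  obtain ⟨c, hc⟩ := const_of_orth hC hS hstar hext hχ₀ hf fun χ hχ a b ha hb => by
    set α : ↥(Subgroup.normalizer (K : Set G)) → ℂ := (b : ℂ) • χ - (a : ℂ) • χ₀ with hα
    have hI := pair_combination hstar hext hχ hχ₀ ha hb
    have h1 := CharInduce.classInner_indFun_right (Subgroup.normalizer (K : Set G)) α (star χ₀)
      (hgcl χ₀ hχ₀)
    rw [hI, classInner_sub_right, classInner_smul_right, classInner_smul_right,
      hstar.2.2.1 _ (mem_zspan hχ₀) _ (mem_zspan hχ),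
      hstar.2.2.1 _ (mem_zspan hχ₀) _ (mem_zspan hχ₀)] at h1
    have hfd : f = (fun x : ↥(Subgroup.normalizer (K : Set G)) => star χ₀ x) - χ₀ := rfl
    rw [hfd, classInner_sub_left, ← h1, hα, classInner_sub_right, classInner_smul_right,
      classInner_smul_right]
    ring
  refine ⟨c / (b : ℂ), fun χ hχ k hk hk1 => ?_⟩
  obtain ⟨a, -, ha⟩ := IsIrr.exists_degree (hi χ hχ)
  have hI := pair_combination hstar hext hχ hχ₀ ha hb
  have hv : ∀ ξ ∈ S, ∀ x : Subgroup.normalizer (K : Set G), (x : G) ∉ K → ξ x = 0 := fun ξ hξ x hx =>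
    vanish_off (freeOutside_kerN hC) (hi ξ hξ) (hnt ξ hξ) hx
  have h1 := ind_apply_kerN hTI (α := (b : ℂ) • χ - (a : ℂ) • χ₀) (fun x y => by
      simp only [Pi.sub_apply, Pi.smul_apply, IsIrr.isClassFunction (hi χ hχ) x y,
        IsIrr.isClassFunction (hi χ₀ hχ₀) x y])
    (fun x hx => by simp [hv χ hχ x hx, hv χ₀ hχ₀ x hx]) hk hk1
  rw [hI] at h1
  simp only [Pi.sub_apply, Pi.smul_apply, smul_eq_mul] at h1
  have h2 : star χ₀ (k : G) - χ₀ k = c := hc k hk hk1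
  have hb' : (b : ℂ) ≠ 0 := Nat.cast_ne_zero.2 hb0.ne'
  rw [ha]
  field_simp
  linear_combination h1 + (a : ℂ) * h2

include hC hTI hS hstar hext in
theorem star_iff (htwo : ∃ χ ∈ S, ∃ ξ ∈ S, χ ≠ ξ) {ψ : G → ℂ} (hψ : Cfsg.IsIrrCharacter G ψ) :
    (∃ χ ∈ S, ψ = star χ ∨ ψ = -star χ) ↔ ∃ a ∈ K, ∃ b ∈ K, a ≠ 1 ∧ b ≠ 1 ∧ ψ a ≠ ψ b := by
  classical
  have hi : ∀ χ ∈ S, Cfsg.IsIrrCharacter _ χ := fun χ hχ => (hS ▸ hχ :).1
  have hnt : ∀ χ ∈ S, NotTrivialOn (kerN K) χ := fun χ hχ => (hS ▸ hχ :).2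
  obtain ⟨χ₁, hχ₁, χ₂, hχ₂, hne⟩ := htwo
  constructor
  · rintro ⟨χ, hχ, hpm⟩
    by_contra hcon
    push Not at hcon
    obtain ⟨c, hc⟩ := star_sub_const hC hTI hS hstar hext hχ
    obtain ⟨k₀, hk₀, hne₀⟩ := hnt χ hχ
    have hk₀1 : k₀ ≠ 1 := fun h => hne₀ (by rw [h])
    obtain ⟨ξ, hξ, hneξ⟩ : ∃ ξ ∈ S, χ ≠ ξ := by
      by_cases h : χ = χ₁
      · exact ⟨χ₂, hχ₂, h ▸ hne⟩
      · exact ⟨χ₁, hχ₁, h⟩
    refine not_constant (K := kerN K) (freeOutside_kerN hC) (hi χ hχ) (hi ξ hξ) (hnt χ hχ) (hnt ξ hξ)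
      hneξ (v := χ k₀) fun k hk hk1 => ?_
    have e1 := hc χ hχ k hk hk1
    have e2 := hc χ hχ k₀ hk₀ hk₀1
    have e3 : ψ (k : G) = ψ (k₀ : G) := hcon _ hk _ hk₀ (fun h => hk1 (Subtype.ext h))
      (fun h => hk₀1 (Subtype.ext h))
    rcases hpm with rfl | rfl
    · linear_combination e2 - e1 + e3
    · simp only [Pi.neg_apply] at e3
      linear_combination e2 - e1 - e3
  · rintro ⟨a, ha, b, hb, ha1, hb1, hab⟩
    by_contra hcon
    push Not at hcon
    apply hab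
    have hzero : ∀ χ ∈ S, Cfsg.classInner ψ (star χ) = 0 := by
      intro χ hχ
      obtain ⟨η, h | h⟩ := CharInduce.IsGen.eq_irr_or_neg (hstar.2.2.2 χ (mem_zspan hχ))
        (by rw [hstar.2.2.1 _ (mem_zspan hχ) _ (mem_zspan hχ), classInner_irr (hi χ hχ) (hi χ hχ),
          if_pos rfl])
      · rw [h, classInner_irr hψ η.2, if_neg (fun he => (hcon χ hχ).1 (he.trans h.symm))]
      · rw [h, classInner_neg_right, classInner_irr hψ η.2,
          if_neg (fun he => (hcon χ hχ).2 (by rw [h, neg_neg, he])), neg_zero]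
    obtain ⟨c, hc⟩ := const_of_orth hC hS hstar hext hχ₁
      (f := fun x : ↥(Subgroup.normalizer (K : Set G)) => ψ x)
      (fun x y => by push_cast; exact IsIrr.isClassFunction hψ (x : G) (y : G))
      fun χ hχ a b ha hb => by
        rw [← CharInduce.classInner_indFun_right _ _ _ (IsIrr.isClassFunction hψ),
          pair_combination hstar hext hχ hχ₁ ha hb, classInner_sub_right, classInner_smul_right,
          classInner_smul_right, hzero χ hχ, hzero χ₁ hχ₁, mul_zero, mul_zero, sub_zero]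
    exact (hc ⟨a, Subgroup.le_normalizer ha⟩ ha (fun h => ha1 (congrArg Subtype.val h))).trans
      (hc ⟨b, Subgroup.le_normalizer hb⟩ hb (fun h => hb1 (congrArg Subtype.val h))).symm

omit [Fintype ↥(Subgroup.normalizer (K : Set G))] in
/-- a generalised character minus a character, constant on the non-identity elements of a
nontrivial subgroup, has an integer as that constant -/
theorem int_of_constant {Γ : Type u} [Group Γ] [Fintype Γ] {θ χ : Γ → ℂ}
    (hθ : Cfsg.IsGeneralizedCharacter Γ θ) (hχ : Cfsg.IsCharacter Γ χ) {v : ℂ}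
    (hv : ∀ g : Γ, g ≠ 1 → θ g - χ g = v) {g₀ : Γ} (hg₀ : g₀ ≠ 1) : ∃ z : ℤ, v = z := by
  classical
  have hg := CharInduce.IsGen.sub hθ (CharInduce.IsGen.of_char hχ)
  obtain ⟨z, hz⟩ := CharInduce.IsGen.exists_int_coeff hg (CharInduce.IsChar.one (G := Γ))
  obtain ⟨t₁, t₂, ht₁, ht₂, hteq⟩ := id hg
  obtain ⟨d₁, hd₁⟩ := IsChar.exists_degree ht₁
  obtain ⟨d₂, hd₂⟩ := IsChar.exists_degree ht₂
  have hone : (θ - χ) 1 = ((d₁ : ℂ) - d₂) := by rw [hteq]; simp [hd₁, hd₂]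
  have hsum : ∑ g : Γ, (θ - χ) g = (θ - χ) 1 + ((Fintype.card Γ : ℂ) - 1) * v := by
    rw [← Finset.add_sum_erase _ _ (Finset.mem_univ (1 : Γ))]
    congr 1
    rw [Finset.sum_congr rfl fun g hg' => show (θ - χ) g = v from hv g (Finset.mem_erase.1 hg').1,
      Finset.sum_const, Finset.card_erase_of_mem (Finset.mem_univ _), Finset.card_univ,
      nsmul_eq_mul, Nat.cast_sub (Fintype.card_pos (α := Γ)), Nat.cast_one]
  rw [classInner_def] at hz
  simp only [map_one, mul_one] at hz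
  rw [hsum, hone, Nat.card_eq_fintype_card] at hz
  have hn : (1 : ℕ) < Fintype.card Γ := Fintype.one_lt_card_iff.2 ⟨g₀, 1, hg₀⟩
  have hN : (Fintype.card Γ : ℂ) ≠ 0 := Nat.cast_ne_zero.2 (by omega)
  have hN1 : ((Fintype.card Γ : ℂ) - 1) ≠ 0 := sub_ne_zero.2 (by exact_mod_cast hn.ne')
  let r : ℚ := ((z : ℚ) * Fintype.card Γ - ((d₁ : ℚ) - d₂)) / ((Fintype.card Γ : ℚ) - 1)
  have hr : v = algebraMap ℚ ℂ r := by
    field_simp at hz
    simp only [r, map_div₀, map_sub, map_mul, map_intCast, map_natCast, map_one]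
    rw [eq_div_iff hN1]
    linear_combination hz
  have hint : IsIntegral ℤ v := by
    rw [← hv g₀ hg₀]
    obtain ⟨c₁, c₂, hc₁, hc₂, hceq⟩ := id hθ
    rw [hceq]
    exact ((IsChar.isIntegral hc₁ g₀).sub (IsChar.isIntegral hc₂ g₀)).sub (IsChar.isIntegral hχ g₀)
  rw [hr, isIntegral_algebraMap_iff (algebraMap ℚ ℂ).injective] at hint
  obtain ⟨m, hm⟩ := IsIntegrallyClosed.isIntegral_iff.1 hint
  exact ⟨m, by rw [hr, ← hm]; simp⟩

include hC hTI hS hstar hext in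
theorem exists_int_multiplier (htwo : ∃ χ ∈ S, ∃ ξ ∈ S, χ ≠ ξ) :
    ∃ m : ℤ, ∀ χ ∈ S, ∀ k : ↥(Subgroup.normalizer (K : Set G)), (k : G) ∈ K → k ≠ 1 →
      star χ k - χ k = (m : ℂ) * χ 1 /
        ((K.subgroupOf (Subgroup.normalizer (K : Set G))).index : ℂ) := by
  classical
  obtain ⟨χ₁, hχ₁, -⟩ := htwo
  obtain ⟨c, hc⟩ := star_sub_const hC hTI hS hstar hext hχ₁
  have hi : ∀ χ ∈ S, Cfsg.IsIrrCharacter _ χ := fun χ hχ => (hS ▸ hχ :).1
  obtain ⟨k₀, hk₀, hne₀⟩ := (hS ▸ hχ₁ :).2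
  have hk₀1 : k₀ ≠ 1 := fun h => hne₀ (by rw [h])
  -- `c * χ 1` is an integer
  have hint : ∀ χ ∈ S, ∃ z : ℤ, χ 1 * c = z := by
    intro χ hχ
    haveI : Fintype (kerN K) := Fintype.ofFinite _
    refine int_of_constant (Γ := kerN K)
      (θ := fun x : kerN K => star χ ((x : ↥(Subgroup.normalizer (K : Set G))) : G))
      (χ := fun x : kerN K => χ x)
      (CharInduce.IsGen.comp (hstar.2.2.2 χ (mem_zspan hχ))
        ((Subgroup.normalizer (K : Set G)).subtype.comp (kerN K).subtype))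
      (CharInduce.IsChar.res (IsIrr.isCharacter (hi χ hχ)) (kerN K))
      (fun g hg => hc χ hχ g g.2 (fun h => hg (Subtype.ext h))) (g₀ := ⟨k₀, hk₀⟩)
      (fun h => hk₀1 (congrArg Subtype.val h))
  have hdvd : ∃ z : ℤ, (Nat.card (Subgroup.normalizer (K : Set G)) : ℂ) * c = z := by
    obtain ⟨n, -, hn, hnd, -⟩ := IsIrr.degree_dvd (hi χ₁ hχ₁)
    obtain ⟨t, ht⟩ := hnd
    obtain ⟨z, hz⟩ := hint χ₁ hχ₁
    exact ⟨z * t, by rw [ht]; push_cast; rw [← hz, hn]; ring⟩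
  obtain ⟨z₀, hz₀⟩ := hdvd
  set s := Finset.univ.filter
    (fun χ : Cfsg.IrrCharacter (Subgroup.normalizer (K : Set G)) =>
      NotTrivialOn (kerN K) (χ : ↥(Subgroup.normalizer (K : Set G)) → ℂ))
  have hs : ∃ z : ℤ, (∑ χ ∈ s, (χ : ↥(Subgroup.normalizer (K : Set G)) → ℂ) 1 ^ 2) * c = z := by
    have hterm : ∀ χ ∈ s, ∃ z : ℤ, (χ : ↥(Subgroup.normalizer (K : Set G)) → ℂ) 1 ^ 2 * c = z := by
      intro χ hχ
      obtain ⟨n, -, hn⟩ := IsIrr.exists_degree χ.2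
      obtain ⟨z, hz⟩ := hint χ.1 (by rw [hS]; exact ⟨χ.2, (Finset.mem_filter.1 hχ).2⟩)
      exact ⟨n * z, by rw [sq, mul_assoc, hz, hn]; push_cast; ring⟩
    choose z hz using hterm
    exact ⟨∑ χ : s, z χ.1 χ.2, by
      rw [Finset.sum_mul, ← Finset.sum_coe_sort s]
      push_cast
      exact Finset.sum_congr rfl fun χ _ => hz χ.1 χ.2⟩
  obtain ⟨z₁, hz₁⟩ := hs
  refine ⟨z₀ - z₁, fun χ hχ k hk hk1 => ?_⟩
  have htriv := sum_sq_trivial (K := kerN K) (freeOutside_kerN hC)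
  have htot := sum_sq_degree (G := ↥(Subgroup.normalizer (K : Set G)))
  rw [← Finset.sum_filter_add_sum_filter_not Finset.univ (fun χ : Cfsg.IrrCharacter
      (Subgroup.normalizer (K : Set G)) =>
      NotTrivialOn (kerN K) (χ : ↥(Subgroup.normalizer (K : Set G)) → ℂ)), htriv] at htot
  have he : ((z₀ - z₁ : ℤ) : ℂ) = ((kerN K).index : ℂ) * c := by
    push_cast
    rw [← hz₀, ← hz₁, ← htot]
    ring
  have hidx : ((kerN K).index : ℂ) ≠ 0 := Nat.cast_ne_zero.2 Subgroup.index_ne_zero_of_finite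
  rw [hc χ hχ k hk hk1, he]
  field_simp

end Cfsg.Agent.H34
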