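import Mathlib
import Cfsg.Agent.Orthogonal.StdForms
import Cfsg.Agent.H57.Discriminant

/-!
Tensor products of bilinear forms (Gram matrix, non-degeneracy) and, over a finite field of odd
order, the discriminant criterion for a symmetric form to have a totally isotropic subspace of
half the dimension.
-/

set_option autoImplicit false

namespace Cfsg.Agent.H34

open LinearMap (BilinForm)
open Matrix Module
open scoped TensorProduct Kronecker

variable {F U W V : Type*} [Field F] [AddCommGroup U] [Module F U] [AddCommGroup W] [Module F W]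
  [AddCommGroup V] [Module F V]

/-- Gram matrix of a bilinear form in a basis -/
noncomputable def gram {ι : Type*} (B : BilinForm F V) (b : Basis ι F V) : Matrix ι ι F :=
  Matrix.of fun i j => B (b i) (b j)

theorem tmul_form_apply (B₁ : BilinForm F U) (B₂ : BilinForm F W) (u u' : U) (w w' : W) :
    (B₁.tmul B₂) (u ⊗ₜ w) (u' ⊗ₜ w') = B₁ u u' * B₂ w w' := by
  rw [LinearMap.BilinForm.tmul, LinearMap.BilinForm.tensorDistrib_tmul, smul_eq_mul, mul_comm]

theorem gram_tmul {ι κ : Type*} (B₁ : BilinForm F U) (B₂ : BilinForm F W) (b : Basis ι F U)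
    (c : Basis κ F W) : gram (B₁.tmul B₂) (b.tensorProduct c) = gram B₁ b ⊗ₖ gram B₂ c := by
  ext ⟨i, j⟩ ⟨i', j'⟩
  simp [gram, Matrix.kroneckerMap_apply, mul_comm]

theorem det_gram_ne_zero_iff {ι : Type*} [Fintype ι] [DecidableEq ι] (B : BilinForm F V)
    (b : Basis ι F V) : (gram B b).det ≠ 0 ↔ B.Nondegenerate := by
  have h : gram B b = LinearMap.BilinForm.toMatrix b B := by
    ext i j; simp [gram, LinearMap.BilinForm.toMatrix_apply]
  rw [h, LinearMap.BilinForm.nondegenerate_iff_det_ne_zero (b := b)]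

theorem nondeg_tmul [FiniteDimensional F U] [FiniteDimensional F W] {B₁ : BilinForm F U}
    {B₂ : BilinForm F W} (h₁ : B₁.Nondegenerate) (h₂ : B₂.Nondegenerate) :
    (B₁.tmul B₂).Nondegenerate := by
  classical
  let b := Module.finBasis F U
  let c := Module.finBasis F W
  refine (det_gram_ne_zero_iff _ (b.tensorProduct c)).mp ?_
  rw [gram_tmul, Matrix.det_kronecker]
  exact mul_ne_zero (pow_ne_zero _ ((det_gram_ne_zero_iff _ b).mpr h₁))
    (pow_ne_zero _ ((det_gram_ne_zero_iff _ c).mpr h₂))

theorem isSymm_tmul {B₁ : BilinForm F U} {B₂ : BilinForm F W} (h₁ : B₁.IsSymm) (h₂ : B₂.IsSymm) :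
    LinearMap.BilinForm.IsSymm (B₁.tmul B₂) :=
  ⟨fun x y => (LinearMap.IsSymm.tmul (B₁ := B₁) (B₂ := B₂) ⟨h₁.eq⟩ ⟨h₂.eq⟩).eq x y⟩

/-- a linearly independent family of mutually isotropic vectors spans an isotropic subspace -/
theorem isotropic_of_family {ι : Type*} [Fintype ι] (B : BilinForm F V) {z : ι → V}
    (hz : LinearIndependent F z) (h : ∀ i j, B (z i) (z j) = 0) :
    ∃ X : Submodule F V, finrank F X = Fintype.card ι ∧ ∀ x ∈ X, ∀ y ∈ X, B x y = 0 := by
  refine ⟨Submodule.span F (Set.range z), finrank_span_eq_card hz, fun x hx y hy => ?_⟩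
  have h1 : ∀ i, ∀ y ∈ Submodule.span F (Set.range z), B (z i) y = 0 := fun i y hy =>
    Submodule.span_le.2 (show Set.range z ⊆ (LinearMap.ker (B (z i)) : Set V) by
      rintro - ⟨j, rfl⟩; exact h i j) hy
  exact Submodule.span_le.2 (show Set.range z ⊆ (LinearMap.ker (B.flip y) : Set V) by
    rintro - ⟨j, rfl⟩; exact h1 j y hy) hx

variable [Fintype F] [FiniteDimensional F V]

/-- discriminant criterion: `V` of dimension `2n` has a totally isotropic `n`-subspace iff
`(-1)^n det G` is a square. -/
theorem isotropic_half_iff (h2 : (2 : F) ≠ 0) {B : BilinForm F V} (hB : B.Nondegenerate)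
    (hS : B.IsSymm) {n : ℕ} (hn : finrank F V = 2 * n) {ι : Type*} [Fintype ι] [DecidableEq ι]
    (b : Basis ι F V) :
    (∃ X : Submodule F V, finrank F X = n ∧ ∀ x ∈ X, ∀ y ∈ X, B x y = 0) ↔
      IsSquare ((-1 : F) ^ n * (gram B b).det) := by
  classical
  have hchange : ∀ {κ : Type} [Fintype κ] [DecidableEq κ] (c : Basis κ F V),
      (IsSquare ((-1 : F) ^ n * (gram B b).det) ↔ IsSquare ((-1 : F) ^ n * (gram B c).det)) := by
    intro κ _ _ c
    obtain ⟨d, hd, he⟩ := H57.gram_det_change B b c
    show IsSquare (_ * (Matrix.of fun i j => B (b i) (b j)).det) ↔ _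
    rw [he, ← mul_assoc, mul_comm ((-1 : F) ^ n), mul_assoc, H57.isSquare_mul_sq_iff hd]
    rfl
  constructor
  · rintro ⟨X, hX, hiso⟩
    obtain ⟨Y, hY⟩ := X.exists_isCompl
    have hYn : finrank F Y = n := by
      have := Submodule.finrank_add_eq_of_isCompl hY; omega
    let bX : Basis (Fin n) F X := Module.finBasisOfFinrankEq F X hX
    let bY : Basis (Fin n) F Y := Module.finBasisOfFinrankEq F Y hYn
    let c : Basis (Fin n ⊕ Fin n) F V := (bX.prod bY).map (Submodule.prodEquivOfIsCompl X Y hY)
    rw [hchange c]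
    have cl : ∀ i, c (.inl i) = bX i := fun i => by simp [c]
    have cr : ∀ i, c (.inr i) = bY i := fun i => by simp [c]
    let A : Matrix (Fin n) (Fin n) F := Matrix.of fun i j => B (bX i) (bY j)
    let C : Matrix (Fin n) (Fin n) F := Matrix.of fun i j => B (bY i) (bY j)
    have hG : gram B c = Matrix.fromBlocks 0 A Aᵀ C := by
      ext i j
      rcases i with i | i <;> rcases j with j | j <;>
        simp only [gram, Matrix.of_apply, cl, cr, Matrix.fromBlocks_apply₁₁,
          Matrix.fromBlocks_apply₁₂, Matrix.fromBlocks_apply₂₁, Matrix.fromBlocks_apply₂₂, A, C,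
          Matrix.transpose_apply, Matrix.zero_apply]
      · exact hiso _ (bX i).2 _ (bX j).2
      · exact hS.eq _ _
    have hJ := H57.det_hyperbolicGram (F := F) n
    have hdet : (gram B c).det * (-1) ^ n = A.det * A.det := by
      rw [hG, ← hJ, ← Matrix.det_mul, Matrix.fromBlocks_multiply]
      simp [Matrix.det_fromBlocks_zero₁₂]
    exact ⟨A.det, by rw [← hdet, mul_comm]⟩
  · intro hsq
    cases n with
    | zero => exact ⟨⊥, finrank_bot F V, fun x hx y _ => by simp [(Submodule.mem_bot F).1 hx]⟩
    | succ m =>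
      let Q : QuadraticForm F V := B.toQuadraticMap
      have hpol : ∀ x y, QuadraticMap.polar Q x y = 2 * B x y := fun x y => by
        rw [LinearMap.BilinMap.polar_toQuadraticMap, two_mul]
        exact congrArg₂ (· + ·) rfl (hS.eq y x)
      have hQ : Orthogonal.Nondeg Q := fun x hx => hB.1 x fun y => by
        have := hx y; rw [hpol] at this
        exact (mul_eq_zero.1 this).resolve_left h2
      have hBE : ∀ {V' : Type _} [AddCommGroup V'] [Module F V'] (Q' : QuadraticForm F V')
          (E : V' ≃ₗ[F] V), (∀ x, Q (E x) = Q' x) →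
          ∀ x y, B (E x) (E y) = 2⁻¹ * QuadraticMap.polar Q' x y := by
        intro V' _ _ Q' E hE x y
        have : QuadraticMap.polar Q' x y = QuadraticMap.polar Q (E x) (E y) := by
          simp only [QuadraticMap.polar, ← hE, map_add]
        rw [this, hpol, inv_mul_cancel_left₀ h2]
      rcases hQ.classify_even hn with ⟨E, hE⟩ | ⟨ζ, E, hζ, hE⟩
      · have hli : LinearIndependent F fun i => E (Orthogonal.stdE F (m + 1) i) := by
          refine LinearIndependent.map' ?_ E.toLinearMap E.ker
          have := ((Pi.basisFun F (Fin (m + 1) ⊕ Fin (m + 1))).linearIndependent.comp Sum.inl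
            Sum.inl_injective)
          have e : Orthogonal.stdE F (m + 1) =
              (Pi.basisFun F (Fin (m + 1) ⊕ Fin (m + 1))) ∘ Sum.inl := by
            funext i; simp [Orthogonal.stdE, Pi.basisFun_apply]
          rw [e]
          exact this
        obtain ⟨X, hX, hX0⟩ := isotropic_of_family B hli fun i j => by
          rw [hBE _ E hE, (Orthogonal.formPlus_frame F (m + 1)).ee i j, mul_zero]
        exact ⟨X, by simpa using hX, hX0⟩
      · exfalso
        let c := (Pi.basisFun F ((Fin m ⊕ Fin m) ⊕ Fin 2)).map E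
        rw [hchange c] at hsq
        have hG : gram B c = (2 : F)⁻¹ • (Matrix.fromBlocks
            (Matrix.fromBlocks 0 1 1 0) 0 0 !![2, 1; 1, 2 * ζ] :
              Matrix ((Fin m ⊕ Fin m) ⊕ Fin 2) ((Fin m ⊕ Fin m) ⊕ Fin 2) F) := by
          rw [← H57.gram_quadFormMinus]
          ext i j
          simp only [gram, c, Matrix.of_apply, Matrix.smul_apply, Basis.map_apply,
            Pi.basisFun_apply, smul_eq_mul]
          exact hBE _ E hE _ _
        rw [hG, Matrix.det_smul, Matrix.det_fromBlocks_zero₂₁, H57.det_hyperbolicGram,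
          Matrix.det_fin_two_of, Fintype.card_sum, Fintype.card_sum, Fintype.card_fin,
          Fintype.card_fin] at hsq
        have e : (-1 : F) ^ (m + 1) * ((2⁻¹ : F) ^ (m + m + 2) * ((-1) ^ m * (2 * (2 * ζ) - 1 * 1)))
            = ((2⁻¹ : F) ^ (m + 1)) ^ 2 * (1 - 4 * ζ) := by
          have h1 : ((-1 : F) ^ m) * (-1) ^ m = 1 := by
            rw [← pow_add, ← two_mul, pow_mul, neg_one_sq, one_pow]
          rw [← pow_mul, show (m + 1) * 2 = m + m + 2 by omega, pow_succ (-1 : F) m]
          linear_combination ((2⁻¹ : F) ^ (m + m + 2) * (1 - 4 * ζ)) * h1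
        rw [e, H57.isSquare_mul_sq_iff (pow_ne_zero _ (inv_ne_zero h2))] at hsq
        obtain ⟨s, hs⟩ := hsq
        refine hζ ((-1 + s) / 2) ?_
        field_simp
        linear_combination -hs

end Cfsg.Agent.H34
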