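import Mathlib

/-! Rank-one matrices and conjugation of transvections into the first-column root group. -/

set_option autoImplicit false

namespace Cfsg.Agent.H34

open Matrix

/-- A matrix of rank at most one is an outer product. -/
theorem exists_eq_vecMulVec_of_rank_le_one {F : Type*} [Field F] {ι κ : Type*} [Fintype κ]
    [DecidableEq κ] [Fintype ι]
    (M : Matrix ι κ F) (h : M.rank ≤ 1) : ∃ (a : ι → F) (b : κ → F), M = vecMulVec a b := by
  have h' : Module.finrank F (LinearMap.range M.mulVecLin) ≤ 1 := h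
  obtain ⟨a, ha⟩ := finrank_le_one_iff.mp h'
  have : ∀ j, ∃ c : F, c • (a : ι → F) = M *ᵥ Pi.single j 1 := by
    intro j
    obtain ⟨c, hc⟩ := ha ⟨M *ᵥ Pi.single j 1, Pi.single j 1, rfl⟩
    exact ⟨c, by simpa using congrArg Subtype.val hc⟩
  choose b hb using this
  refine ⟨a, b, ?_⟩
  ext i j
  have := congrFun (hb j) i
  simpa [vecMulVec_apply, mul_comm] using this.symm

/-- A non-zero row vector is the first row of some matrix of determinant one. -/
theorem exists_sl_first_row {F : Type*} [Field F] {n : ℕ} (b : Fin (n + 2) → F) (hb : b ≠ 0) :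
    ∃ A : Matrix.SpecialLinearGroup (Fin (n + 2)) F, (A : Matrix (Fin (n + 2)) (Fin (n + 2)) F) 0 = b := by
  classical
  obtain ⟨k, hk⟩ := Function.ne_iff.mp hb
  simp only [Pi.zero_apply] at hk
  set U : Matrix (Fin (n + 2)) (Fin (n + 2)) F :=
    (1 : Matrix (Fin (n + 2)) (Fin (n + 2)) F).updateRow k b with hU
  have hUdet : U.det = b k := by
    have hsum : (∑ i, b i • (1 : Matrix (Fin (n + 2)) (Fin (n + 2)) F) i) = b := by
      ext j
      simp [Finset.sum_apply, Matrix.one_apply]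
    have := det_updateRow_sum (1 : Matrix (Fin (n + 2)) (Fin (n + 2)) F) k b
    rw [hsum] at this
    simpa [hU] using this
  set V : Matrix (Fin (n + 2)) (Fin (n + 2)) F := U.submatrix (Equiv.swap 0 k) id with hV
  have hVdet : V.det ≠ 0 := by
    rw [hV, det_permute, hUdet]
    refine mul_ne_zero ?_ hk
    rcases Int.units_eq_one_or (Equiv.Perm.sign (Equiv.swap (0 : Fin (n + 2)) k)) with h | h <;>
      simp [h]
  set W : Matrix (Fin (n + 2)) (Fin (n + 2)) F := V.updateRow 1 (V.det⁻¹ • V 1) with hW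
  have hWdet : W.det = 1 := by
    rw [hW, det_updateRow_smul, updateRow_eq_self, inv_mul_cancel₀ hVdet]
  refine ⟨⟨W, hWdet⟩, ?_⟩
  ext j
  show W 0 j = b j
  rw [hW, updateRow_ne (by simp : (0 : Fin (n + 2)) ≠ 1), hV, submatrix_apply, id,
    Equiv.swap_apply_left, hU, updateRow_self]

/-- A determinant-one matrix `1 + M` with `M` non-zero of rank at most one and square zero is
conjugate to `1 + v e₀ᵀ` with `v 0 = 0`. -/
theorem conj_to_first_column {F : Type*} [Field F] {n : ℕ}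
    (t : Matrix.SpecialLinearGroup (Fin (n + 2)) F)
    (hr : ((t : Matrix (Fin (n + 2)) (Fin (n + 2)) F) - 1).rank ≤ 1)
    (hne : (t : Matrix (Fin (n + 2)) (Fin (n + 2)) F) ≠ 1)
    (hsq : ((t : Matrix (Fin (n + 2)) (Fin (n + 2)) F) - 1) * ((t : Matrix (Fin (n + 2)) (Fin (n + 2)) F) - 1) = 0) :
    ∃ (g : Matrix.SpecialLinearGroup (Fin (n + 2)) F) (v : Fin (n + 2) → F), v 0 = 0 ∧ v ≠ 0 ∧
      ((g⁻¹ * t * g : Matrix.SpecialLinearGroup (Fin (n + 2)) F) : Matrix (Fin (n + 2)) (Fin (n + 2)) F) =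
        1 + vecMulVec v (Pi.single 0 1) := by
  obtain ⟨a, b, hab⟩ := exists_eq_vecMulVec_of_rank_le_one _ hr
  have hMne : (t : Matrix (Fin (n + 2)) (Fin (n + 2)) F) - 1 ≠ 0 := sub_ne_zero.mpr hne
  have hb : b ≠ 0 := fun h => hMne (by rw [hab, h]; ext; simp [vecMulVec_apply])
  have ha : a ≠ 0 := fun h => hMne (by rw [hab, h]; ext; simp [vecMulVec_apply])
  have hdot : b ⬝ᵥ a = 0 := by
    rw [hab, vecMulVec_mul_vecMulVec] at hsq
    obtain ⟨i, hi⟩ := Function.ne_iff.mp ha
    obtain ⟨j, hj⟩ := Function.ne_iff.mp hb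
    have := congrFun (congrFun hsq i) j
    simp only [vecMulVec_apply, Pi.smul_apply, smul_eq_mul, Matrix.zero_apply] at this
    rcases mul_eq_zero.mp this with h | h
    · exact absurd h hi
    · rcases mul_eq_zero.mp h with h' | h'
      · exact h'
      · exact absurd h' hj
  obtain ⟨A, hA⟩ := exists_sl_first_row b hb
  refine ⟨A⁻¹, (A : Matrix (Fin (n + 2)) (Fin (n + 2)) F) *ᵥ a, ?_, ?_, ?_⟩
  · show (fun j => (A : Matrix (Fin (n + 2)) (Fin (n + 2)) F) 0 j) ⬝ᵥ a = 0
    rw [← hdot]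
    exact congrArg (· ⬝ᵥ a) hA
  · intro h
    apply ha
    have hh := congrArg ((A : Matrix (Fin (n + 2)) (Fin (n + 2)) F).adjugate *ᵥ ·) h
    simpa [mulVec_mulVec, adjugate_mul, A.2] using hh
  · have h1 : (A : Matrix (Fin (n + 2)) (Fin (n + 2)) F) * (A⁻¹ : Matrix.SpecialLinearGroup (Fin (n + 2)) F) = 1 := by
      exact congrArg Subtype.val (mul_inv_cancel A)
    have ht : (t : Matrix (Fin (n + 2)) (Fin (n + 2)) F) = 1 + vecMulVec a b := by
      rw [← hab]; abel
    have hb' : b = Pi.single 0 1 ᵥ* (A : Matrix (Fin (n + 2)) (Fin (n + 2)) F) := by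
      rw [single_one_vecMul]; exact hA.symm
    rw [inv_inv]
    show (A : Matrix (Fin (n + 2)) (Fin (n + 2)) F) * t * (A⁻¹ : Matrix.SpecialLinearGroup (Fin (n + 2)) F) = _
    rw [ht, mul_add, add_mul, mul_one, h1, mul_vecMulVec, vecMulVec_mul]
    congr 2
    rw [hb', vecMul_vecMul, h1, vecMul_one]

end Cfsg.Agent.H34
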