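import Cfsg.Agent.H44.Centralizer

/-!
A counting certificate for the elements conjugating a permutation table into a given power of
it, and the resulting bound on the normaliser of a cyclic subgroup.
-/

set_option autoImplicit false

namespace Cfsg.Agent.H34.TwistCount

open Cfsg Cfsg.Agent.Golay Cfsg.Agent.H44
open scoped Pointwise

/-- Pairs (point, image) on the cycles, for a map conjugating `X` into `X ^ j`. -/
def twPairs (X n j : ℕ) (reps ims : List ℕ) : List (ℕ × ℕ) :=
  (reps.zip ims).flatMap fun rj =>
    (List.range n).map fun i => (iterTbl X i rj.1, iterTbl X (i * j % n) rj.2)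

/-- The possible images of the representatives. -/
def twChoices (F X n j : ℕ) (reps : List ℕ) : List (List ℕ) :=
  choices (reps.map fun r => (maskElems (cellOf (fixedSets [] F) r)).filter fun c =>
    (List.range n).all fun i => (iterTbl X i r == r) == (iterTbl X (i * j % n) c == c))

/-- The choices not shown to be impossible by their witness. -/
def survivors (F X n j : ℕ) (reps : List ℕ) : List (List ℕ) → List ℕ → List (List ℕ)
  | [], _ => []
  | ims :: t, w =>
      if obstructedAt (fixPairs F ++ twPairs X n j reps ims) (w.headD 0) then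
        survivors F X n j reps t w.tail
      else ims :: survivors F X n j reps t w.tail

lemma mem_survivors (F X n j : ℕ) (reps : List ℕ) : ∀ (L : List (List ℕ)) (w : List ℕ) (ims),
    ims ∈ L → (∀ o, obstructedAt (fixPairs F ++ twPairs X n j reps ims) o = false) →
      ims ∈ survivors F X n j reps L w
  | [], _, _, h, _ => by simp at h
  | a :: t, w, ims, hm, hno => by
    rw [survivors]
    rcases List.mem_cons.1 hm with rfl | hm
    · rw [hno]; simp
    · split
      · exact mem_survivors F X n j reps t w.tail ims hm hno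
      · exact List.mem_cons_of_mem _ (mem_survivors F X n j reps t w.tail ims hm hno)

/-- The data of the certificate: one exponent and witness list per unit. -/
def checkNorm (F X n : ℕ) (reps : List ℕ) (data : List (ℕ × List ℕ)) (B : ℕ) : Bool :=
  inStab [] F X && (reps.all fun r => r < 24) && (0 < n) &&
    isTrivialStab [] (F ||| srcMask (twPairs X n 1 reps reps)) &&
    ((List.range 24).all fun i => iterTbl X n i == i) &&
    ((List.range n).all fun k => Nat.gcd k n != 1 || (data.map fun d => d.1).contains k) &&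
    decide ((data.map fun d => (survivors F X n d.1 reps (twChoices F X n d.1 reps) d.2).length).sum
      ≤ B)

theorem card_twist_le {F X n j : ℕ} {reps wit : List ℕ} (hXs : inStab [] F X = true)
    (hr : ∀ r ∈ reps, r < 24) (_hn : 0 < n)
    (hrig : isTrivialStab [] (F ||| srcMask (twPairs X n 1 reps reps)) = true)
    (hit : ((List.range 24).all fun i => iterTbl X n i == i) = true) (A : Set (Equiv.Perm GolayPt))
    (hA : ∀ σ ∈ A, σ ∈ stabGrp [] F ∧ σ * mkPerm X = mkPerm X ^ j * σ) :
    Nat.card A ≤ (survivors F X n j reps (twChoices F X n j reps) wit).length := by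
  classical
  have hX : validT X = true := by
    simp only [inStab, Bool.and_eq_true] at hXs; exact validT_of_inM24 hXs.1.1
  have hXn : mkPerm X ^ n = 1 := Equiv.ext fun z => by
    have h' := List.all_eq_true.1 hit (idx z) (List.mem_range.2 (idx_lt z))
    rw [beq_iff_eq, iterTbl_spec hX n (idx_lt z), pt_idx] at h'
    exact idx_injective h'
  have hit' : ∀ (k : ℕ) {i : ℕ}, i < 24 → iterTbl X k i = idx ((mkPerm X ^ k) (pt i)) :=
    fun k i hi => iterTbl_spec hX k hi
  have hcomm : ∀ σ ∈ A, ∀ (k : ℕ) z, σ ((mkPerm X ^ k) z) = (mkPerm X ^ (k * j % n)) (σ z) := by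
    intro σ hσ k z
    have h1 : σ * mkPerm X ^ k = (mkPerm X ^ j) ^ k * σ :=
      SemiconjBy.pow_right (hA σ hσ).2 k
    rw [← pow_eq_pow_mod (k * j) hXn, mul_comm k j, pow_mul]
    exact Equiv.congr_fun h1 z
  let f : Equiv.Perm GolayPt → List ℕ := fun σ => reps.map fun r => idx (σ (pt r))
  have hmem : ∀ σ ∈ A, f σ ∈ survivors F X n j reps (twChoices F X n j reps) wit := by
    intro σ hσ
    have hσs := (hA σ hσ).1
    refine mem_survivors F X n j reps _ _ _ ?_ fun o => ?_
    · refine mem_choices_map reps fun r hrr => ?_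
      rw [maskElems, List.mem_filter, List.mem_filter]
      refine ⟨⟨List.mem_range.2 (idx_lt _),
        testBit_cellOf (fun o ho => smul_fixedSets hσs ho) (hr r hrr)⟩, ?_⟩
      rw [List.all_eq_true]
      intro i _
      rw [hit' i (hr r hrr), hit' _ (idx_lt _), pt_idx, ← hcomm σ hσ i (pt r), beq_iff_eq,
        Bool.eq_iff_iff, beq_iff_eq, beq_iff_eq]
      conv_lhs => rhs; rw [← idx_pt r (hr r hrr)]
      rw [idx_injective.eq_iff, idx_injective.eq_iff, σ.injective.eq_iff]
    · refine not_obstructed hσs.1 (fun ab hab => ?_) o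
      rcases List.mem_append.1 hab with hab | hab
      · obtain ⟨i, hi, rfl⟩ := List.mem_map.1 hab
        rw [maskElems, List.mem_filter, List.mem_range] at hi
        exact ⟨hi.1, hi.1, hσs.2.2 _ (by rw [mem_ptSet, idx_pt i hi.1]; exact hi.2)⟩
      · simp only [twPairs, List.mem_flatMap, List.mem_map] at hab
        obtain ⟨rj, hrj, k, -, rfl⟩ := hab
        simp only [f, List.zip_map_right, List.mem_map] at hrj
        obtain ⟨⟨a, b⟩, hzp, rfl⟩ := hrj
        obtain ⟨i, hi, hi'⟩ := List.mem_iff_getElem.1 hzp
        rw [List.getElem_zip] at hi'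
        obtain ⟨rfl, rfl⟩ := Prod.mk.injEq .. ▸ hi'
        have hlt := hr _ (List.getElem_mem (by simpa using hi : i < reps.length))
        simp only [Prod.map_apply, id_eq]
        rw [hit' k hlt, hit' _ (idx_lt _), pt_idx, pt_idx, pt_idx]
        exact ⟨idx_lt _, idx_lt _, hcomm σ hσ k _⟩
  have hinj : ∀ σ ∈ A, ∀ τ ∈ A, f σ = f τ → σ = τ := by
    intro σ hσ τ hτ he
    have hrep : ∀ r ∈ reps, σ (pt r) = τ (pt r) := fun r hrr =>
      idx_injective (List.map_inj_left.1 he r hrr)
    have hm := mul_mem (inv_mem (hA τ hτ).1) (hA σ hσ).1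
    have hbot : τ⁻¹ * σ ∈ stabGrp [] (F ||| srcMask (twPairs X n 1 reps reps)) := by
      refine ⟨hm.1, hm.2.1, fun z hz => ?_⟩
      rw [ptSet_or, Finset.mem_union] at hz
      rcases hz with hz | hz
      · exact hm.2.2 z hz
      · rw [mem_ptSet, testBit_srcMask] at hz
        obtain ⟨ab, hab, hz⟩ := hz
        simp only [twPairs, List.mem_flatMap, List.mem_map] at hab
        obtain ⟨rj, hrj, i, -, rfl⟩ := hab
        have h1 : rj.1 ∈ reps := (List.of_mem_zip hrj).1
        have hz' : z = (mkPerm X ^ i) (pt rj.1) := by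
          rw [← pt_idx z, ← hz]
          simp only [hit' i (hr _ h1), pt_idx]
        rw [hz', Equiv.Perm.mul_apply, Equiv.Perm.coe_inv, Equiv.symm_apply_eq, hcomm σ hσ i,
          hcomm τ hτ i, hrep _ h1]
    rw [stabGrp_eq_bot' hrig, Subgroup.mem_bot, inv_mul_eq_one] at hbot
    exact hbot.symm
  calc Nat.card A ≤ Nat.card ((survivors F X n j reps (twChoices F X n j reps) wit).toFinset) :=
        Nat.card_le_card_of_injective (fun σ : A => ⟨f σ, List.mem_toFinset.2 (hmem _ σ.2)⟩)
          fun a b h => Subtype.ext (hinj _ a.2 _ b.2 (congrArg Subtype.val h))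
    _ ≤ _ := by
        rw [Nat.card_eq_fintype_card, Fintype.card_coe]
        exact List.toFinset_card_le _

/-- The bound on the normaliser of the cyclic subgroup of a table. -/
theorem card_normalizer_le {F X n B : ℕ} {reps : List ℕ} {data : List (ℕ × List ℕ)}
    (h : checkNorm F X n reps data B = true) {H : Subgroup (Equiv.Perm GolayPt)}
    (hH : H ≤ stabGrp [] F) {u : H} (hu : (u : Equiv.Perm GolayPt) = mkPerm X)
    (ho : orderOf u = n) :
    Nat.card (Subgroup.normalizer (Subgroup.zpowers u : Set H)) ≤ B := by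
  classical
  simp only [checkNorm, Bool.and_eq_true, List.all_eq_true, decide_eq_true_eq, List.mem_range,
    Bool.or_eq_true, bne_iff_ne, List.contains_iff_mem] at h
  obtain ⟨⟨⟨⟨⟨⟨hXs, hr⟩, hn⟩, hrig⟩, hit⟩, hcov⟩, hsum⟩ := h
  have hit' : ((List.range 24).all fun i => iterTbl X n i == i) = true := by
    rw [List.all_eq_true]; exact fun i hi => hit i (List.mem_range.1 hi)
  set N := Subgroup.normalizer (Subgroup.zpowers u : Set H)
  let A : ℕ → Set (Equiv.Perm GolayPt) := fun j =>
    {σ | σ ∈ stabGrp [] F ∧ σ * mkPerm X = mkPerm X ^ j * σ}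
  have hN : ∀ c : N, ∃ d : Fin data.length, ((c : H) : Equiv.Perm GolayPt) ∈ A (data.get d).1 := by
    intro c
    have h1 : (c : H) * u * (c : H)⁻¹ ∈ Subgroup.zpowers u :=
      (Subgroup.mem_normalizer_iff.1 c.2 u).1 (Subgroup.mem_zpowers u)
    rw [mem_zpowers_iff_mem_range_orderOf, Finset.mem_image] at h1
    obtain ⟨k, hk, hku⟩ := h1
    rw [Finset.mem_range, ho] at hk
    have hgcd : Nat.gcd k n = 1 := by
      have h2 : orderOf (u ^ k) = n := by
        rw [hku, ← MulAut.conj_apply, MulEquiv.orderOf_eq, ho]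
      rw [orderOf_pow, ho, Nat.div_eq_self] at h2
      rw [Nat.gcd_comm]
      exact h2.resolve_left hn.ne'
    have hkd := (hcov k hk).resolve_left (by simp [hgcd])
    obtain ⟨d, hd, hdk⟩ := List.mem_map.1 hkd
    obtain ⟨i, hi, hid⟩ := List.mem_iff_getElem.1 hd
    refine ⟨⟨i, hi⟩, hH (c : H).2, ?_⟩
    rw [List.get_eq_getElem, hid, hdk, ← hu]
    have h3 := congrArg (fun x : H => (x : Equiv.Perm GolayPt)) hku
    simp only [Subgroup.coe_pow, Subgroup.coe_mul, Subgroup.coe_inv] at h3
    rw [h3, inv_mul_cancel_right]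
  choose d hd using hN
  calc Nat.card N ≤ Nat.card (Σ i : Fin data.length, A (data.get i).1) :=
        Nat.card_le_card_of_injective (fun c => ⟨d c, ⟨_, hd c⟩⟩) fun a b e => by
          have e2 := congrArg (fun s : Σ i : Fin data.length, A (data.get i).1 =>
            (s.2 : Equiv.Perm GolayPt)) e
          exact Subtype.ext (Subtype.ext e2)
    _ = ∑ i, Nat.card (A (data.get i).1) := Nat.card_sigma
    _ ≤ ∑ i, (survivors F X n (data.get i).1 reps (twChoices F X n (data.get i).1 reps)
          (data.get i).2).length :=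
        Finset.sum_le_sum fun i _ => card_twist_le hXs hr hn hrig hit' _ fun σ hσ => hσ
    _ ≤ B := by
        refine le_trans (le_of_eq ?_) hsum
        rw [← List.sum_ofFn]
        congr 1
        conv_rhs => rw [← List.ofFn_get data]
        rw [List.map_ofFn]
        rfl

end Cfsg.Agent.H34.TwistCount
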