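import Cfsg.Agent.H34.TwistCount

/-!
A form of the twist count that is cheaper for the kernel, to check one exponent at a time.
-/

set_option autoImplicit false

namespace Cfsg.Agent.H34.TwistCount

open Cfsg Cfsg.Agent.Golay Cfsg.Agent.H44

/-- The obstruction, with shared masks. -/
def obsFast (l : List (ℕ × ℕ)) (o : ℕ) : Bool :=
  forceN (imgMask l fullMask) fun im => forceN (imgMask l o) fun io =>
  popCnt im != popCnt (srcMask l) ||
    (octadList.contains o && !(octadList.any fun o' => Nat.beq (o' &&& im) io))

lemma obsFast_eq (l : List (ℕ × ℕ)) (o : ℕ) : obsFast l o = obstructedAt l o := by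
  have hb : ∀ a b : ℕ, Nat.beq a b = (a == b) := fun a b =>
    Bool.eq_iff_iff.2 (by simp [Nat.beq_eq])
  simp only [obsFast, obstructedAt, forceN_eq, hb]

/-- The survivors, with the cheaper obstruction. -/
def survFast (F X n j : ℕ) (reps : List ℕ) : List (List ℕ) → List ℕ → List (List ℕ)
  | [], _ => []
  | ims :: t, w =>
      if obsFast (fixPairs F ++ twPairs X n j reps ims) (w.headD 0) then
        survFast F X n j reps t w.tail
      else ims :: survFast F X n j reps t w.tail

lemma survFast_eq (F X n j : ℕ) (reps : List ℕ) :
    ∀ (L : List (List ℕ)) (w : List ℕ),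
      survivors F X n j reps L w = survFast F X n j reps L w
  | [], _ => rfl
  | _ :: t, w => by
    rw [survivors, survFast, obsFast_eq, survFast_eq F X n j reps t w.tail]

/-- The number of survivors for one exponent. -/
def survCount (F X n j : ℕ) (reps wit : List ℕ) : ℕ :=
  (survFast F X n j reps (twChoices F X n j reps) wit).length

/-- The certificate assembled from its parts. -/
theorem checkNorm_of_counts {F X n B : ℕ} {reps : List ℕ} {data : List (ℕ × List ℕ)}
    (h : (inStab [] F X && (reps.all fun r => r < 24) && (0 < n) &&
      isTrivialStab [] (F ||| srcMask (twPairs X n 1 reps reps)) &&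
      ((List.range 24).all fun i => iterTbl X n i == i) &&
      ((List.range n).all fun k => Nat.gcd k n != 1 || (data.map fun d => d.1).contains k)) = true)
    (hs : (data.map fun d => survCount F X n d.1 reps d.2).sum ≤ B) :
    checkNorm F X n reps data B = true := by
  rw [checkNorm, Bool.and_eq_true, decide_eq_true_eq]
  refine ⟨h, le_trans (le_of_eq ?_) hs⟩
  simp only [survCount, survFast_eq]

end Cfsg.Agent.H34.TwistCount
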